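import Cfsg.Agent.Lib.Phan.Stage
import Cfsg.Agent.Lib.BoundedPres.SLn

/-!
Relabelling of coordinates in special unitary groups of the standard form, and even permutation matrices.
-/

set_option autoImplicit false
set_option linter.unusedSectionVars false
set_option linter.unusedSimpArgs false
set_option linter.style.haveILetI false
set_option linter.style.show false

namespace Cfsg.Agent.SUGlue

open Matrix Equiv
open Cfsg.Agent.Phan (emb emb_in emb_out emb_fix bv)
open Cfsg.Agent.AutPSU (act act_mul act_inv_act act_act_inv ext_act act_pres)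

variable {F : Type*} [Field F] [Fintype F] {q n k : ℕ}

local notation "SU[" m "]" => Cfsg.SU m F q
local notation "SL[" m "]" => Matrix.SpecialLinearGroup (Fin m) F

/-- Relabelling the coordinates. -/
noncomputable def mm (σ : Perm (Fin k)) : SU[k] →* SU[k] where
  toFun s := ⟨⟨(s.1.1).submatrix σ.symm σ.symm, by rw [Matrix.det_submatrix_equiv_self]; exact s.1.2⟩, by
    intro u v
    show AutPSU.h (q := q) ((s.1.1).submatrix σ.symm σ.symm *ᵥ u) ((s.1.1).submatrix σ.symm σ.symm *ᵥ v) =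
      AutPSU.h (q := q) u v
    rw [Matrix.submatrix_mulVec_equiv, Matrix.submatrix_mulVec_equiv]
    show ∑ i, (s.1.1 *ᵥ (u ∘ σ)) (σ.symm i) * (s.1.1 *ᵥ (v ∘ σ)) (σ.symm i) ^ q = ∑ i, u i * v i ^ q
    rw [Equiv.sum_comp σ.symm (fun i => (s.1.1 *ᵥ (u ∘ σ)) i * (s.1.1 *ᵥ (v ∘ σ)) i ^ q),
      ← Equiv.sum_comp σ (fun i => u i * v i ^ q)]
    exact s.2 (u ∘ σ) (v ∘ σ)⟩
  map_one' := Subtype.ext (Subtype.ext (Matrix.submatrix_one_equiv _))
  map_mul' s t := Subtype.ext (Subtype.ext (Matrix.submatrix_mul_equiv s.1.1 t.1.1 _ _ _).symm)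

theorem act_mm (σ : Perm (Fin k)) (s : SU[k]) (v : Fin k → F) (i : Fin k) :
    act (mm σ s) v i = act s (fun j => v (σ j)) (σ.symm i) := by
  show ((s.1.1).submatrix σ.symm σ.symm *ᵥ v) i = _
  rw [Matrix.submatrix_mulVec_equiv]
  rfl

theorem mm_one (s : SU[k]) : mm (1 : Perm (Fin k)) s = s := Subtype.ext (Subtype.ext rfl)

theorem mm_mul (σ τ : Perm (Fin k)) (s : SU[k]) : mm (σ * τ) s = mm σ (mm τ s) := Subtype.ext (Subtype.ext rfl)

/-- Relabelling moves blocks to blocks. -/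
theorem mm_emb (σ : Perm (Fin n)) (π : Perm (Fin k)) {o o' : ℕ} (ho : o + k ≤ n) (ho' : o' + k ≤ n)
    (h : ∀ a : Fin k, (σ ⟨o + a, by omega⟩ : ℕ) = o' + π a) (s : SU[k]) :
    mm σ (emb o ho s) = emb o' ho' (mm π s) := by
  refine ext_act fun v => funext fun i => ?_
  have hσ : ∀ a : Fin k, σ ⟨o + a, by omega⟩ = ⟨o' + π a, by omega⟩ := fun a => Fin.ext (h a)
  rw [act_mm]
  by_cases hi : (i : ℕ) < o' ∨ o' + k ≤ i
  · rw [emb_out o' ho' _ v hi, emb_out o ho s _ ?_, Equiv.apply_symm_apply]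
    by_contra hc
    push Not at hc
    obtain ⟨a, ha⟩ : ∃ a : Fin k, (σ.symm i : ℕ) = o + a := ⟨⟨(σ.symm i : ℕ) - o, by omega⟩, by simp; omega⟩
    have := hσ a
    rw [show (⟨o + a, by omega⟩ : Fin n) = σ.symm i from Fin.ext ha.symm, Equiv.apply_symm_apply] at this
    have h1 := congrArg Fin.val this
    simp only at h1
    have := (π a).2
    omega
  · push Not at hi
    obtain ⟨b, hb⟩ : ∃ b : Fin k, (i : ℕ) = o' + b := ⟨⟨(i : ℕ) - o', by omega⟩, by simp; omega⟩
    have hib : σ.symm i = ⟨o + π.symm b, by omega⟩ := by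
      rw [Equiv.symm_apply_eq, hσ]
      exact Fin.ext (by simp [hb])
    rw [emb_in o' ho' _ v b i hb, act_mm, emb_in o ho s _ (π.symm b) _ (congrArg Fin.val hib)]
    congr 1
    congr 1
    funext a
    rw [hσ]

/-- Even permutation matrices. -/
noncomputable def pm (n : ℕ) (F : Type*) [Field F] [Fintype F] (q : ℕ) :
    alternatingGroup (Fin n) →* ↥(Cfsg.SU n F q) :=
  (BoundedPres.pm n F).codRestrict _ fun σ => by
    intro u v
    show AutPSU.h (q := q) (((σ : Perm (Fin n))⁻¹).permMatrix F *ᵥ u)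
      (((σ : Perm (Fin n))⁻¹).permMatrix F *ᵥ v) = AutPSU.h (q := q) u v
    rw [Matrix.permMatrix_mulVec, Matrix.permMatrix_mulVec]
    exact Equiv.sum_comp (σ : Perm (Fin n))⁻¹ (fun i => u i * v i ^ q)

theorem act_pm (σ : alternatingGroup (Fin n)) (v : Fin n → F) (i : Fin n) :
    act (pm n F q σ) v i = v ((σ : Perm (Fin n))⁻¹ i) := by
  show (((σ : Perm (Fin n))⁻¹).permMatrix F *ᵥ v) i = _
  rw [Matrix.permMatrix_mulVec]
  rfl

theorem pm_conj (σ : alternatingGroup (Fin n)) (s : SU[n]) :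
    pm n F q σ * s * (pm n F q σ)⁻¹ = mm (σ : Perm (Fin n)) s := by
  refine mul_inv_eq_iff_eq_mul.2 (ext_act fun v => funext fun i => ?_)
  rw [act_mul, act_mul, act_pm, act_mm]
  simp only [act_pm, Perm.inv_def, Equiv.symm_apply_apply]

/-- An even permutation of a block gives the embedded permutation matrix. -/
theorem pm_emb (σ : alternatingGroup (Fin n)) (π : alternatingGroup (Fin k)) {o : ℕ} (ho : o + k ≤ n)
    (h : ∀ a : Fin k, ((σ : Perm (Fin n)) ⟨o + a, by omega⟩ : ℕ) = o + (π : Perm (Fin k)) a)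
    (hf : ∀ i : Fin n, ((i : ℕ) < o ∨ o + k ≤ i) → (σ : Perm (Fin n)) i = i) :
    pm n F q σ = emb o ho (pm k F q π) := by
  refine ext_act fun v => funext fun i => ?_
  rw [act_pm]
  by_cases hi : (i : ℕ) < o ∨ o + k ≤ i
  · rw [emb_out o ho _ v hi, Perm.inv_eq_iff_eq.2 (hf i hi).symm]
  · push Not at hi
    obtain ⟨b, hb⟩ : ∃ b : Fin k, (i : ℕ) = o + b := ⟨⟨(i : ℕ) - o, by omega⟩, by simp; omega⟩
    have hib : (σ : Perm (Fin n))⁻¹ i = ⟨o + (π : Perm (Fin k))⁻¹ b, by omega⟩ := by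
      rw [Perm.inv_eq_iff_eq]
      refine Fin.ext ?_
      rw [h]
      simp [hb, Perm.inv_def]
    rw [emb_in o ho _ v b i hb, act_pm, hib]

theorem emb_zero_eq (s : SU[k]) (ho : 0 + k ≤ k) : (emb 0 ho s : SU[k]) = s :=
  ext_act fun v => funext fun x => by rw [emb_in 0 ho s v x x (by simp)]; simp

end Cfsg.Agent.SUGlue
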