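import Cfsg.Agent.Lib.SUGlue.Four
import Cfsg.Agent.Lib.Classical.HermSU
import Cfsg.Agent.Lib.Compute.CosetCert
import Cfsg.Agent.Lib.Compute.TableCert

/-!
Checking identities between matrices of the special unitary group.
-/

set_option autoImplicit false
set_option linter.unusedSectionVars false
set_option linter.unusedSimpArgs false
set_option linter.style.show false

namespace Cfsg.Agent.SUGlue

open Matrix Equiv
open Cfsg.Agent.Phan (emb emb_in emb_out bv)
open Cfsg.Agent.AutPSU (act)

variable {F : Type*} [Field F] [Fintype F] {q n : ℕ}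

local notation "SU[" m "]" => Cfsg.SU m F q

theorem el_mem (hF : Fintype.card F = q ^ 2) (M : Matrix (Fin n) (Fin n) F) (hd : M.det = 1)
    (hu : Mᵀ * M.map (fun x => x ^ q) = 1) : (⟨M, hd⟩ : Matrix.SpecialLinearGroup (Fin n) F) ∈ Cfsg.SU n F q := by
  obtain ⟨σ, hσ, -⟩ := HermStd.exists_sigma hF
  refine (HermSU.mem_SU_iff hσ _).2 ?_
  show Mᵀ * M.map σ = 1
  rw [show M.map σ = M.map (fun x => x ^ q) from Matrix.ext fun i j => hσ (M i j)]
  exact hu

/-- An element from its matrix. -/
def el (hF : Fintype.card F = q ^ 2) (M : Matrix (Fin n) (Fin n) F) (hd : M.det = 1)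
    (hu : Mᵀ * M.map (fun x => x ^ q) = 1) : ↥(Cfsg.SU n F q) :=
  ⟨⟨M, hd⟩, el_mem hF M hd hu⟩

theorem su_ext {g h : ↥(Cfsg.SU n F q)} (e : g.1.1 = h.1.1) : g = h := Subtype.ext (Subtype.ext e)

/-- The matrix. -/
def matHom (n : ℕ) (F : Type*) [Field F] [Fintype F] (q : ℕ) : ↥(Cfsg.SU n F q) →* Matrix (Fin n) (Fin n) F where
  toFun g := g.1.1
  map_one' := rfl
  map_mul' _ _ := rfl

/-- A leading block in a larger identity matrix. -/
def blkMat {k : ℕ} (n : ℕ) (M : Matrix (Fin k) (Fin k) F) : Matrix (Fin n) (Fin n) F :=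
  Matrix.of fun i j => if h : (i : ℕ) < k ∧ (j : ℕ) < k then M ⟨i, h.1⟩ ⟨j, h.2⟩ else if i = j then 1 else 0

theorem emb_val {k : ℕ} (ho : 0 + k ≤ n) (s : ↥(Cfsg.SU k F q)) :
    (emb 0 ho s : SU[n]).1.1 = blkMat n s.1.1 := by
  ext i j
  have e1 : (emb 0 ho s : SU[n]).1.1 i j = act (emb 0 ho s) (bv j : Fin n → F) i := by
    show _ = ((emb 0 ho s : SU[n]).1.1 *ᵥ Pi.single j (1 : F)) i
    rw [Matrix.mulVec_single_one]; rfl
  rw [e1, blkMat, Matrix.of_apply]
  by_cases hi : (i : ℕ) < k
  · rw [emb_in 0 ho s _ ⟨i, hi⟩ i (by simp)]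
    by_cases hj : (j : ℕ) < k
    · rw [dif_pos ⟨hi, hj⟩,
        show (fun b : Fin k => (bv j : Fin n → F) ⟨0 + b, by omega⟩) = bv (⟨j, hj⟩ : Fin k) from
          funext fun b => by simp [bv, Pi.single_apply, Fin.ext_iff]]
      show (s.1.1 *ᵥ Pi.single (⟨j, hj⟩ : Fin k) (1 : F)) _ = _
      rw [Matrix.mulVec_single_one]; rfl
    · rw [dif_neg (fun h => hj h.2), show (fun b : Fin k => (bv j : Fin n → F) ⟨0 + b, by omega⟩) = 0 from
          funext fun b => by simp [bv, Pi.single_apply, Fin.ext_iff]; omega,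
        if_neg (fun e => hj (by rw [← e]; exact hi))]
      show (s.1.1 *ᵥ 0) _ = _
      rw [Matrix.mulVec_zero]; rfl
  · rw [emb_out 0 ho s _ (Or.inr (by omega)), dif_neg (fun h => hi h.1)]
    simp [bv, Pi.single_apply, eq_comm]

theorem pm_val (σ : alternatingGroup (Fin n)) :
    (pm n F q σ).1.1 = ((σ : Perm (Fin n))⁻¹).permMatrix F := rfl

section chain

variable {M : Type*} [Monoid M] [DecidableEq M]

/-- The value of a word, checked through the codes of its partial products. -/
def chk (mv dec : ℕ → M) (tgt : M) : M → List ℕ → List ℕ → Bool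
  | A, [], _ => decide (A = tgt)
  | A, x :: w, p :: ps => decide (A * mv x = dec p) && chk mv dec tgt (dec p) w ps
  | _, _ :: _, [] => false

theorem chk_spec (mv dec : ℕ → M) (tgt : M) : ∀ (A : M) (w ps : List ℕ), chk mv dec tgt A w ps = true →
    A * (w.map mv).prod = tgt
  | A, [], _, h => by simpa [chk] using h
  | A, x :: w, p :: ps, h => by
    simp only [chk, Bool.and_eq_true, decide_eq_true_eq] at h
    rw [List.map_cons, List.prod_cons, ← mul_assoc, h.1]
    exact chk_spec mv dec tgt (dec p) w ps h.2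
  | A, x :: w, [], h => by simp [chk] at h

/-- A product in a group with a checked value of its image. -/
theorem chk_hom {T : Type*} [Group T] (f : T →* M) (hf : Function.Injective f) (t : ℕ → T) (g : T) (dec : ℕ → M)
    (w ps : List ℕ) (h : chk (f ∘ t) dec (f g) 1 w ps = true) : (w.map t).prod = g := by
  refine hf ?_
  have := chk_spec _ _ _ _ _ _ h
  rw [one_mul] at this
  rw [map_list_prod, List.map_map]
  exact this

/-- Partial products along a tree: entry `j + 1` is an earlier entry times a generator. -/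
def treeChk (mv dec : ℕ → M) (k : ℕ) (codes : List ℕ) (tree : List (ℕ × ℕ)) : Bool :=
  decide (dec (codes.getD 0 0) = 1) && decide (tree.length + 1 = codes.length) &&
    (List.range tree.length).all fun j => decide ((tree.getD j (0, 0)).1 ≤ j) && decide ((tree.getD j (0, 0)).2 < k) &&
      decide (dec (codes.getD (tree.getD j (0, 0)).1 0) * mv (tree.getD j (0, 0)).2 = dec (codes.getD (j + 1) 0))

/-- As many different products as elements. -/
theorem top_of_tree {T : Type*} [Group T] [Finite T] (f : T →* M) (t : ℕ → T) (dec : ℕ → M)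
    (k : ℕ) (codes : List ℕ) (tree : List (ℕ × ℕ)) (h : treeChk (f ∘ t) dec k codes tree = true)
    (hinj : ∀ a ∈ codes, ∀ b ∈ codes, dec a = dec b → a = b) (hnd : codes.Nodup)
    (hlen : Nat.card T ≤ codes.length) : Subgroup.closure (t '' {x | x < k}) = ⊤ := by
  classical
  simp only [treeChk, Bool.and_eq_true, decide_eq_true_eq, List.all_eq_true, List.mem_range] at h
  obtain ⟨⟨h0, hl⟩, hj⟩ := h
  have hmem : ∀ j, j < codes.length → ∃ g ∈ Subgroup.closure (t '' {x | x < k}), f g = dec (codes.getD j 0) := by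
    intro j
    induction j using Nat.strong_induction_on with
    | _ j ih =>
      intro hjl
      cases j with
      | zero => exact ⟨1, one_mem _, by rw [map_one, h0]⟩
      | succ j =>
        obtain ⟨⟨h1, h2⟩, h3⟩ := hj j (by omega)
        obtain ⟨g, hg, eg⟩ := ih (tree.getD j (0, 0)).1 (by omega) (by omega)
        exact ⟨g * t (tree.getD j (0, 0)).2, mul_mem hg (Subgroup.subset_closure ⟨_, h2, rfl⟩),
          by rw [map_mul, eg]; exact h3⟩
  choose g hg eg using hmem
  let φ : Fin codes.length → Subgroup.closure (t '' {x | x < k}) := fun j => ⟨g j j.2, hg j j.2⟩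
  have hφ : Function.Injective φ := by
    intro i j e
    have e' : f (g i i.2) = f (g j j.2) := congrArg f (congrArg Subtype.val e)
    rw [eg, eg, List.getD_eq_getElem _ _ i.2, List.getD_eq_getElem _ _ j.2] at e'
    exact Fin.ext ((List.Nodup.getElem_inj_iff hnd).1 (hinj _ (List.getElem_mem _) _ (List.getElem_mem _) e'))
  refine Subgroup.eq_top_of_le_card _ ?_
  have := Nat.card_le_card_of_injective φ hφ
  rw [Nat.card_fin] at this
  omega

end chain

/-- Values of words in the pair of a product. -/
theorem wprod_prod {G H : Type*} [Group G] [Group H] (a : ℕ → G) (b : ℕ → H) (w : List ℕ) :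
    CosetCert.wprod (fun x => (a x, b x)) w = (CosetCert.wprod a w, CosetCert.wprod b w) := by
  induction w with
  | nil => rfl
  | cons x w ih =>
    simp only [CosetCert.wprod, List.map_cons, List.prod_cons] at ih ⊢
    rw [ih, Prod.mk_mul_mk]

/-- The formal product of a word. -/
def fword {S : Type*} (s : ℕ → S) (w : List ℕ) : FreeGroup S := (w.map fun x => FreeGroup.of (s x)).prod

theorem lift_fword {S G : Type*} [Group G] (f : S → G) (s : ℕ → S) (w : List ℕ) :
    FreeGroup.lift f (fword s w) = CosetCert.wprod (f ∘ s) w := by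
  induction w with
  | nil => simp [fword, CosetCert.wprod]
  | cons x w ih =>
    rw [show CosetCert.wprod (f ∘ s) (x :: w) = f (s x) * CosetCert.wprod (f ∘ s) w from List.prod_cons, fword,
      List.map_cons, List.prod_cons, map_mul, FreeGroup.lift_apply_of]
    exact congrArg _ ih

end Cfsg.Agent.SUGlue
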