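import Cfsg.Agent.Lib.Compute.TableCert

/-!
A check of coset tables with the known edges kept in one bit mask, implying `TableCert.Cert.check`.
-/

set_option autoImplicit false

namespace Cfsg.Agent.SUGlue.FastCheck

open Cfsg.Agent.TableCert

variable (C : Cert)

/-- The code of an edge. -/
def code (c l : ℕ) : ℕ := c * C.tab.length + l

/-- An edge in the range is known. -/
def okBit (m c l : ℕ) : Bool := Nat.blt c C.n && Nat.blt l C.tab.length && m.testBit (code C c l)

/-- All edges of a path are known. -/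
def knownF (m : ℕ) : ℕ → List ℕ → Bool
  | _, [] => true
  | c, l :: w => okBit C m c l && knownF m (C.next c l) w

/-- Mark an edge. -/
def mark (m : ℕ) (e : ℕ × ℕ) : ℕ :=
  bif Nat.blt e.1 C.n && Nat.blt e.2 C.tab.length then m ||| (1 <<< code C e.1 e.2) else m

/-- One deduction. -/
def stepF (m : ℕ) (s : ℕ × ℕ × ℕ) : ℕ :=
  let w := C.rels.getD s.2.1 []
  bif Nat.blt s.2.2 w.length && Nat.beq (C.endAt s.1 w) s.1 && knownF C m s.1 (w.take s.2.2) &&
      knownF C m (C.next (C.endAt s.1 (w.take s.2.2)) (w.getD s.2.2 0)) (w.drop (s.2.2 + 1))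
  then (C.withRev (C.endAt s.1 (w.take s.2.2)) (w.getD s.2.2 0)).foldl (mark C) m else m

/-- Run the deductions, forcing the mask at each step. -/
def runF : List (ℕ × ℕ × ℕ) → ℕ → ℕ
  | [], m => m
  | s :: S, m => runF S (stepF C m s)

/-- The whole check. -/
def check : Bool :=
  Nat.blt 0 C.n &&
  let m := runF C C.steps (C.start.foldl (mark C) 0)
  (List.range C.n).all fun c => (List.range C.tab.length).all fun l =>
    m.testBit (code C c l) && Nat.blt (C.next c l) C.n

/-- The marked edges are among the listed ones. -/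
def Sub (m : ℕ) (K : List (ℕ × ℕ)) : Prop :=
  ∀ c < C.n, ∀ l < C.tab.length, m.testBit (code C c l) = true → (c, l) ∈ K

variable {C}

theorem code_inj {c l c' l' : ℕ} (hl : l < C.tab.length) (hl' : l' < C.tab.length)
    (h : code C c l = code C c' l') : c = c' ∧ l = l' := by
  have hc : c = c' := by
    rcases lt_trichotomy c c' with h1 | h1 | h1
    · have := Nat.mul_le_mul_right C.tab.length (Nat.succ_le_of_lt h1)
      rw [Nat.succ_mul] at this
      simp only [code] at h
      omega
    · exact h1
    · have := Nat.mul_le_mul_right C.tab.length (Nat.succ_le_of_lt h1)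
      rw [Nat.succ_mul] at this
      simp only [code] at h
      omega
  subst hc
  simp only [code] at h
  exact ⟨rfl, by omega⟩

theorem sub_mark {m : ℕ} {K : List (ℕ × ℕ)} (h : Sub C m K) (e : ℕ × ℕ) :
    Sub C (mark C m e) (e :: K) := by
  intro c hc l hl ht
  unfold mark at ht
  cases hb : (Nat.blt e.1 C.n && Nat.blt e.2 C.tab.length) <;> rw [hb] at ht <;> simp only [cond] at ht
  · exact List.mem_cons_of_mem _ (h c hc l hl ht)
  · rw [Nat.testBit_or, Bool.or_eq_true] at ht
    rcases ht with ht | ht
    · exact List.mem_cons_of_mem _ (h c hc l hl ht)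
    · rw [Nat.one_shiftLeft, Nat.testBit_two_pow, decide_eq_true_eq] at ht
      simp only [Bool.and_eq_true, Nat.blt_eq] at hb
      obtain ⟨rfl, rfl⟩ := code_inj hb.2 hl ht
      exact List.mem_cons_self

theorem sub_foldl : ∀ (es : List (ℕ × ℕ)) {m : ℕ} {K : List (ℕ × ℕ)}, Sub C m K →
    Sub C (es.foldl (mark C) m) (es ++ K)
  | [], _, _, h => h
  | e :: es, m, K, h => by
    intro c hc l hl ht
    have h' := sub_foldl es (sub_mark h e) c hc l hl ht
    simp only [List.mem_append, List.mem_cons] at h' ⊢
    tauto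

theorem known_sub {m : ℕ} {K : List (ℕ × ℕ)} (h : Sub C m K) :
    ∀ (w : List ℕ) (c : ℕ), knownF C m c w = true → C.allKnown K c w = true
  | [], _, _ => rfl
  | l :: w, c, hk => by
    simp only [knownF, okBit, Bool.and_eq_true, Nat.blt_eq] at hk
    simp only [Cert.allKnown, Bool.and_eq_true, List.contains_iff_mem]
    exact ⟨h c hk.1.1.1 l hk.1.1.2 hk.1.2, known_sub h w _ hk.2⟩

theorem sub_step {m : ℕ} {K : List (ℕ × ℕ)} (h : Sub C m K) (s : ℕ × ℕ × ℕ) :
    Sub C (stepF C m s) (C.step K s) := by
  have hK : ∀ e ∈ K, e ∈ C.step K s := by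
    intro e he
    simp only [Cert.step]
    split
    · exact List.mem_append_right _ he
    · exact he
  simp only [stepF]
  generalize hb : (Nat.blt s.2.2 (C.rels.getD s.2.1 []).length && _ && _ && _) = b
  cases b
  · exact fun c hc l hl ht => hK _ (h c hc l hl ht)
  · simp only [Bool.and_eq_true, Nat.blt_eq, Nat.beq_eq] at hb
    obtain ⟨⟨⟨h1, h2⟩, h3⟩, h4⟩ := hb
    simp only [cond, Cert.step]
    rw [if_pos ⟨h1, h2, known_sub h _ _ h3, known_sub h _ _ h4⟩]
    exact sub_foldl _ h

theorem sub_run : ∀ (S : List (ℕ × ℕ × ℕ)) {m : ℕ} {K : List (ℕ × ℕ)}, Sub C m K →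
    Sub C (runF C S m) (S.foldl C.step K)
  | [], _, _, h => h
  | s :: S, _, _, h => sub_run S (sub_step h s)

/-- The fast check implies the check. -/
theorem check_of_fast (h : check C = true) : C.check = true := by
  simp only [check, Bool.and_eq_true, Nat.blt_eq, List.all_eq_true, List.mem_range] at h
  simp only [Cert.check, Bool.and_eq_true, decide_eq_true_eq, List.all_eq_true, List.mem_range,
    List.contains_iff_mem]
  refine ⟨h.1, fun c hc l hl => ⟨?_, (h.2 c hc l hl).2⟩⟩
  have h0 : Sub C (C.start.foldl (mark C) 0) C.start := by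
    have := sub_foldl (C := C) C.start (m := 0) (K := []) (fun c _ l _ ht => by simp at ht)
    rwa [List.append_nil] at this
  exact sub_run C.steps h0 c hc l hl (h.2 c hc l hl).1

end Cfsg.Agent.SUGlue.FastCheck
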