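import Cfsg.Agent.Lib.SUGlue.Hom
import Cfsg.Agent.Lib.Phan.TwoBase

/-!
Gluing a block of four: the embedded alternating group of degree four, the graph subgroup, and the completion for
fields with nine elements.
-/

set_option autoImplicit false
set_option linter.unusedSectionVars false
set_option linter.unusedSimpArgs false
set_option linter.style.haveILetI false
set_option linter.style.show false

namespace Cfsg.Agent.SUGlue

open Matrix Equiv
open Cfsg.Agent.Phan (emb emb_emb emb_in emb_out)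
open Cfsg.Agent.BoundedPres (pt pt_inj e3 e3_inj c3 ga gb c3_e3 swp dswap)
open Cfsg.Agent.AutPSU (Conj act ext_act)

variable {n : ℕ} (hn : 4 ≤ n)

/-- The alternating group of the first four indices. -/
def ext4 : alternatingGroup (Fin 4) →* alternatingGroup (Fin n) :=
  ((Perm.extendDomainHom (Fin.castLEquiv hn)).comp (alternatingGroup (Fin 4)).subtype).codRestrict _ fun σ =>
    Perm.mem_alternatingGroup.2 (by
      show Perm.sign ((σ : Perm (Fin 4)).extendDomain _) = 1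
      rw [Perm.sign_extendDomain]; exact Perm.mem_alternatingGroup.1 σ.2)

theorem ext4_pt (σ : alternatingGroup (Fin 4)) (a : Fin 4) :
    (ext4 hn σ : Perm (Fin n)) (pt hn a) = pt hn ((σ : Perm (Fin 4)) a) :=
  Perm.extendDomain_apply_image (σ : Perm (Fin 4)) (Fin.castLEquiv hn) a

theorem ext4_out (σ : alternatingGroup (Fin 4)) {x : Fin n} (hx : 4 ≤ (x : ℕ)) :
    (ext4 hn σ : Perm (Fin n)) x = x :=
  Perm.extendDomain_apply_not_subtype (σ : Perm (Fin 4)) (Fin.castLEquiv hn) (Nat.not_lt.2 hx)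

/-- An even permutation fixing all but the first four indices, from its values there. -/
theorem eq_ext4 (g : alternatingGroup (Fin n)) (σ : alternatingGroup (Fin 4))
    (h : ∀ a, (g : Perm (Fin n)) (pt hn a) = pt hn ((σ : Perm (Fin 4)) a))
    (hf : ∀ x : Fin n, 4 ≤ (x : ℕ) → (g : Perm (Fin n)) x = x) : ext4 hn σ = g := by
  refine Subtype.ext (Equiv.ext fun x => ?_)
  by_cases hx : (x : ℕ) < 4
  · rw [show x = pt hn ⟨x, hx⟩ from Fin.ext rfl, ext4_pt, h]
  · rw [ext4_out hn σ (by omega), hf x (by omega)]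

theorem dswap_out {a b c d : Fin 4} (hab : pt hn a ≠ pt hn b) (hcd : pt hn c ≠ pt hn d) {x : Fin n}
    (hx : 4 ≤ (x : ℕ)) : (dswap hab hcd : Perm (Fin n)) x = x := by
  have h : ∀ y : Fin 4, x ≠ pt hn y := fun y e => by
    have h1 := congrArg Fin.val e
    change (x : ℕ) = (y : ℕ) at h1
    omega
  show swap _ _ (swap _ _ x) = x
  rw [swap_apply_of_ne_of_ne (h c) (h d), swap_apply_of_ne_of_ne (h a) (h b)]

theorem dswap_pt {a b c d : Fin 4} (hab : pt hn a ≠ pt hn b) (hcd : pt hn c ≠ pt hn d) (x : Fin 4) :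
    (dswap hab hcd : Perm (Fin n)) (pt hn x) = pt hn (swap a b (swap c d x)) := by
  show swap _ _ (swap _ _ (pt hn x)) = _
  rw [swp, swp]

theorem pt_self (a : Fin 4) : pt (le_refl 4) a = a := Fin.ext rfl

theorem ext4_ga : ext4 hn (ga (le_refl 4)) = ga hn := by
  refine eq_ext4 hn _ _ (fun a => ?_) fun x hx => dswap_out hn _ _ hx
  rw [ga, dswap_pt]
  congr 1

theorem ext4_gb : ext4 hn (gb (le_refl 4)) = gb hn := by
  refine eq_ext4 hn _ _ (fun a => ?_) fun x hx => dswap_out hn _ _ hx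
  rw [gb, dswap_pt]
  congr 1

theorem ext4_c3 : ext4 hn (c3 (le_refl 4)) = c3 hn := by
  refine eq_ext4 hn _ _ (fun a => ?_) fun x hx => dswap_out hn _ _ hx
  rw [c3, dswap_pt]
  congr 1

/-- The alternating group of degree four is generated by a three cycle and an involution. -/
theorem alt4_top : Subgroup.closure ({c3 (le_refl 4), ga (le_refl 4)} : Set (alternatingGroup (Fin 4))) = ⊤ := by
  refine eq_top_iff.2 fun σ _ => ?_
  have h : ∀ σ : alternatingGroup (Fin 4), ∃ i j : Fin 3, ∃ k : Fin 2, ∃ l : Fin 3,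
      σ = c3 (le_refl 4) ^ (i : ℕ) * ga (le_refl 4) ^ (k : ℕ) * c3 (le_refl 4) ^ (j : ℕ) *
        (ga (le_refl 4) * c3 (le_refl 4)) ^ (l : ℕ) := by decide +kernel
  obtain ⟨i, j, k, l, rfl⟩ := h σ
  have m1 : c3 (le_refl 4) ∈ Subgroup.closure ({c3 (le_refl 4), ga (le_refl 4)} : Set (alternatingGroup (Fin 4))) :=
    Subgroup.subset_closure (Or.inl rfl)
  have m2 : ga (le_refl 4) ∈ Subgroup.closure ({c3 (le_refl 4), ga (le_refl 4)} : Set (alternatingGroup (Fin 4))) :=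
    Subgroup.subset_closure (Or.inr rfl)
  exact mul_mem (mul_mem (mul_mem (pow_mem m1 _) (pow_mem m2 _)) (pow_mem m1 _)) (pow_mem (mul_mem m2 m1) _)

variable {F : Type*} [Field F] [Fintype F] {q : ℕ}

local notation "SU[" m "]" => Cfsg.SU m F q

/-- The first block of three in four coordinates. -/
noncomputable def t0 : ↥(Cfsg.SU 3 F q) →* ↥(Cfsg.SU 4 F q) := emb 0 (show 0 + 3 ≤ 4 by decide)

/-- The second block of three in four coordinates. -/
noncomputable def t1 : ↥(Cfsg.SU 3 F q) →* ↥(Cfsg.SU 4 F q) := emb 1 (show 1 + 3 ≤ 4 by decide)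

variable {G : Type*} [Group G] (φ : ↥(Cfsg.SU 3 F q) →* G) (ψ : alternatingGroup (Fin n) →* G)

/-- The graph of the wanted homomorphism on the block of four. -/
noncomputable def Graph : Subgroup (↥(Cfsg.SU 4 F q) × G) :=
  ((t0 (F := F) (q := q)).prod φ).range ⊔ Subgroup.closure {(pm 4 F q (ga (le_refl 4)), ψ (ga hn))}

variable {φ ψ}

theorem graph_pm (R : Rels hn φ ψ) (σ : alternatingGroup (Fin 4)) :
    (pm 4 F q σ, ψ (ext4 hn σ)) ∈ Graph hn φ ψ := by
  have h := eq_top_iff.1 alt4_top (Subgroup.mem_top σ)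
  induction h using Subgroup.closure_induction with
  | mem x hx =>
    rcases hx with rfl | rfl
    · refine Subgroup.mem_sup_left ⟨pm 3 F q cpA, Prod.ext ?_ ?_⟩
      · show t0 (pm 3 F q cpA) = pm 4 F q (c3 (le_refl 4))
        symm
        refine pm_emb _ cpA _ (fun a => ?_) fun i hi => ?_
        · rw [show (⟨0 + (a : ℕ), by omega⟩ : Fin 4) = e3 (le_refl 4) a from Fin.ext (zero_add _), c3_e3, zero_add]
          rfl
        · revert i; decide
      · show φ (pm 3 F q cpA) = ψ (ext4 hn (c3 (le_refl 4)))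
        rw [ext4_c3, R.cyc]
    · refine Subgroup.mem_sup_right (Subgroup.subset_closure ?_)
      rw [ext4_ga]; rfl
  | one => rw [map_one, map_one, map_one]; exact one_mem _
  | mul x y _ _ hx hy =>
    rw [map_mul, map_mul, map_mul, ← Prod.mk_mul_mk]
    exact Subgroup.mul_mem _ hx hy
  | inv x _ hx =>
    rw [map_inv, map_inv, map_inv, ← Prod.inv_mk]
    exact Subgroup.inv_mem _ hx

/-- A bound on the graph gives the homomorphism on the block of four. -/
theorem exists_four (R : Rels hn φ ψ)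
    (htop : ∀ H : Subgroup ↥(Cfsg.SU 4 F q), (∀ s, t0 s ∈ H) → (∀ σ, pm 4 F q σ ∈ H) → H = ⊤)
    (hcard : Finite (Graph hn φ ψ) ∧ Nat.card (Graph hn φ ψ) ≤ Nat.card ↥(Cfsg.SU 4 F q)) :
    ∃ f4 : ↥(Cfsg.SU 4 F q) →* G, (∀ s, f4 (t0 s) = φ s) ∧ ∀ σ, f4 (pm 4 F q σ) = ψ (ext4 hn σ) := by
  haveI := hcard.1
  let p : Graph hn φ ψ →* ↥(Cfsg.SU 4 F q) := (MonoidHom.fst _ _).comp (Graph hn φ ψ).subtype
  have hm : ∀ s, (t0 s, φ s) ∈ Graph hn φ ψ := fun s => Subgroup.mem_sup_left ⟨s, rfl⟩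
  have hs : Function.Surjective p := MonoidHom.range_eq_top.1 (htop p.range
    (fun s => ⟨⟨_, hm s⟩, rfl⟩) fun σ => ⟨⟨_, graph_pm hn R σ⟩, rfl⟩)
  have hb : Function.Bijective p := (Nat.bijective_iff_surjective_and_card p).2
    ⟨hs, le_antisymm hcard.2 (Nat.card_le_card_of_surjective _ hs)⟩
  let e := MulEquiv.ofBijective p hb
  refine ⟨((MonoidHom.snd _ _).comp (Graph hn φ ψ).subtype).comp e.symm.toMonoidHom, fun s => ?_, fun σ => ?_⟩
  · show (e.symm (t0 s)).1.2 = φ s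
    rw [show e.symm (t0 s) = ⟨_, hm s⟩ from e.symm_apply_eq.2 rfl]
  · show (e.symm (pm 4 F q σ)).1.2 = ψ (ext4 hn σ)
    rw [show e.symm (pm 4 F q σ) = ⟨_, graph_pm hn R σ⟩ from e.symm_apply_eq.2 rfl]

theorem pair_four : ∀ i : Fin 3, ∃ σ : alternatingGroup (Fin 4),
    ((σ : Perm (Fin 4)) 0 : ℕ) = i ∧ ((σ : Perm (Fin 4)) 1 : ℕ) = i + 1 := by decide +kernel

theorem triple_four : ∃ σ : alternatingGroup (Fin 4),
    (σ : Perm (Fin 4)) 0 = 3 ∧ (σ : Perm (Fin 4)) 1 = 2 ∧ (σ : Perm (Fin 4)) 2 = 1 := by decide +kernel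

/-- The blocks of two of the block of four are conjugates of the first. -/
theorem four_blk (R : Rels hn φ ψ) (f4 : ↥(Cfsg.SU 4 F q) →* G) (h0 : ∀ s, f4 (t0 s) = φ s)
    (hA : ∀ σ, f4 (pm 4 F q σ) = ψ (ext4 hn σ)) {o : ℕ} (ho : o + 2 ≤ 4) (σ : alternatingGroup (Fin n))
    (a0 : ((σ : Perm (Fin n)) (pt hn 0) : ℕ) = o) (a1 : ((σ : Perm (Fin n)) (pt hn 1) : ℕ) = o + 1)
    (s : ↥(Cfsg.SU 2 F q)) : f4 (emb o ho s) = R.Ph σ s := by
  obtain ⟨μ, μ0, μ1⟩ := pair_four ⟨o, by omega⟩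
  simp only at μ0 μ1
  have e : (emb o ho s : SU[4]) = pm 4 F q μ * t0 (e01 s) * (pm 4 F q μ)⁻¹ := by
    have h1 : ∀ a : Fin 2, ((μ : Perm (Fin 4)) ⟨0 + a, by omega⟩ : ℕ) = o + (1 : Perm (Fin 2)) a := by
      intro a
      fin_cases a
      · exact μ0
      · exact μ1
    rw [pm_conj, t0, e01, emb_emb 0 _ 0 _ 0 (show 0 + 2 ≤ 4 by omega) rfl s,
      mm_emb _ 1 _ ho h1 s, mm_one]
  rw [e, map_mul, map_mul, map_inv, h0, hA,
    show ψ (ext4 hn μ) * φ (e01 s) * (ψ (ext4 hn μ))⁻¹ = R.Ph (ext4 hn μ) s from rfl]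
  refine R.Ph_eq (Fin.ext ?_) (Fin.ext ?_) s
  · rw [ext4_pt, a0]; exact μ0
  · rw [ext4_pt, a1]; exact μ1

/-- The universal property over the field with nine elements, given the block of four. -/
theorem exists_hom_three (C : Conj F q) (hF : Fintype.card F = q ^ 2) (hq : q = 3) (R : Rels hn φ ψ)
    (f4 : ↥(Cfsg.SU 4 F q) →* G) (h0 : ∀ s, f4 (t0 s) = φ s)
    (hA : ∀ σ, f4 (pm 4 F q σ) = ψ (ext4 hn σ))
    (complete : ∀ (π : ℕ → SU[3] →* G) (u : ℕ → SU[2] →* G) (f : SU[4] →* G), (∀ s, f (t0 s) = π 0 s) →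
      (∀ s, f (t1 s) = π 1 s) →
      (∀ i, i + 3 ≤ n → ∀ s, π i (emb 0 (show 0 + 2 ≤ 3 by omega) s) = u i s) →
      (∀ i, i + 3 ≤ n → ∀ s, π i (emb 1 (show 1 + 2 ≤ 3 by omega) s) = u (i + 1) s) →
      (∀ i j, i + 2 ≤ j → j + 2 ≤ n → ∀ s t, Commute (u i s) (u j t)) →
      ∃ f : SU[n] →* G, ∀ i (hi : i + 3 ≤ n) (s : SU[3]), f (emb i hi s) = π i s) :
    ∃ f : SU[n] →* G, (∀ s, f (emb 0 (show 0 + 3 ≤ n by omega) s) = φ s) ∧ ∀ σ, f (pm n F q σ) = ψ σ := by
  refine exists_hom_of hn C hF (by omega) R fun π u a0 a1 ac au aφ => complete π u f4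
    (fun s => by rw [h0, aφ]) ?_ a0 a1 ac
  have htop := Phan.gen_two C hF (show 3 ≤ q by omega) (show 2 ≤ 3 by omega)
    (MonoidHom.eqLocus (f4.comp t1) (π 1)) fun o ho s => by
      show f4 (t1 (emb o ho s)) = π 1 (emb o ho s)
      obtain ⟨σ, s0, s1⟩ := BoundedPres.exists_pair_alt hn (i := (⟨1 + o, by omega⟩ : Fin n))
        (j := ⟨1 + o + 1, by omega⟩) (by simp)
      have b0 := congrArg Fin.val s0
      have b1 := congrArg Fin.val s1
      rw [t1, emb_emb 1 _ o ho (1 + o) (show 1 + o + 2 ≤ 4 by omega) rfl,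
        four_blk hn R f4 h0 hA _ σ b0 b1 s, ← au (1 + o) (by omega) σ b0 b1 s]
      obtain rfl | rfl : o = 0 ∨ o = 1 := by omega
      · exact (a0 1 (by omega) s).symm
      · exact (a1 1 (by omega) s).symm
  exact fun s => (htop.ge (Subgroup.mem_top s) : _)

end Cfsg.Agent.SUGlue
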