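import Cfsg.Agent.Lib.SUGlue.Basic

/-!
Homomorphisms out of `SUₙ(q)` from one of `SU₃(q)` and one of the alternating group, `q ≥ 4`.
-/

set_option autoImplicit false
set_option linter.unusedSectionVars false
set_option linter.unusedSimpArgs false
set_option linter.style.haveILetI false
set_option linter.style.show false

namespace Cfsg.Agent.SUGlue

open Matrix Equiv
open Cfsg.Agent.Phan (emb emb_emb)
open Cfsg.Agent.BoundedPres (pt pt_inj e3 e3_inj c3 ga gb cp c3_e3 ga0 ga1 gb0 gb1 alt exists_alt exists_pair_alt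
  exists_triple swp dswap exists_even)
open Cfsg.Agent.AutPSU (Conj)

variable {F : Type*} [Field F] [Fintype F] {q n : ℕ}

local notation "SU[" m "]" => Cfsg.SU m F q

/-- The first block of two in three coordinates. -/
noncomputable def e01 : SU[2] →* SU[3] := emb 0 (show 0 + 2 ≤ 3 by omega)

/-- The exchange of the two coordinates. -/
noncomputable def theta : SU[2] →* SU[2] := mm (swap 0 1)

theorem theta_theta (s : SU[2]) : theta (theta s) = s := by
  show mm (swap 0 1) (mm (swap 0 1) s) = s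
  rw [← mm_mul, Equiv.swap_mul_self, mm_one]

/-- The three cycle as an even permutation. -/
def cpA : alternatingGroup (Fin 3) := ⟨cp, Perm.mem_alternatingGroup.2 (by decide)⟩

variable (hn : 4 ≤ n)

/-- The gluing relations. -/
structure Rels {G : Type*} [Group G] (φ : SU[3] →* G) (ψ : alternatingGroup (Fin n) →* G) : Prop where
  cyc : φ (pm 3 F q cpA) = ψ (c3 hn)
  exch : ∀ h, ψ (ga hn) * φ (e01 h) * (ψ (ga hn))⁻¹ = φ (e01 (theta h))
  fixed : ∀ τ h, Commute (ψ (alt hn τ)) (φ (e01 h))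
  far : ∀ h h', Commute (φ (e01 h)) (ψ (gb hn) * φ (e01 h') * (ψ (gb hn))⁻¹)

theorem exists_move : ∀ a b : Fin 3, a ≠ b → ∃ k : Fin 3, (cp ^ (k : ℕ)) 0 = a ∧ (cp ^ (k : ℕ)) 1 = b ∨
    (cp ^ (k : ℕ)) 1 = a ∧ (cp ^ (k : ℕ)) 0 = b := by decide

theorem alt3_cyclic : ∀ p : alternatingGroup (Fin 3), ∃ k : Fin 3, p = cpA ^ (k : ℕ) := by decide

theorem c3_pow (k : ℕ) (a : Fin 3) : ((c3 hn : Perm (Fin n)) ^ k) (e3 hn a) = e3 hn ((cp ^ k) a) := by
  induction k generalizing a with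
  | zero => simp
  | succ k ih => rw [pow_succ, pow_succ, Perm.mul_apply, Perm.mul_apply, c3_e3, ih]

namespace Rels

variable {hn} {G : Type*} [Group G] {φ : ↥(Cfsg.SU 3 F q) →* G} {ψ : alternatingGroup (Fin n) →* G} (R : Rels hn φ ψ)

/-- A conjugate of the first rank one subgroup. -/
noncomputable def Ph (_R : Rels (F := F) hn φ ψ) (σ : alternatingGroup (Fin n)) (h : SU[2]) : G := ψ σ * φ (e01 h) * (ψ σ)⁻¹

include R

theorem Ph_eq {σ σ' : alternatingGroup (Fin n)} (h0 : (σ : Perm (Fin n)) (pt hn 0) = (σ' : Perm (Fin n)) (pt hn 0))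
    (h1 : (σ : Perm (Fin n)) (pt hn 1) = (σ' : Perm (Fin n)) (pt hn 1)) (h : SU[2]) : R.Ph σ h = R.Ph σ' h := by
  obtain ⟨τ, hτ⟩ := exists_alt hn (σ'⁻¹ * σ)
    (show (σ' : Perm (Fin n))⁻¹ ((σ : Perm (Fin n)) (pt hn 0)) = _ by rw [h0, Perm.inv_def, symm_apply_apply])
    (show (σ' : Perm (Fin n))⁻¹ ((σ : Perm (Fin n)) (pt hn 1)) = _ by rw [h1, Perm.inv_def, symm_apply_apply])
  rw [Ph, Ph, show σ = σ' * alt hn τ by rw [hτ, mul_inv_cancel_left], map_mul,
    show ψ σ' * ψ (alt hn τ) * φ (e01 h) * (ψ σ' * ψ (alt hn τ))⁻¹ =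
      ψ σ' * (ψ (alt hn τ) * φ (e01 h) * (ψ (alt hn τ))⁻¹) * (ψ σ')⁻¹ by group,
    (R.fixed τ h).eq, mul_inv_cancel_right]

theorem Ph_flip (σ : alternatingGroup (Fin n)) (h : SU[2]) : R.Ph (σ * ga hn) h = R.Ph σ (theta h) := by
  rw [Ph, Ph, map_mul, ← R.exch h]
  group

theorem phi_cyc (k : ℕ) : φ (pm 3 F q (cpA ^ k)) = ψ (c3 hn ^ k) := by
  rw [map_pow, map_pow, map_pow, R.cyc]

/-- Blocks of the first three coordinates, moved. -/
theorem block_eq (τ : alternatingGroup (Fin n)) (ρ : Perm (Fin 3)) {o : ℕ} (ho : o + 2 ≤ 3)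
    (σ : alternatingGroup (Fin n))
    (h0 : (σ : Perm (Fin n)) (pt hn 0) = (τ : Perm (Fin n)) (e3 hn (ρ ⟨o + 0, by omega⟩)))
    (h1 : (σ : Perm (Fin n)) (pt hn 1) = (τ : Perm (Fin n)) (e3 hn (ρ ⟨o + 1, by omega⟩))) (h : SU[2]) :
    ψ τ * φ (mm ρ (emb o ho h)) * (ψ τ)⁻¹ = R.Ph σ h := by
  set a := ρ ⟨o + 0, by omega⟩ with ha
  set b := ρ ⟨o + 1, by omega⟩ with hb
  have hab : a ≠ b := fun e => by
    have := congrArg Fin.val (ρ.injective e)
    simp at this
  obtain ⟨k, hk⟩ := exists_move a b hab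
  set π : alternatingGroup (Fin 3) := cpA ^ (k : ℕ) with hπ
  have hπv : (π : Perm (Fin 3)) = cp ^ (k : ℕ) := by rw [hπ, SubmonoidClass.coe_pow]; rfl
  have key : ∀ ε : Perm (Fin 2), (∀ x : Fin 2, ρ ⟨o + x, by omega⟩ = (π : Perm (Fin 3)) ⟨0 + ε x, by omega⟩) →
      mm ρ (emb o ho h) = pm 3 F q π * e01 (mm ε h) * (pm 3 F q π)⁻¹ := by
    intro ε hε
    rw [pm_conj, e01, ← mm_emb ((π : Perm (Fin 3))⁻¹ * ρ) ε ho (show 0 + 2 ≤ 3 by omega) (fun x => by
      rw [Perm.mul_apply, hε, Perm.inv_def, symm_apply_apply]) h, ← mm_mul, mul_inv_cancel_left]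
  rw [hπv] at key
  rcases hk with ⟨k0, k1⟩ | ⟨k1, k0⟩
  · rw [key 1 (fun x => by
        fin_cases x
        · exact k0.symm
        · exact k1.symm),
      mm_one, map_mul, map_mul, map_inv, R.phi_cyc,
      show ψ τ * (ψ (c3 hn ^ (k : ℕ)) * φ (e01 h) * (ψ (c3 hn ^ (k : ℕ)))⁻¹) * (ψ τ)⁻¹ =
        R.Ph (τ * c3 hn ^ (k : ℕ)) h by rw [Ph, map_mul]; group]
    refine R.Ph_eq ?_ ?_ h
    · rw [h0, Subgroup.coe_mul, SubmonoidClass.coe_pow, Perm.mul_apply, ← k0]
      exact congrArg _ (c3_pow hn k 0)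
    · rw [h1, Subgroup.coe_mul, SubmonoidClass.coe_pow, Perm.mul_apply, ← k1]
      exact congrArg _ (c3_pow hn k 1)
  · rw [key (swap 0 1) (fun x => by
        fin_cases x
        · exact k1.symm
        · exact k0.symm),
      map_mul, map_mul, map_inv, R.phi_cyc,
      show ψ τ * (ψ (c3 hn ^ (k : ℕ)) * φ (e01 (mm (swap 0 1) h)) * (ψ (c3 hn ^ (k : ℕ)))⁻¹) * (ψ τ)⁻¹ =
        R.Ph (τ * c3 hn ^ (k : ℕ)) (theta h) by rw [Ph, map_mul, theta]; group, ← R.Ph_flip]
    refine R.Ph_eq ?_ ?_ h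
    · rw [Subgroup.coe_mul, Subgroup.coe_mul, SubmonoidClass.coe_pow, Perm.mul_apply, Perm.mul_apply, ga0,
        h0, ← k1]
      exact congrArg _ (c3_pow hn k 1)
    · rw [Subgroup.coe_mul, Subgroup.coe_mul, SubmonoidClass.coe_pow, Perm.mul_apply, Perm.mul_apply, ga1,
        h1, ← k0]
      exact congrArg _ (c3_pow hn k 0)

theorem far_all {i j : ℕ} (hij : i + 2 ≤ j) (hj : j + 2 ≤ n) (σ σ' : alternatingGroup (Fin n))
    (a0 : ((σ : Perm (Fin n)) (pt hn 0) : ℕ) = i) (a1 : ((σ : Perm (Fin n)) (pt hn 1) : ℕ) = i + 1)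
    (b0 : ((σ' : Perm (Fin n)) (pt hn 0) : ℕ) = j) (b1 : ((σ' : Perm (Fin n)) (pt hn 1) : ℕ) = j + 1)
    (h h' : SU[2]) : Commute (R.Ph σ h) (R.Ph σ' h') := by
  have hp := pt_inj hn
  obtain ⟨μ, hμ⟩ := exists_even (pt hn) ![⟨i, by omega⟩, ⟨i + 1, by omega⟩, ⟨j, by omega⟩, ⟨j + 1, by omega⟩] hp
    (by intro u v; fin_cases u <;> fin_cases v <;> simp [Fin.ext_iff] <;> omega)
    (show (2 : Fin 4) ≠ 3 by decide)
  have e0 : ((μ : Perm (Fin n)) (pt hn 0) : ℕ) = i ∧ ((μ : Perm (Fin n)) (pt hn 1) : ℕ) = i + 1 := by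
    rcases hμ with hm | ⟨-, -, hm⟩
    · rw [hm 0, hm 1]; exact ⟨rfl, rfl⟩
    · rw [hm 0 (by decide) (by decide), hm 1 (by decide) (by decide)]; exact ⟨rfl, rfl⟩
  rw [R.Ph_eq (σ := σ) (σ' := μ) (Fin.ext (a0.trans e0.1.symm)) (Fin.ext (a1.trans e0.2.symm))]
  have hgb : ∀ x, R.Ph (μ * gb hn) x = ψ μ * (ψ (gb hn) * φ (e01 x) * (ψ (gb hn))⁻¹) * (ψ μ)⁻¹ := fun x => by
    rw [Ph, map_mul]; group
  rcases hμ with hm | ⟨hm2, hm3, -⟩
  · rw [R.Ph_eq (σ := σ') (σ' := μ * gb hn)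
      (by rw [Subgroup.coe_mul, Perm.mul_apply, gb0, hm 2]; exact Fin.ext b0)
      (by rw [Subgroup.coe_mul, Perm.mul_apply, gb1, hm 3]; exact Fin.ext b1), hgb]
    exact (Commute.conj_iff (ψ μ)).2 (R.far h h')
  · rw [R.Ph_eq (σ := σ') (σ' := μ * gb hn * ga hn)
      (by rw [Subgroup.coe_mul, Subgroup.coe_mul, Perm.mul_apply, Perm.mul_apply, ga0, gb1, hm3]; exact Fin.ext b0)
      (by rw [Subgroup.coe_mul, Subgroup.coe_mul, Perm.mul_apply, Perm.mul_apply, ga1, gb0, hm2]; exact Fin.ext b1),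
      R.Ph_flip, hgb]
    exact (Commute.conj_iff (ψ μ)).2 (R.far h (theta h'))

end Rels

/-- The consecutive three cycles generate. -/
theorem alt_top (K : Subgroup (alternatingGroup (Fin n)))
    (hK : ∀ i, ∀ hi : i + 3 ≤ n, ∃ g ∈ K, ∀ x : Fin n,
      ((x : ℕ) = i → ((g : Perm (Fin n)) x : ℕ) = i + 1) ∧ ((x : ℕ) = i + 1 → ((g : Perm (Fin n)) x : ℕ) = i + 2) ∧
      ((x : ℕ) < i ∨ i + 3 ≤ x → (g : Perm (Fin n)) x = x)) : K = ⊤ := by
  have move : ∀ m, m + 1 ≤ n → 3 ≤ m + 1 → ∀ d k, k + d = m → ∀ hk : k < n, ∃ g ∈ K,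
      ((g : Perm (Fin n)) ⟨k, hk⟩ : ℕ) = m ∧ ∀ x : Fin n, m < x → (g : Perm (Fin n)) x = x := by
    intro m hm h3 d
    induction d with
    | zero => intro k hkd hk; exact ⟨1, one_mem _, by simpa using hkd, fun x _ => rfl⟩
    | succ d ih =>
      intro k hkd hk
      obtain ⟨g', hg', g'k, g'f⟩ := ih (k + 1) (by omega) (by omega)
      by_cases hlow : k + 2 ≤ m
      · obtain ⟨g, hg, hgp⟩ := hK k (by omega)
        refine ⟨g' * g, mul_mem hg' hg, ?_, fun x hx => ?_⟩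
        · rw [Subgroup.coe_mul, Perm.mul_apply, show (g : Perm (Fin n)) ⟨k, hk⟩ = ⟨k + 1, by omega⟩ from
            Fin.ext ((hgp _).1 rfl)]
          exact g'k
        · rw [Subgroup.coe_mul, Perm.mul_apply, (hgp x).2.2 (Or.inr (by omega)), g'f x hx]
      · obtain ⟨g, hg, hgp⟩ := hK (k - 1) (by omega)
        refine ⟨g, hg, ?_, fun x hx => (hgp x).2.2 (Or.inr (by omega))⟩
        rw [(hgp _).2.1 (show k = k - 1 + 1 by omega)]
        omega
  suffices H : ∀ m, m ≤ n → ∀ σ : alternatingGroup (Fin n),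
      (∀ x : Fin n, m ≤ x → (σ : Perm (Fin n)) x = x) → σ ∈ K from
    eq_top_iff.2 fun σ _ => H n le_rfl σ fun x hx => absurd hx (by omega)
  intro m
  induction m with
  | zero =>
    intro _ σ hσ
    obtain rfl : σ = 1 := Subtype.ext (Equiv.ext fun x => hσ x (Nat.zero_le _))
    exact one_mem _
  | succ m ih =>
    intro hm σ hσ
    by_cases hfix : (σ : Perm (Fin n)) ⟨m, by omega⟩ = ⟨m, by omega⟩
    · refine ih (by omega) σ fun x hx => ?_
      rcases Nat.eq_or_lt_of_le hx with e | e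
      · rw [show x = ⟨m, by omega⟩ from Fin.ext e.symm]; exact hfix
      · exact hσ x e
    set y := (σ : Perm (Fin n)) ⟨m, by omega⟩ with hy
    have hy1 : (y : ℕ) ≤ m := by
      by_contra hc
      have e : y = ⟨m, by omega⟩ := (σ : Perm (Fin n)).injective (hσ y (by omega))
      exact hc (le_of_eq (congrArg Fin.val e))
    have hym : (y : ℕ) ≠ m := fun e => hfix (Fin.ext e)
    by_cases h3 : 3 ≤ m + 1
    · obtain ⟨g, hg, gk, gf⟩ := move m hm h3 (m - y) y (by omega) y.2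
      have : g * σ ∈ K := ih (by omega) _ fun x hx => by
        rw [Subgroup.coe_mul, Perm.mul_apply]
        rcases Nat.eq_or_lt_of_le hx with e | e
        · rw [show x = ⟨m, by omega⟩ from Fin.ext e.symm]
          exact Fin.ext gk
        · rw [hσ x e, gf x e]
      exact (Subgroup.mul_mem_cancel_left K hg).1 this
    · exfalso
      obtain rfl : m = 1 := by omega
      have hsw : (σ : Perm (Fin n)) = swap ⟨0, by omega⟩ ⟨1, by omega⟩ := by
        have hy0 : y = ⟨0, by omega⟩ := Fin.ext (by simp at hym hy1 ⊢; omega)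
        refine Equiv.ext fun x => ?_
        by_cases hx0 : (x : ℕ) = 0
        · rw [show x = ⟨0, by omega⟩ from Fin.ext hx0, swap_apply_left]
          have hz : ¬ 2 ≤ ((σ : Perm (Fin n)) ⟨0, by omega⟩ : ℕ) := fun hc => by
            have e := (σ : Perm (Fin n)).injective (hσ _ hc)
            rw [e] at hc
            simp at hc
          have hne : (σ : Perm (Fin n)) ⟨0, by omega⟩ ≠ y := fun e => by
            simpa using congrArg Fin.val ((σ : Perm (Fin n)).injective e)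
          rw [hy0, ne_eq, Fin.ext_iff] at hne
          refine Fin.ext ?_
          simp only at hne hz ⊢
          omega
        · by_cases hx1 : (x : ℕ) = 1
          · rw [show x = ⟨1, by omega⟩ from Fin.ext hx1, swap_apply_right]; exact hy0
          · rw [hσ x (by omega), swap_apply_of_ne_of_ne (fun e => hx0 (congrArg Fin.val e))
              (fun e => hx1 (congrArg Fin.val e))]
      have hs := Perm.mem_alternatingGroup.1 σ.2
      rw [hsw, Perm.sign_swap (by simp)] at hs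
      exact absurd hs (by decide)

/-- The three cycle on three consecutive indices. -/
def cyc3At (i : ℕ) (hi : i + 3 ≤ n) : alternatingGroup (Fin n) :=
  dswap (show (⟨i, by omega⟩ : Fin n) ≠ ⟨i + 1, by omega⟩ by simp)
    (show (⟨i + 1, by omega⟩ : Fin n) ≠ ⟨i + 2, by omega⟩ by simp)

theorem cyc3At_spec (i : ℕ) (hi : i + 3 ≤ n) :
    (∀ a : Fin 3, ((cyc3At i hi : Perm (Fin n)) ⟨i + a, by omega⟩ : ℕ) = i + cp a) ∧
      ∀ x : Fin n, (x : ℕ) < i ∨ i + 3 ≤ x → (cyc3At i hi : Perm (Fin n)) x = x := by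
  refine ⟨fun a => ?_, fun x hx => ?_⟩
  · show ((swap (⟨i, by omega⟩ : Fin n) ⟨i + 1, by omega⟩ * swap ⟨i + 1, by omega⟩ ⟨i + 2, by omega⟩ : Perm (Fin n))
      ⟨i + a, by omega⟩ : ℕ) = _
    fin_cases a <;> simp [cp, swap_apply_def, Fin.ext_iff]
  · show (swap (⟨i, by omega⟩ : Fin n) ⟨i + 1, by omega⟩ * swap ⟨i + 1, by omega⟩ ⟨i + 2, by omega⟩ : Perm (Fin n)) x = x
    have h1 : swap (⟨i + 1, by omega⟩ : Fin n) ⟨i + 2, by omega⟩ x = x :=
      swap_apply_of_ne_of_ne (by simp [Fin.ext_iff]; omega) (by simp [Fin.ext_iff]; omega)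
    rw [Perm.mul_apply, h1]
    exact swap_apply_of_ne_of_ne (by simp [Fin.ext_iff]; omega) (by simp [Fin.ext_iff]; omega)

variable (C : Conj F q) (hF : Fintype.card F = q ^ 2)
include C hF

/-- The universal property, given the completion of a chain of blocks of three. -/
theorem exists_hom_of (hq : 3 ≤ q) {G : Type*} [Group G] {φ : SU[3] →* G} {ψ : alternatingGroup (Fin n) →* G}
    (R : Rels (F := F) hn φ ψ)
    (complete : ∀ (π : ℕ → SU[3] →* G) (u : ℕ → SU[2] →* G),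
      (∀ i, i + 3 ≤ n → ∀ s, π i (emb 0 (show 0 + 2 ≤ 3 by omega) s) = u i s) →
      (∀ i, i + 3 ≤ n → ∀ s, π i (emb 1 (show 1 + 2 ≤ 3 by omega) s) = u (i + 1) s) →
      (∀ i j, i + 2 ≤ j → j + 2 ≤ n → ∀ s t, Commute (u i s) (u j t)) →
      (∀ i, i + 2 ≤ n → ∀ σ : alternatingGroup (Fin n), ((σ : Perm (Fin n)) (pt hn 0) : ℕ) = i →
        ((σ : Perm (Fin n)) (pt hn 1) : ℕ) = i + 1 → ∀ s, u i s = R.Ph σ s) →
      (∀ s, π 0 s = φ s) →
      ∃ f : SU[n] →* G, ∀ i (hi : i + 3 ≤ n) (s : SU[3]), f (emb i hi s) = π i s) :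
    ∃ f : SU[n] →* G, (∀ s, f (emb 0 (show 0 + 3 ≤ n by omega) s) = φ s) ∧ ∀ σ, f (pm n F q σ) = ψ σ := by
  have htri : ∀ i, i + 3 ≤ n → ∃ (τ : alternatingGroup (Fin n)) (ρ : Perm (Fin 3)),
      ∀ x : Fin 3, ((τ : Perm (Fin n)) (e3 hn (ρ x)) : ℕ) = i + x := by
    intro i hi
    obtain ⟨τ, a', b', c', hab, hbc, hac, ta, tb, tc⟩ := exists_triple hn
      (a := ⟨i, by omega⟩) (b := ⟨i + 1, by omega⟩) (c := ⟨i + 2, by omega⟩)
      (by simp) (by simp) (by simp)
    refine ⟨τ, Equiv.ofBijective ![a', b', c'] (Finite.injective_iff_bijective.1 ?_), fun x => ?_⟩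
    · intro u v; fin_cases u <;> fin_cases v <;> simp [hab, hbc, hac, hab.symm, hbc.symm, hac.symm]
    · rw [Equiv.ofBijective_apply]
      fin_cases x
      · simp [ta]
      · simp [tb]
      · simp [tc]
  choose! τ ρ hτρ using htri
  have hsig : ∀ i, i + 2 ≤ n → ∃ σ : alternatingGroup (Fin n),
      ((σ : Perm (Fin n)) (pt hn 0) : ℕ) = i ∧ ((σ : Perm (Fin n)) (pt hn 1) : ℕ) = i + 1 := by
    intro i hi
    obtain ⟨σ, s0, s1⟩ := exists_pair_alt hn (i := ⟨i, by omega⟩) (j := ⟨i + 1, by omega⟩) (by simp)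
    exact ⟨σ, by rw [s0], by rw [s1]⟩
  choose! sg hsg using hsig
  let π : ℕ → SU[3] →* G := fun i => (MulAut.conj (ψ (τ i))).toMonoidHom.comp (φ.comp (mm (ρ i)))
  let u : ℕ → SU[2] →* G := fun i => (MulAut.conj (ψ (sg i))).toMonoidHom.comp (φ.comp e01)
  have hblk : ∀ i, i + 3 ≤ n → ∀ o (ho : o + 2 ≤ 3) s, π i (emb o ho s) = u (i + o) s := by
    intro i hi o ho s
    have e := hsg (i + o) (by omega)
    refine R.block_eq (τ i) (ρ i) ho (sg (i + o)) (Fin.ext ?_) (Fin.ext ?_) s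
    · rw [e.1, hτρ i hi]; simp
    · rw [e.2, hτρ i hi]; simp; omega
  have hφπ : ∀ s, π 0 s = φ s := by
    have htop := Phan.gen_two C hF hq (show 2 ≤ 3 by omega) (MonoidHom.eqLocus (π 0) φ) fun o ho s => by
      show π 0 (emb o ho s) = φ (emb o ho s)
      rw [hblk 0 (by omega) o ho s, zero_add]
      have e := hsg o (by omega)
      have := R.block_eq 1 1 ho (sg o) (Fin.ext ?_) (Fin.ext ?_) s
      · rw [map_one, one_mul, inv_one, mul_one, mm_one] at this
        exact this.symm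
      · rw [e.1, OneMemClass.coe_one, Perm.one_apply, Perm.one_apply]; rfl
      · rw [e.2, OneMemClass.coe_one, Perm.one_apply, Perm.one_apply]; rfl
    exact fun s => (htop.ge (Subgroup.mem_top s) : _)
  obtain ⟨f, hf⟩ := complete π u (fun i hi s => by simpa using hblk i hi 0 _ s)
    (fun i hi s => hblk i hi 1 _ s) (fun i j hij hj s t => R.far_all hij hj _ _ (hsg i (by omega)).1
      (hsg i (by omega)).2 (hsg j hj).1 (hsg j hj).2 s t)
    (fun i hi σ a0 a1 s => R.Ph_eq (Fin.ext ((hsg i hi).1.trans a0.symm)) (Fin.ext ((hsg i hi).2.trans a1.symm)) s)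
    hφπ
  have hφ : ∀ s, f (emb 0 (show 0 + 3 ≤ n by omega) s) = φ s := fun s => (hf 0 _ s).trans (hφπ s)
  refine ⟨f, hφ, fun σ => ?_⟩
  have hK : MonoidHom.eqLocus (f.comp (pm n F q)) ψ = ⊤ := by
    refine alt_top _ fun i hi => ⟨cyc3At i hi, ?_, fun x => ⟨?_, ?_, (cyc3At_spec i hi).2 x⟩⟩
    · show f (pm n F q (cyc3At i hi)) = ψ (cyc3At i hi)
      rw [pm_emb (cyc3At i hi) cpA hi (cyc3At_spec i hi).1 (cyc3At_spec i hi).2, hf i hi]
      set π' : alternatingGroup (Fin 3) := ⟨ρ i * cp * (ρ i)⁻¹, Perm.mem_alternatingGroup.2 (by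
        rw [map_mul, map_mul, map_inv, mul_right_comm, mul_inv_cancel, one_mul]; decide)⟩ with hπ'
      have e : mm (ρ i) (pm 3 F q cpA) = pm 3 F q π' := by
        refine AutPSU.ext_act fun v => funext fun x => ?_
        rw [act_mm, act_pm, act_pm]
        simp [hπ', cpA, _root_.mul_inv_rev, Perm.inv_def]
      show ψ (τ i) * φ (mm (ρ i) (pm 3 F q cpA)) * (ψ (τ i))⁻¹ = _
      obtain ⟨k, hk⟩ := alt3_cyclic π'
      rw [e, hk, R.phi_cyc, ← map_inv, ← map_mul, ← map_mul]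
      congr 1
      refine Subtype.ext (Equiv.ext fun y => ?_)
      have hkv : (cp ^ (k : ℕ)) = ρ i * cp * (ρ i)⁻¹ := by
        have := congrArg Subtype.val hk
        simp only [hπ', SubmonoidClass.coe_pow] at this
        exact this.symm
      obtain ⟨y, rfl⟩ : ∃ z, (τ i : Perm (Fin n)) z = y := ⟨_, Equiv.apply_symm_apply _ _⟩
      simp only [Subgroup.coe_mul, Subgroup.coe_inv, SubmonoidClass.coe_pow, Perm.mul_apply, Perm.inv_def,
        symm_apply_apply]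
      by_cases hy : ∃ a : Fin 3, e3 hn a = y
      · obtain ⟨a, rfl⟩ := hy
        obtain ⟨b, rfl⟩ : ∃ b, ρ i b = a := ⟨_, Equiv.apply_symm_apply _ _⟩
        rw [c3_pow, hkv, Perm.mul_apply, Perm.mul_apply, Perm.inv_def, symm_apply_apply]
        refine Fin.ext ?_
        rw [hτρ i hi, show (τ i : Perm (Fin n)) (e3 hn (ρ i b)) = ⟨i + b, by omega⟩ from Fin.ext (hτρ i hi b),
          (cyc3At_spec i hi).1]
      · push Not at hy
        have hfix : ∀ m : ℕ, ((c3 hn : Perm (Fin n)) ^ m) y = y := fun m => by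
          induction m with
          | zero => rfl
          | succ m ih =>
            rw [pow_succ, Perm.mul_apply, show (c3 hn : Perm (Fin n)) y = y from by
              show Equiv.swap (e3 hn 0) (e3 hn 1) (Equiv.swap (e3 hn 1) (e3 hn 2) y) = y
              rw [swap_apply_of_ne_of_ne (Ne.symm (hy 1)) (Ne.symm (hy 2)),
                swap_apply_of_ne_of_ne (Ne.symm (hy 0)) (Ne.symm (hy 1))], ih]
        rw [hfix, (cyc3At_spec i hi).2 _ ?_]
        by_contra hc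
        push Not at hc
        have := hy (ρ i ⟨((τ i : Perm (Fin n)) y : ℕ) - i, by omega⟩)
        exact this ((τ i : Perm (Fin n)).injective (Fin.ext (by rw [hτρ i hi]; simp; omega)))
    · intro hx
      rw [show x = ⟨i + ((0 : Fin 3) : ℕ), by simp; omega⟩ from Fin.ext (by simp [hx]), (cyc3At_spec i hi).1]
      rfl
    · intro hx
      rw [show x = ⟨i + ((1 : Fin 3) : ℕ), by simp; omega⟩ from Fin.ext (by simp [hx]), (cyc3At_spec i hi).1]
      rfl
  exact (hK.ge (Subgroup.mem_top σ) : _)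

/-- The universal property. -/
theorem exists_hom (hq : 4 ≤ q) {G : Type*} [Group G] {φ : SU[3] →* G} {ψ : alternatingGroup (Fin n) →* G}
    (R : Rels (F := F) hn φ ψ) :
    ∃ f : SU[n] →* G, (∀ s, f (emb 0 (show 0 + 3 ≤ n by omega) s) = φ s) ∧ ∀ σ, f (pm n F q σ) = ψ σ :=
  exists_hom_of hn C hF (by omega) R fun π u h0 h1 hc _ _ => Phan.phan_hom C hF hq (by omega : 3 ≤ n) π u h0 h1 hc

end Cfsg.Agent.SUGlue
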