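import Cfsg.Agent.Lib.SUGlue.Pres
import Cfsg.Agent.Lib.SU3Pres.Main
import Cfsg.Agent.Lib.SLShort.TwoGen
import Cfsg.Agent.Lib.Classical.SU2

/-!
Short presentations of `SUₙ(q)` and of `PSUₙ(q)` for `n ≥ 4` and `q ≥ 4`.
-/

set_option autoImplicit false
set_option linter.unusedSectionVars false
set_option linter.unusedSimpArgs false
set_option linter.style.haveILetI false
set_option linter.style.show false

namespace Cfsg.Agent.SUGlue

open Matrix Equiv
open Cfsg.Agent.AutPSU (Conj act act_mul ext_act exists_conj)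
open Cfsg.Agent.Phan (card_fixed)
open Cfsg.Agent.BoundedPres (pt pt_inj)
open Cfsg.Agent.SLShort (AltPres alt_gens pad quot_pres altPres_four altPres_five altPres_large exists_theta_gen)

variable {F : Type*} [Field F] [Fintype F] {q : ℕ}

local notation "SU[" m "]" => Cfsg.SU m F q

/-- `SU₂(q)` is generated by two elements. -/
theorem exists_two (hF : Fintype.card F = q ^ 2) (C : Conj F q) :
    ∃ u v : ↥(Cfsg.SU 2 F q), Subgroup.closure ({u, v} : Set ↥(Cfsg.SU 2 F q)) = ⊤ := by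
  classical
  set σ := C.σ.toRingHom with hσ
  have hne : σ ≠ RingHom.id F := fun e => C.ne_one.elim fun μ hμ => hμ (RingHom.congr_fun e μ)
  have hfix : Nat.card (Hermitian.fixed σ) = q := card_fixed C hF
  haveI := Fintype.ofFinite (Hermitian.fixed σ)
  obtain ⟨e⟩ := SU2.exists_equiv_SU2 (K := Hermitian.fixed σ) hne C.invol C.apply_eq hfix
    (by rw [← Nat.card_eq_fintype_card]; exact hfix)
  obtain ⟨u, hu⟩ := exists_theta_gen (F := Hermitian.fixed σ)
  refine ⟨e.symm u, e.symm (SLShort.theta u), ?_⟩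
  have h := congrArg (Subgroup.map e.symm.toMonoidHom) hu
  rw [MonoidHom.map_closure, Subgroup.map_top_of_surjective _ e.symm.surjective, Set.image_pair] at h
  exact h

/-- An involution of `SL₂` in characteristic two is conjugate to the exchange of the two coordinates. -/
theorem exists_conj_exchange {K : Type*} [Field K] [Finite K] (h2 : (2 : K) = 0)
    (t : Matrix.SpecialLinearGroup (Fin 2) K) (ht : t * t = 1) (ht1 : t ≠ 1) :
    ∃ g : Matrix.SpecialLinearGroup (Fin 2) K, ∀ h, g * SLShort.theta h * g⁻¹ = t * (g * h * g⁻¹) * t⁻¹ := by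
  classical
  haveI := Fintype.ofFinite K
  haveI : CharP K 2 := by
    haveI := ringChar.charP K
    have : ringChar K ∣ 2 := ringChar.dvd (R := K) (by exact_mod_cast h2)
    rcases (Nat.dvd_prime Nat.prime_two).1 this with h | h
    · exact absurd h CharP.ringChar_ne_one
    · exact h ▸ ringChar.charP K
  have hneg : ∀ a : K, -a = a := CharTwo.neg_eq
  have hd : t.1 0 0 * t.1 1 1 - t.1 0 1 * t.1 1 0 = 1 := by
    have := t.2
    rwa [Matrix.det_fin_two] at this
  have hm : ∀ i k, t.1 i 0 * t.1 0 k + t.1 i 1 * t.1 1 k = (1 : Matrix (Fin 2) (Fin 2) K) i k := fun i k => by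
    have := congrArg (fun x : Matrix.SpecialLinearGroup (Fin 2) K => x.1 i k) ht
    simpa [Matrix.mul_apply, Fin.sum_univ_two] using this
  set a := t.1 0 0 with hA
  set b := t.1 0 1 with hB
  set c := t.1 1 0 with hC
  set d := t.1 1 1 with hD
  have h00 : a * a + b * c = 1 := by simpa [← hA, ← hB, ← hC] using hm 0 0
  have h01 : a * b + b * d = 0 := by simpa [← hA, ← hB, ← hD] using hm 0 1
  have h10 : c * a + d * c = 0 := by simpa [← hA, ← hC, ← hD] using hm 1 0
  have h11 : c * b + d * d = 1 := by simpa [← hB, ← hC, ← hD] using hm 1 1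
  have had : d = a := by
    have : a * (a + d) = 0 ∧ d * (a + d) = 0 := ⟨by linear_combination h00 + hd + h2,
      by linear_combination h11 + hd + h2⟩
    have hsum : (a + d) * (a + d) = 0 := by linear_combination this.1 + this.2
    have := mul_self_eq_zero.1 hsum
    linear_combination this - a * h2
  obtain ⟨x, z, hxz⟩ : ∃ x z : K, c * x * x + b * z * z = 1 := by
    by_cases hc : c = 0
    · have hb : b ≠ 0 := by
        intro hb
        refine ht1 (Subtype.ext ?_)
        have ha : a = 1 := by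
          have : (a - 1) * (a - 1) = 0 := by
            rw [hb, zero_mul, add_zero] at h00
            linear_combination h00 - (a - 1) * h2
          exact sub_eq_zero.1 (mul_self_eq_zero.1 this)
        ext i k
        fin_cases i <;> fin_cases k <;> simp [← hA, ← hB, ← hC, ← hD, hb, hc, had, ha]
      obtain ⟨r, hr⟩ := FiniteField.isSquare_of_char_two (ringChar.eq K 2) b⁻¹
      exact ⟨0, r, by rw [mul_assoc _ r r, ← hr]; simp [hb]⟩
    · obtain ⟨r, hr⟩ := FiniteField.isSquare_of_char_two (ringChar.eq K 2) c⁻¹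
      exact ⟨r, 0, by rw [mul_assoc _ r r, ← hr]; simp [hc]⟩
  let g : Matrix.SpecialLinearGroup (Fin 2) K := ⟨!![x, a * x + b * z; z, c * x + a * z], by
    rw [Matrix.det_fin_two_of]
    linear_combination hxz - b * z * z * h2⟩
  refine ⟨g, fun h => ?_⟩
  have key : g * SLShort.theta h = t * g * h * g⁻¹ * t⁻¹ * g := by
    let s : Matrix.SpecialLinearGroup (Fin 2) K :=
      ⟨!![0, 1; 1, 0], by rw [Matrix.det_fin_two_of]; linear_combination -h2⟩
    have hw : ∀ h : Matrix.SpecialLinearGroup (Fin 2) K, SLShort.theta h * s = s * h := fun h =>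
      Subtype.ext (by
        rw [Matrix.SpecialLinearGroup.coe_mul, Matrix.SpecialLinearGroup.coe_mul, SLShort.theta_val]
        apply PStable.ext2 <;> simp [s, Matrix.mul_apply, Fin.sum_univ_two])
    have hgs : g * s = t * g := Subtype.ext (by
      rw [Matrix.SpecialLinearGroup.coe_mul, Matrix.SpecialLinearGroup.coe_mul]
      apply PStable.ext2 <;>
        simp [g, s, Matrix.mul_apply, Fin.sum_univ_two, ← hA, ← hB, ← hC, ← hD, had]
      · linear_combination -(x * h00) - a * b * z * h2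
      · linear_combination -(z * h00) - a * c * x * h2)
    have e : SLShort.theta h = s * h * s⁻¹ := eq_mul_inv_iff_mul_eq.2 (hw h)
    rw [e, show g * (s * h * s⁻¹) = (g * s) * h * (g * s)⁻¹ * g by group, hgs]
    group
  rw [key]
  group

/-- In characteristic two one element generates `SU₂(q)` with its exchanged conjugate. -/
theorem exists_one (hF : Fintype.card F = q ^ 2) (C : Conj F q) (h2 : (2 : F) = 0) :
    ∃ u : ↥(Cfsg.SU 2 F q), Subgroup.closure ({u} ∪ theta '' {u} : Set ↥(Cfsg.SU 2 F q)) = ⊤ := by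
  classical
  set σ := C.σ.toRingHom with hσ
  have hne : σ ≠ RingHom.id F := fun e => C.ne_one.elim fun μ hμ => hμ (RingHom.congr_fun e μ)
  have hfix : Nat.card (Hermitian.fixed σ) = q := card_fixed C hF
  haveI := Fintype.ofFinite (Hermitian.fixed σ)
  obtain ⟨e⟩ := SU2.exists_equiv_SU2 (K := Hermitian.fixed σ) hne C.invol C.apply_eq hfix
    (by rw [← Nat.card_eq_fintype_card]; exact hfix)
  let w : ↥(Cfsg.SU 2 F q) := ⟨⟨!![0, 1; 1, 0], by rw [Matrix.det_fin_two_of]; linear_combination -h2⟩, by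
    intro u v
    show AutPSU.h (q := q) ((!![0, 1; 1, 0] : Matrix (Fin 2) (Fin 2) F) *ᵥ u)
      ((!![0, 1; 1, 0] : Matrix (Fin 2) (Fin 2) F) *ᵥ v) = AutPSU.h (q := q) u v
    show ∑ i, ((!![0, 1; 1, 0] : Matrix (Fin 2) (Fin 2) F) *ᵥ u) i *
      ((!![0, 1; 1, 0] : Matrix (Fin 2) (Fin 2) F) *ᵥ v) i ^ q = ∑ i, u i * v i ^ q
    simp [Fin.sum_univ_two, Matrix.mulVec, dotProduct, add_comm]⟩
  have haw : ∀ v i, act w v i = v (swap 0 1 i) := fun v i => by
    show ((!![0, 1; 1, 0] : Matrix (Fin 2) (Fin 2) F) *ᵥ v) i = _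
    fin_cases i <;> simp [Matrix.mulVec, dotProduct, Fin.sum_univ_two]
  have hth : ∀ s, theta s = w * s * w⁻¹ := fun s => eq_mul_inv_iff_mul_eq.2 (ext_act fun v => funext fun i => by
    rw [act_mul, act_mul, haw, theta, act_mm]
    simp [haw])
  have hww : w * w = 1 := ext_act fun v => funext fun i => by
    rw [act_mul, haw, haw, swap_apply_self]
    exact (congrFun (Matrix.one_mulVec v) i).symm
  have hw1 : w ≠ 1 := fun h => by
    have := congrArg (fun x : ↥(Cfsg.SU 2 F q) => x.1.1 0 1) h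
    simp [w] at this
  have h2K : (2 : Hermitian.fixed σ) = 0 := Subtype.ext (by push_cast; exact h2)
  obtain ⟨g, hg⟩ := exists_conj_exchange h2K (e w) (by rw [← map_mul, hww, map_one])
    (fun h => hw1 (e.injective (by rw [h, map_one])))
  obtain ⟨u, hu⟩ := exists_theta_gen (F := Hermitian.fixed σ)
  let f := ((MulAut.conj g : Matrix.SpecialLinearGroup (Fin 2) (Hermitian.fixed σ) ≃*
    Matrix.SpecialLinearGroup (Fin 2) (Hermitian.fixed σ))).trans e.symm
  refine ⟨f u, ?_⟩
  have hfth : theta (f u) = f (SLShort.theta u) := e.injective (by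
    rw [hth]
    simp only [f, MulEquiv.trans_apply, MulAut.conj_apply, map_mul, map_inv, e.apply_symm_apply]
    rw [hg])
  have h := congrArg (Subgroup.map f.toMonoidHom) hu
  rw [MonoidHom.map_closure, Subgroup.map_top_of_surjective _ f.surjective, Set.image_pair] at h
  rw [Set.image_singleton, hfth, ← Set.insert_eq]
  exact h

/-- The centre of `SUₙ(q)` is cyclic. -/
theorem exists_center_gen (hF : Fintype.card F = q ^ 2) (C : Conj F q) {n : ℕ} (hn : 2 ≤ n) :
    ∃ z ∈ Subgroup.center ↥(Cfsg.SU n F q), Subgroup.center ↥(Cfsg.SU n F q) ≤ Subgroup.zpowers z := by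
  classical
  set σ := C.σ.toRingHom with hσ
  have hne : σ ≠ RingHom.id F := fun e => C.ne_one.elim fun μ hμ => hμ (RingHom.congr_fun e μ)
  have hfix : Nat.card (Hermitian.fixed σ) = q := card_fixed C hF
  let i0 : Fin n := ⟨0, by omega⟩
  have hd : ∀ A : ↥(Subgroup.center ↥(Cfsg.SU n F q)), A.1.1.1 = Matrix.diagonal fun _ => A.1.1.1 i0 i0 := fun A => by
    obtain ⟨c, hc⟩ := HermSU.scalar_of_commute hne C.invol C.apply_eq hn hfix A.1.1.1 fun B hB =>
      congrArg (fun X : ↥(Cfsg.SU n F q) => X.1.1) (Subgroup.mem_center_iff.1 A.2 ⟨B, hB⟩).symm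
    rw [hc, Matrix.diagonal_apply_eq]
  let f : ↥(Subgroup.center ↥(Cfsg.SU n F q)) →* F :=
    { toFun := fun A => A.1.1.1 i0 i0
      map_one' := by simp
      map_mul' := fun A B => by
        show (A.1.1.1 * B.1.1.1) i0 i0 = _
        rw [hd A, Matrix.diagonal_mul, Matrix.diagonal_apply_eq] }
  haveI : IsCyclic ↥(Subgroup.center ↥(Cfsg.SU n F q)) := isCyclic_of_subgroup_isDomain f fun A B h =>
    Subtype.ext (Subtype.ext (Subtype.ext (by
      rw [hd A, hd B]
      exact congrArg Matrix.diagonal (funext fun _ => h))))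
  obtain ⟨⟨z, hz⟩, hgen⟩ := IsCyclic.exists_generator (α := ↥(Subgroup.center ↥(Cfsg.SU n F q)))
  refine ⟨z, hz, fun g hg => ?_⟩
  obtain ⟨k, hk⟩ := hgen ⟨g, hg⟩
  exact ⟨k, congrArg Subtype.val hk⟩

/-- The count of the relations for given data of the alternating group and of `SU₂`. -/
theorem su_count (hF : Fintype.card F = q ^ 2) (C : Conj F q) {n b r k p c N : ℕ} (hn : 4 ≤ n) (hq : 4 ≤ q) {α : Type} [Fintype α]
    (R3 : Finset (FreeGroup α)) (hR3 : R3.card ≤ c)
    (e : PresentedGroup (↑R3 : Set (FreeGroup α)) ≃* ↥(Cfsg.SU 3 F q)) (hAlt : AltPres n b r)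
    (hm : Fintype.card α + b ≤ 6)
    (U : Finset ↥(Cfsg.SU 2 F q))
    (hU : Subgroup.closure ((U : Set ↥(Cfsg.SU 2 F q)) ∪ theta '' (U : Set ↥(Cfsg.SU 2 F q))) = ⊤)
    (hk : U.card ≤ k) (P : Finset (↥(Cfsg.SU 2 F q) × ↥(Cfsg.SU 2 F q)))
    (hP : FarOK (U : Set ↥(Cfsg.SU 2 F q)) (P : Set (↥(Cfsg.SU 2 F q) × ↥(Cfsg.SU 2 F q)))) (hp : P.card ≤ p)
    (hN : c + r + 1 + k + min 2 (n - 4) * k + p + (6 - (Fintype.card α + b)) ≤ N) :
    ∃ R : Finset (FreeGroup (Fin 6)), R.card ≤ N ∧
      Nonempty (PresentedGroup (↑R : Set (FreeGroup (Fin 6))) ≃* ↥(Cfsg.SU n F q)) := by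
  classical
  obtain ⟨GS, hGS, hGSg⟩ := alt_gens {x : Fin n // x ≠ pt hn 0 ∧ x ≠ pt hn 1}
  have hcard : Fintype.card {x : Fin n // x ≠ pt hn 0 ∧ x ≠ pt hn 1} = n - 2 := by
    rw [Fintype.card_subtype, show Finset.univ.filter (fun x => x ≠ pt hn 0 ∧ x ≠ pt hn 1) =
      ({pt hn 0, pt hn 1} : Finset (Fin n))ᶜ by ext x; simp, Finset.card_compl,
      Finset.card_pair ((pt_inj hn).ne (show (0 : Fin 4) ≠ 1 by decide)), Fintype.card_fin]
  rw [hcard, show n - 2 - 2 = n - 4 by omega] at hGS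
  obtain ⟨R, hR, he⟩ := su_pres hn C hF hq R3 hR3 e hAlt GS hGSg U hU P hP
  obtain ⟨S, hS, hSe⟩ := pad he (m := 6) (by rw [Fintype.card_sum, Fintype.card_fin]; exact hm)
  rw [Fintype.card_sum, Fintype.card_fin] at hS
  refine ⟨S, ?_, hSe⟩
  have : GS.card * U.card ≤ min 2 (n - 4) * k := Nat.mul_le_mul hGS hk
  omega

/-- Short presentations of `SUₙ(q)`. -/
theorem su_short (hF : Fintype.card F = q ^ 2) (hq : 4 ≤ q) {n : ℕ} (hn : 4 ≤ n) :
    ∃ R : Finset (FreeGroup (Fin 6)), R.card ≤ (if n ≤ 5 then 35 else 39) ∧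
      Nonempty (PresentedGroup (↑R : Set (FreeGroup (Fin 6))) ≃* ↥(Cfsg.SU n F q)) := by
  classical
  obtain ⟨C⟩ := PSU3Index.exists_ctx hF
  obtain ⟨C'⟩ := exists_conj hF
  obtain ⟨j, hj⟩ := IsCyclic.exists_generator (α := Fˣ)
  obtain ⟨R3, hR3, hev, hsurj, hker⟩ := SU3Pres.exists_pres C hq hj
  obtain ⟨e⟩ := SU3Pres.pres_iso (SU3Pres.ev C j) hsurj hev hker
  obtain ⟨b, r, hb, hAlt, hr⟩ : ∃ b r, b ≤ 3 ∧ AltPres n b r ∧
      r + (3 - b) + min 2 (n - 4) * 2 ≤ (if n ≤ 5 then 7 else 11) ∧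
      r + (3 - b) + min 2 (n - 4) ≤ (if n ≤ 5 then 7 else 9) := by
    rcases show n = 4 ∨ n = 5 ∨ 6 ≤ n by omega with rfl | rfl | h6
    · exact ⟨2, 3, by norm_num, altPres_four, by norm_num, by norm_num⟩
    · exact ⟨2, 4, by norm_num, altPres_five, by norm_num, by norm_num⟩
    · exact ⟨3, 7, le_rfl, altPres_large (by omega), by rw [if_neg (by omega)]; omega,
        by rw [if_neg (by omega)]; omega⟩
  by_cases h8 : q = 8
  · have h2 : (2 : F) = 0 := by
      have hc : (Fintype.card F : F) = 0 := FiniteField.cast_card_eq_zero F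
      rw [hF, h8] at hc
      have : (2 : F) ^ 6 = 0 := by rw [← hc]; norm_num
      exact eq_zero_of_pow_eq_zero this
    obtain ⟨u, hu⟩ := exists_one hF C' h2
    refine su_count hF C' hn hq R3 hR3 e hAlt (by rw [Fintype.card_fin]; omega) {u} (by simpa using hu)
      (k := 1) (by simp) {(u, u), (u, theta u)} ?_ (p := 2) Finset.card_le_two ?_
    · simpa using farOK_one u
    · rw [if_pos h8, Fintype.card_fin]
      split_ifs at hr ⊢ <;> omega
  · obtain ⟨u, v, huv⟩ := exists_two hF C'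
    refine su_count hF C' hn hq R3 hR3 e hAlt (by rw [Fintype.card_fin]; omega) {u, v} ?_
      (k := 2) Finset.card_le_two {(u, u), (u, v), (v, v)} ?_ (p := 3) Finset.card_le_three ?_
    · refine top_le_iff.1 (huv.symm.le.trans (Subgroup.closure_mono ?_))
      simp
    · simpa using farOK_two u v huv
    · rw [if_neg h8, Fintype.card_fin]
      split_ifs at hr ⊢ <;> omega

/-- Short presentations of `PSUₙ(q)`. -/
theorem psu_short (hF : Fintype.card F = q ^ 2) (hq : 4 ≤ q) {n : ℕ} (hn : 4 ≤ n) :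
    ∃ R : Finset (FreeGroup (Fin 6)), R.card ≤ (if n ≤ 5 then 36 else 40) ∧
      Nonempty (PresentedGroup (↑R : Set (FreeGroup (Fin 6))) ≃* Cfsg.PSU n F q) := by
  obtain ⟨C⟩ := exists_conj hF
  obtain ⟨R, hR, he⟩ := su_short hF hq hn
  obtain ⟨z, hz, hgen⟩ := exists_center_gen hF C (n := n) (by omega)
  obtain ⟨S, hS, hSe⟩ := quot_pres he _ z hz hgen
  refine ⟨S, hS.trans ?_, hSe⟩
  split_ifs at hR ⊢ <;> omega

end Cfsg.Agent.SUGlue
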