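import Cfsg.Agent.Lib.SUGlue.Hom
import Cfsg.Agent.Lib.SLShort.Main

/-!
Presentations of `SUₙ(q)`, `q ≥ 4`, from one of `SU₃(q)` and one of the alternating group with few more relations.
-/

set_option autoImplicit false
set_option linter.unusedSectionVars false
set_option linter.unusedSimpArgs false
set_option linter.style.haveILetI false
set_option linter.style.show false

namespace Cfsg.Agent.SUGlue

open Equiv
open Cfsg.Agent.Phan (emb emb_emb)
open Cfsg.Agent.BoundedPres (PresB exists_word exists_equiv lift_mem_closure pt pt_inj e3 c3 ga gb ga0 ga1 gb0 gb1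
  alt alt_fix exists_alt commute_extend)
open Cfsg.Agent.SLShort (AltPres alt_gens pad ga_gb ga_sq)
open Cfsg.Agent.AutPSU (Conj)
open scoped commutatorElement

variable {F : Type*} [Field F] [Fintype F] {q n : ℕ} (hn : 4 ≤ n)

local notation "SU[" m "]" => Cfsg.SU m F q

/-- Pairs whose far commutation gives that of all the generators. -/
def FarOK (U : Set ↥(Cfsg.SU 2 F q)) (P : Set (↥(Cfsg.SU 2 F q) × ↥(Cfsg.SU 2 F q))) : Prop :=
  ∀ (G : Type) [Group G] (f : ↥(Cfsg.SU 2 F q) →* G) (a b : G), a * a = 1 → b * b = 1 → a * b = b * a →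
    (∀ h, a * f h * a⁻¹ = f (theta h)) → (∀ p ∈ P, Commute (f p.1) (b * f p.2 * b⁻¹)) →
    ∀ x ∈ U ∪ theta '' U, ∀ y ∈ U ∪ theta '' U, Commute (f x) (b * f y * b⁻¹)

theorem farOK_one (u : ↥(Cfsg.SU 2 F q)) : FarOK {u} {(u, u), (u, theta u)} := by
  intro G _ f a b ha hb hab hexch hP
  have hmove : ∀ h, a * (b * f h * b⁻¹) * a⁻¹ = b * f (theta h) * b⁻¹ := fun h => by
    rw [← hexch, show a * (b * f h * b⁻¹) * a⁻¹ = (a * b) * f h * (a * b)⁻¹ by group, hab]; group
  have f11 := hP _ (Or.inl rfl)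
  have f12 := hP _ (Or.inr rfl)
  have f22 := (Commute.conj_iff a).2 f11
  rw [hexch, hmove] at f22
  have f21 := (Commute.conj_iff a).2 f12
  rw [hexch, hmove, theta_theta] at f21
  rintro x (hx | ⟨x, hx, rfl⟩) y (hy | ⟨y, hy, rfl⟩) <;> simp only [Set.mem_singleton_iff] at hx hy <;>
    subst hx hy
  exacts [f11, f12, f21, f22]

theorem farOK_two (u v : ↥(Cfsg.SU 2 F q)) (huv : Subgroup.closure ({u, v} : Set ↥(Cfsg.SU 2 F q)) = ⊤) :
    FarOK {u, v} {(u, u), (u, v), (v, v)} := by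
  intro G _ f a b ha hb hab hexch hP
  have hbi : b⁻¹ = b := inv_eq_of_mul_eq_one_right hb
  have h12 := hP _ (Or.inr (Or.inl rfl))
  have h21 : Commute (f v) (b * f u * b⁻¹) := by
    have := ((Commute.conj_iff b).2 h12).symm
    rwa [show b * (b * f v * b⁻¹) * b⁻¹ = (b * b) * f v * (b * b)⁻¹ by group, hb, one_mul, inv_one, mul_one] at this
  intro x _ y _
  refine commute_extend f ((MulAut.conj b).toMonoidHom.comp f) _ _ huv huv ?_ x y
  rintro _ (rfl | rfl) _ (rfl | rfl)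
  exacts [hP _ (Or.inl rfl), h12, h21, hP _ (Or.inr (Or.inr rfl))]

theorem pt_val (a : Fin 4) : (pt hn a : ℕ) = (a : ℕ) := rfl

theorem emb_e01 (h : SU[2]) : emb 0 (show 0 + 3 ≤ n by omega) (e01 h) = (emb 0 (show 0 + 2 ≤ n by omega) h : SU[n]) :=
  emb_emb 0 _ 0 _ 0 _ rfl h

theorem T_cyc : (emb 0 (show 0 + 3 ≤ n by omega) (pm 3 F q cpA) : SU[n]) = pm n F q (c3 hn) := by
  symm
  refine pm_emb (c3 hn) cpA _ (fun a => ?_) fun i hi => ?_
  · rw [show (⟨0 + a, by omega⟩ : Fin n) = e3 hn a from Fin.ext (zero_add _), BoundedPres.c3_e3, zero_add]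
    rfl
  · rw [zero_add] at hi
    refine SLShort.c3_fix hn ?_ ?_ ?_ <;> intro e <;> have := congrArg Fin.val e <;>
      simp [BoundedPres.pt] at this <;> omega

theorem two_pts (σ : Perm (Fin n)) {o' : ℕ} (ε : Perm (Fin 2)) (h0 : (σ (pt hn 0) : ℕ) = o' + ε 0)
    (h1 : (σ (pt hn 1) : ℕ) = o' + ε 1) (a : Fin 2) : (σ ⟨0 + a, by omega⟩ : ℕ) = o' + ε a := by
  fin_cases a
  · exact h0
  · exact h1

theorem T_exch (h : SU[2]) : pm n F q (ga hn) * emb 0 (show 0 + 3 ≤ n by omega) (e01 h) * (pm n F q (ga hn))⁻¹ =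
    emb 0 (show 0 + 3 ≤ n by omega) (e01 (theta h)) := by
  rw [pm_conj, emb_e01 hn, emb_e01 hn]
  exact mm_emb _ (swap 0 1) _ _ (two_pts hn _ _ (by rw [ga0]; rfl) (by rw [ga1]; rfl)) h

theorem T_fixed (τ : alternatingGroup {x : Fin n // x ≠ pt hn 0 ∧ x ≠ pt hn 1}) (h : SU[2]) :
    Commute (pm n F q (alt hn τ)) (emb 0 (show 0 + 3 ≤ n by omega) (e01 h)) := by
  refine mul_inv_eq_iff_eq_mul.1 ?_
  rw [pm_conj, emb_e01 hn, mm_emb _ 1 _ (show 0 + 2 ≤ n by omega)
    (two_pts hn _ _ (by rw [(alt_fix hn τ).1]; rfl) (by rw [(alt_fix hn τ).2]; rfl)) h, mm_one]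

theorem T_far (h h' : SU[2]) : Commute (emb 0 (show 0 + 3 ≤ n by omega) (e01 h) : SU[n])
    (pm n F q (gb hn) * emb 0 (show 0 + 3 ≤ n by omega) (e01 h') * (pm n F q (gb hn))⁻¹) := by
  rw [pm_conj, emb_e01 hn, emb_e01 hn, mm_emb _ 1 _ (show 2 + 2 ≤ n by omega)
    (two_pts hn _ _ (by rw [gb0]; rfl) (by rw [gb1]; rfl)) h', mm_one]
  exact Phan.emb_comm 0 _ 2 _ le_rfl h h'

variable (C : Conj F q) (hF : Fintype.card F = q ^ 2)

include C hF in
theorem gen_top (hq : 3 ≤ q) (H : Subgroup SU[n]) (h3 : ∀ s, emb 0 (show 0 + 3 ≤ n by omega) s ∈ H)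
    (hA : ∀ σ, pm n F q σ ∈ H) : H = ⊤ := by
  refine Phan.gen_two C hF hq (by omega) H fun i hi s => ?_
  obtain ⟨σ, s0, s1⟩ := BoundedPres.exists_pair_alt hn (i := ⟨i, by omega⟩) (j := ⟨i + 1, by omega⟩) (by simp)
  have e : (emb i hi s : SU[n]) = pm n F q σ * emb 0 (show 0 + 2 ≤ n by omega) s * (pm n F q σ)⁻¹ := by
    rw [pm_conj, mm_emb _ 1 _ hi (two_pts hn _ _ (by rw [s0]; rfl) (by rw [s1]; rfl)) s, mm_one]
  rw [e, ← emb_e01 hn]
  exact mul_mem (mul_mem (hA σ) (h3 _)) (inv_mem (hA σ))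

/-- The count with extra relations, given the generation and the universal property. -/
theorem su_pres_of {α : Type} [Finite α] {c : ℕ} (R3 : Finset (FreeGroup α)) (hR3 : R3.card ≤ c)
    (e : PresentedGroup (↑R3 : Set (FreeGroup α)) ≃* SU[3]) {b r : ℕ} (hAlt : AltPres n b r)
    (GS : Finset (alternatingGroup {x : Fin n // x ≠ pt hn 0 ∧ x ≠ pt hn 1}))
    (hGS : Subgroup.closure (GS : Set (alternatingGroup {x : Fin n // x ≠ pt hn 0 ∧ x ≠ pt hn 1})) = ⊤)
    (U : Finset SU[2]) (hU : Subgroup.closure ((U : Set SU[2]) ∪ theta '' (U : Set SU[2])) = ⊤)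
    (P : Finset (SU[2] × SU[2])) (hP : FarOK (U : Set SU[2]) (P : Set (SU[2] × SU[2])))
    (E : Finset (FreeGroup (↥(Cfsg.SU 3 F q) ⊕ ↥(alternatingGroup (Fin n)))))
    (hE : ∀ x ∈ E, FreeGroup.lift
      (Sum.elim (emb (F := F) (q := q) (k := 3) (n := n) 0 (by omega)) (pm n F q)) x = 1)
    (htop : ∀ H : Subgroup SU[n], (∀ s : SU[3], emb 0 (show 0 + 3 ≤ n by omega) s ∈ H) →
      (∀ σ, pm n F q σ ∈ H) → H = ⊤)
    (hom : ∀ (G : Type) [Group G] (φ : SU[3] →* G) (ψ : alternatingGroup (Fin n) →* G), Rels hn φ ψ →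
      (∀ x ∈ E, FreeGroup.lift (Sum.elim φ ψ) x = 1) →
      ∃ f : SU[n] →* G, (∀ s, f (emb 0 (show 0 + 3 ≤ n by omega) s) = φ s) ∧ ∀ σ, f (pm n F q σ) = ψ σ) :
    ∃ R : Finset (FreeGroup (α ⊕ Fin b)), R.card ≤ c + r + 1 + U.card + GS.card * U.card + P.card + E.card ∧
      Nonempty (PresentedGroup (↑R : Set (FreeGroup (α ⊕ Fin b))) ≃* SU[n]) := by
  classical
  obtain ⟨RA, vA, hRA, hvA, hgenA, huA⟩ := hAlt
  let i3 : SU[3] →* SU[n] := emb 0 (show 0 + 3 ≤ n by omega)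
  let g3 : α → SU[3] := fun a => e (PresentedGroup.of a)
  let v : α ⊕ Fin b → SU[n] := Sum.elim (i3 ∘ g3) (pm n F q ∘ vA)
  have hl0 : FreeGroup.lift g3 = e.toMonoidHom.comp (PresentedGroup.mk _) :=
    FreeGroup.ext_hom _ _ fun a => by simp [g3]; rfl
  choose preA hpreA using fun x => exists_word vA (t := x) (hgenA ▸ Subgroup.mem_top x)
  choose pre3 hpre3 using fun x : SU[3] => PresentedGroup.mk_surjective (↑R3 : Set (FreeGroup α)) (e.symm x)
  let WA : alternatingGroup (Fin n) → FreeGroup (α ⊕ Fin b) := fun x => FreeGroup.map Sum.inr (preA x)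
  let W3 : SU[3] → FreeGroup (α ⊕ Fin b) := fun x => FreeGroup.map Sum.inl (pre3 x)
  have hlA : (FreeGroup.lift v).comp (FreeGroup.map Sum.inr) = (pm n F q).comp (FreeGroup.lift vA) :=
    FreeGroup.ext_hom _ _ fun i => by simp [v]
  have hl3 : (FreeGroup.lift v).comp (FreeGroup.map Sum.inl) = (i3.comp e.toMonoidHom).comp (PresentedGroup.mk _) :=
    FreeGroup.ext_hom _ _ fun i => by simp [v, g3]; rfl
  have hvA' : ∀ x, FreeGroup.lift v (WA x) = pm n F q x := fun x => by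
    refine (DFunLike.congr_fun hlA (preA x)).trans ?_
    rw [MonoidHom.comp_apply, hpreA]
  have hv3' : ∀ x, FreeGroup.lift v (W3 x) = i3 x := fun x => by
    refine (DFunLike.congr_fun hl3 (pre3 x)).trans ?_
    rw [MonoidHom.comp_apply, MonoidHom.comp_apply, hpre3]
    simp
  let R := R3.image (FreeGroup.map Sum.inl) ∪ RA.image (FreeGroup.map Sum.inr) ∪
    ({W3 (pm 3 F q cpA) * (WA (c3 hn))⁻¹} ∪
      U.image (fun u => WA (ga hn) * W3 (e01 u) * (WA (ga hn))⁻¹ * (W3 (e01 (theta u)))⁻¹) ∪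
      (GS ×ˢ U).image (fun p => ⁅WA (alt hn p.1), W3 (e01 p.2)⁆) ∪
      P.image (fun p => ⁅W3 (e01 p.1), WA (gb hn) * W3 (e01 p.2) * (WA (gb hn))⁻¹⁆)) ∪
    E.image (FreeGroup.lift (Sum.elim W3 WA))
  refine ⟨R, ?_, ?_⟩
  · have h1 := Finset.card_union_le (R3.image (FreeGroup.map (Sum.inl (β := Fin b))))
      (RA.image (FreeGroup.map (Sum.inr (α := α))))
    have h2 := (Finset.card_image_le (s := R3) (f := FreeGroup.map (Sum.inl (β := Fin b)))).trans hR3
    have h3 := (Finset.card_image_le (s := RA) (f := FreeGroup.map (Sum.inr (α := α)))).trans hRA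
    have hgu : (GS ×ˢ U).card = GS.card * U.card := Finset.card_product _ _
    refine (Finset.card_union_le _ _).trans ((Nat.add_le_add ((Finset.card_union_le _ _).trans (Nat.add_le_add
      (h1.trans (Nat.add_le_add h2 h3))
      ((Finset.card_union_le _ _).trans (Nat.add_le_add ((Finset.card_union_le _ _).trans
      (Nat.add_le_add ((Finset.card_union_le _ _).trans (Nat.add_le_add (le_of_eq (Finset.card_singleton _))
      Finset.card_image_le)) Finset.card_image_le)) Finset.card_image_le)))) Finset.card_image_le).trans ?_)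
    omega
  refine (exists_equiv R v ?_ ?_ ?_).elim fun e' _ => ⟨e'⟩
  · intro x hx
    simp only [R, Finset.mem_union, Finset.mem_image, Finset.mem_singleton] at hx
    rcases hx with ((⟨y, hy, rfl⟩ | ⟨y, hy, rfl⟩) | ((rfl | ⟨u, -, rfl⟩) | ⟨p, -, rfl⟩) | ⟨p, -, rfl⟩) | ⟨y, hy, rfl⟩
    · refine (DFunLike.congr_fun hl3 y).trans ?_
      rw [MonoidHom.comp_apply, PresentedGroup.one_of_mem (Finset.mem_coe.2 hy), map_one]
    · refine (DFunLike.congr_fun hlA y).trans ?_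
      rw [MonoidHom.comp_apply, hvA y hy, map_one]
    · rw [map_mul, map_inv, hv3', hvA', mul_inv_eq_one]
      exact T_cyc hn
    · simp only [map_mul, map_inv, hvA', hv3', mul_inv_eq_one]
      exact T_exch hn u
    · simp only [map_commutatorElement, hvA', hv3']
      exact commutatorElement_eq_one_iff_commute.2 (T_fixed hn p.1 p.2)
    · simp only [map_commutatorElement, map_mul, map_inv, hvA', hv3']
      exact commutatorElement_eq_one_iff_commute.2 (T_far hn p.1 p.2)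
    · refine (DFunLike.congr_fun (f := (FreeGroup.lift v).comp (FreeGroup.lift (Sum.elim W3 WA)))
        (g := FreeGroup.lift (Sum.elim i3 (pm n F q))) (FreeGroup.ext_hom _ _ fun z => ?_) y).trans (hE y hy)
      rcases z with z | z <;> simp [hv3', hvA']
  · refine htop _ (fun s => ?_) (fun σ => ?_)
    · show i3 s ∈ _
      rw [← hv3']; exact lift_mem_closure v _
    · rw [← hvA']; exact lift_mem_closure v _
  intro G _ w hw _
  obtain ⟨ψ, hψ⟩ := huA G (w ∘ Sum.inr) fun x hx => by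
    rw [← hw _ (Finset.mem_union_left _ (Finset.mem_union_left _ (Finset.mem_union_right _ (Finset.mem_image_of_mem _ hx))))]
    exact DFunLike.congr_fun (f := FreeGroup.lift (w ∘ Sum.inr))
      (g := (FreeGroup.lift w).comp (FreeGroup.map Sum.inr)) (FreeGroup.ext_hom _ _ fun i => by simp) x
  have hwA : ∀ x, FreeGroup.lift w (WA x) = ψ x := fun x => by
    refine (DFunLike.congr_fun (f := (FreeGroup.lift w).comp (FreeGroup.map Sum.inr))
      (g := ψ.comp (FreeGroup.lift vA)) (FreeGroup.ext_hom _ _ fun i => by simp [hψ]) (preA x)).trans ?_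
    rw [MonoidHom.comp_apply, hpreA]
  have hw3R : ∀ x ∈ (↑R3 : Set (FreeGroup α)), FreeGroup.lift (w ∘ Sum.inl) x = 1 := fun x hx => by
    rw [← hw _ (Finset.mem_union_left _ (Finset.mem_union_left _ (Finset.mem_union_left _
      (Finset.mem_image_of_mem (FreeGroup.map Sum.inl) (Finset.mem_coe.1 hx)))))]
    exact DFunLike.congr_fun (f := FreeGroup.lift (w ∘ Sum.inl))
      (g := (FreeGroup.lift w).comp (FreeGroup.map Sum.inl)) (FreeGroup.ext_hom _ _ fun i => by simp) x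
  let φ : SU[3] →* G := (PresentedGroup.toGroup hw3R).comp e.symm.toMonoidHom
  have hw3 : ∀ x, FreeGroup.lift w (W3 x) = φ x := fun x => by
    refine (DFunLike.congr_fun (f := (FreeGroup.lift w).comp (FreeGroup.map Sum.inl))
      (g := (PresentedGroup.toGroup hw3R).comp (PresentedGroup.mk _))
      (FreeGroup.ext_hom _ _ fun i => by simp; exact (PresentedGroup.toGroup.of hw3R).symm) (pre3 x)).trans ?_
    rw [MonoidHom.comp_apply, hpre3]
    rfl
  have hQ : ∀ x ∈ {W3 (pm 3 F q cpA) * (WA (c3 hn))⁻¹} ∪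
      U.image (fun u => WA (ga hn) * W3 (e01 u) * (WA (ga hn))⁻¹ * (W3 (e01 (theta u)))⁻¹) ∪
      (GS ×ˢ U).image (fun p => ⁅WA (alt hn p.1), W3 (e01 p.2)⁆) ∪
      P.image (fun p => ⁅W3 (e01 p.1), WA (gb hn) * W3 (e01 p.2) * (WA (gb hn))⁻¹⁆), FreeGroup.lift w x = 1 :=
    fun x hx => hw x (Finset.mem_union_left _ (Finset.mem_union_right _ hx))
  simp only [Finset.mem_union, Finset.mem_singleton, or_imp, forall_and, forall_eq, Finset.forall_mem_image,
    map_mul, map_inv, map_commutatorElement, hw3, hwA, mul_inv_eq_one,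
    commutatorElement_eq_one_iff_commute] at hQ
  obtain ⟨⟨⟨q1, q2⟩, q3⟩, q4⟩ := hQ
  let f2 : SU[2] →* G := φ.comp e01
  have hA2 : ψ (ga hn) * ψ (ga hn) = 1 := by rw [← map_mul, ga_sq, map_one]
  have gb_sq : gb hn * gb hn = 1 := by
    apply Subtype.ext
    ext x
    congr 1
    by_cases hx : ∃ a, pt hn a = x
    · obtain ⟨a, rfl⟩ := hx
      simp only [Subgroup.coe_mul, gb, BoundedPres.dswap, Perm.mul_apply, BoundedPres.swp, OneMemClass.coe_one,
        Perm.one_apply]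
      exact congrArg (pt hn) (by revert a; decide)
    · push Not at hx
      simp [gb, BoundedPres.dswap, swap_apply_of_ne_of_ne, (hx 0).symm, (hx 1).symm, (hx 2).symm, (hx 3).symm]
  have exch : ∀ h, ψ (ga hn) * f2 h * (ψ (ga hn))⁻¹ = f2 (theta h) := fun h =>
    DFunLike.congr_fun (MonoidHom.eq_of_eqOn_dense hU
      (f := (MulAut.conj (ψ (ga hn))).toMonoidHom.comp f2) (g := f2.comp theta) (by
      rintro x (hx | ⟨u, hu, rfl⟩)
      · exact q2 hx
      · show ψ (ga hn) * φ (e01 (theta u)) * (ψ (ga hn))⁻¹ = φ (e01 (theta (theta u)))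
        rw [theta_theta, ← q2 hu,
          show ψ (ga hn) * (ψ (ga hn) * φ (e01 u) * (ψ (ga hn))⁻¹) * (ψ (ga hn))⁻¹ =
            ψ (ga hn) * ψ (ga hn) * φ (e01 u) * (ψ (ga hn) * ψ (ga hn))⁻¹ by group,
          hA2, one_mul, inv_one, mul_one])) h
  have fixu : ∀ u ∈ U, ∀ τ, Commute (ψ (alt hn τ)) (f2 u) := by
    intro u hu τ
    have hτ : τ ∈ Subgroup.closure (GS : Set (alternatingGroup {x : Fin n // x ≠ pt hn 0 ∧ x ≠ pt hn 1})) :=
      hGS ▸ Subgroup.mem_top τ
    induction hτ using Subgroup.closure_induction with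
    | mem y hy => exact q3 (x := (y, u)) (Finset.mem_product.2 ⟨Finset.mem_coe.1 hy, hu⟩)
    | one => rw [map_one, map_one]; exact Commute.one_left _
    | mul y z _ _ hy hz => rw [map_mul, map_mul]; exact hy.mul_left hz
    | inv y _ hy => rw [map_inv, map_inv]; exact hy.inv_left
  have fixed : ∀ τ h, Commute (ψ (alt hn τ)) (f2 h) := by
    intro τ h
    refine mul_inv_eq_iff_eq_mul.1 (DFunLike.congr_fun (MonoidHom.eq_of_eqOn_dense hU
      (f := (MulAut.conj (ψ (alt hn τ))).toMonoidHom.comp f2) (g := f2) ?_) h)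
    rintro x (hx | ⟨u, hu, rfl⟩)
    · exact mul_inv_eq_iff_eq_mul.2 (fixu x hx τ).eq
    · obtain ⟨τ', hτ'⟩ := exists_alt hn (ga hn * alt hn τ * ga hn)
        (show (ga hn : Perm (Fin n)) ((alt hn τ : Perm (Fin n)) ((ga hn : Perm (Fin n)) (pt hn 0))) = _ by
          rw [ga0, (alt_fix hn τ).2, ga1])
        (show (ga hn : Perm (Fin n)) ((alt hn τ : Perm (Fin n)) ((ga hn : Perm (Fin n)) (pt hn 1))) = _ by
          rw [ga1, (alt_fix hn τ).1, ga0])
      have h1 := fixu u hu τ'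
      rw [hτ', map_mul, map_mul] at h1
      have h2 := (Commute.conj_iff (ψ (ga hn))).2 h1
      rw [exch, show ψ (ga hn) * (ψ (ga hn) * ψ (alt hn τ) * ψ (ga hn)) * (ψ (ga hn))⁻¹ =
        ψ (ga hn) * ψ (ga hn) * ψ (alt hn τ) by group, hA2, one_mul] at h2
      exact mul_inv_eq_iff_eq_mul.2 h2.eq
  have hfar := hP G f2 (ψ (ga hn)) (ψ (gb hn)) hA2 (by rw [← map_mul, gb_sq, map_one])
    (by rw [← map_mul, ga_gb, map_mul]) exch (fun p hp => q4 (Finset.mem_coe.1 hp))
  have RR : Rels hn φ ψ :=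
    { cyc := q1
      exch := exch
      fixed := fixed
      far := fun h h' => commute_extend f2 ((MulAut.conj (ψ (gb hn))).toMonoidHom.comp f2) _ _ hU hU hfar h h' }
  have hE' : ∀ x ∈ E, FreeGroup.lift (Sum.elim φ ψ) x = 1 := fun x hx => by
    refine (DFunLike.congr_fun (f := FreeGroup.lift (Sum.elim φ ψ))
      (g := (FreeGroup.lift w).comp (FreeGroup.lift (Sum.elim W3 WA))) (FreeGroup.ext_hom _ _ fun z => ?_) x).trans
      (hw _ (Finset.mem_union_right _ (Finset.mem_image_of_mem _ hx)))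
    rcases z with z | z <;> simp [hw3, hwA]
  obtain ⟨f, hf3, hfA⟩ := hom G φ ψ RR hE'
  refine ⟨f, fun i => ?_⟩
  rcases i with a | a
  · show f (i3 (g3 a)) = _
    rw [hf3]
    show PresentedGroup.toGroup hw3R (e.symm (e _)) = _
    rw [e.symm_apply_apply, PresentedGroup.toGroup.of]
    rfl
  · show f (pm n F q (vA a)) = _
    rw [hfA]; exact hψ a

include C hF in
/-- The count. -/
theorem su_pres (hq : 4 ≤ q) {α : Type} [Finite α] {c : ℕ} (R3 : Finset (FreeGroup α)) (hR3 : R3.card ≤ c)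
    (e : PresentedGroup (↑R3 : Set (FreeGroup α)) ≃* SU[3]) {b r : ℕ} (hAlt : AltPres n b r)
    (GS : Finset (alternatingGroup {x : Fin n // x ≠ pt hn 0 ∧ x ≠ pt hn 1}))
    (hGS : Subgroup.closure (GS : Set (alternatingGroup {x : Fin n // x ≠ pt hn 0 ∧ x ≠ pt hn 1})) = ⊤)
    (U : Finset SU[2]) (hU : Subgroup.closure ((U : Set SU[2]) ∪ theta '' (U : Set SU[2])) = ⊤)
    (P : Finset (SU[2] × SU[2])) (hP : FarOK (U : Set SU[2]) (P : Set (SU[2] × SU[2]))) :
    ∃ R : Finset (FreeGroup (α ⊕ Fin b)), R.card ≤ c + r + 1 + U.card + GS.card * U.card + P.card ∧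
      Nonempty (PresentedGroup (↑R : Set (FreeGroup (α ⊕ Fin b))) ≃* SU[n]) := by
  obtain ⟨R, hR, he⟩ := su_pres_of hn R3 hR3 e hAlt GS hGS U hU P hP ∅ (by simp)
    (fun H h3 hA => gen_top hn C hF (by omega) H h3 hA) fun G _ φ ψ RR _ => exists_hom hn C hF hq RR
  exact ⟨R, by simpa using hR, he⟩

end Cfsg.Agent.SUGlue
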