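import Cfsg.Agent.Lib.SUGlue.SmallBase
import Cfsg.Agent.Lib.SUGlue.FastCheck
import Cfsg.Agent.Lib.SUGlue.DataThree
import Cfsg.Agent.Lib.Compute.CosetData.U43T
import Cfsg.Agent.Lib.Compute.CosetCardLe
import Cfsg.Agent.Lib.SchurMult.U43Data
import Cfsg.Agent.Lib.Phan.ThreeMain

/-!
The unitary groups over the field with nine elements: a presentation of `SU₃(3)` and the block of four.
-/

set_option autoImplicit false
set_option linter.unusedSectionVars false
set_option linter.unusedSimpArgs false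
set_option linter.style.haveILetI false
set_option linter.style.show false
set_option maxRecDepth 20000

namespace Cfsg.Agent.SUGlue.Q3

open Matrix Equiv
open Cfsg.Agent.Phan (emb emb_emb)
open Cfsg.Agent.BoundedPres (ga gb c3 pt)
open Cfsg.Agent.AutPSU (Conj)
open Cfsg.Agent.CosetCert (wprod)

/-- The field. -/
abbrev K := SchurMult.K9

theorem hK : Fintype.card K = 3 ^ 2 := SchurMult.K9.card

local notation "SU[" m "]" => Cfsg.SU m K 3

/-- A matrix from its code. -/
def dm (n c : ℕ) : Matrix (Fin n) (Fin n) K :=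
  Matrix.of fun i j => SchurMult.K9.mk ((c >>> (4 * (n * (i : ℕ) + (j : ℕ)))) % 16)

theorem mats_ok : ∀ i : Fin 6, (dm 3 (DataThree.mats.getD i 0)).det = 1 ∧
    (dm 3 (DataThree.mats.getD i 0))ᵀ * (dm 3 (DataThree.mats.getD i 0)).map (fun x => x ^ 3) = 1 := by
  decide +kernel

theorem ts_ok : ∀ i : Fin 4, (dm 3 (DataThree.ts.getD i 0)).det = 1 ∧
    (dm 3 (DataThree.ts.getD i 0))ᵀ * (dm 3 (DataThree.ts.getD i 0)).map (fun x => x ^ 3) = 1 := by
  decide +kernel

theorem u2_ok : ∀ i : Fin 2, (dm 2 (DataThree.u2.getD i 0)).det = 1 ∧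
    (dm 2 (DataThree.u2.getD i 0))ᵀ * (dm 2 (DataThree.u2.getD i 0)).map (fun x => x ^ 3) = 1 := by
  decide +kernel

/-- The generators and their inverses. -/
def gx (l : ℕ) : ↥(Cfsg.SU 3 K 3) :=
  el hK _ (mats_ok ⟨l % 6, Nat.mod_lt _ (by norm_num)⟩).1 (mats_ok ⟨l % 6, Nat.mod_lt _ (by norm_num)⟩).2

/-- The four involutions. -/
def ts (l : ℕ) : ↥(Cfsg.SU 3 K 3) :=
  el hK _ (ts_ok ⟨l % 4, Nat.mod_lt _ (by norm_num)⟩).1 (ts_ok ⟨l % 4, Nat.mod_lt _ (by norm_num)⟩).2

/-- The generators of the block of two. -/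
def uv (l : ℕ) : ↥(Cfsg.SU 2 K 3) :=
  el hK _ (u2_ok ⟨l % 2, Nat.mod_lt _ (by norm_num)⟩).1 (u2_ok ⟨l % 2, Nat.mod_lt _ (by norm_num)⟩).2

theorem uv_top : Subgroup.closure (uv '' {x | x < 2}) = ⊤ := by
  refine top_of_tree (matHom 2 K 3) uv (dm 2) 2 DataThree.codes2 DataThree.tree2 (by decide +kernel)
    (by decide +kernel) (by decide +kernel) ?_
  rw [(card_su hK (Or.inr rfl)).1]
  decide +kernel

/-- A subgroup of the block of three with the two blocks of two is everything. -/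
theorem top_three (H : Subgroup SU[3]) (hu : ∀ l < 2, e01 (uv l) ∈ H) (hc : pm 3 K 3 cpA ∈ H) : H = ⊤ := by
  obtain ⟨C⟩ := AutPSU.exists_conj hK
  have h01 : ∀ s, e01 s ∈ H := by
    intro s
    have hle : Subgroup.closure (uv '' {x | x < 2}) ≤ H.comap e01 :=
      (Subgroup.closure_le _).2 (by rintro _ ⟨l, hl, rfl⟩; exact hu l hl)
    exact hle (uv_top ▸ Subgroup.mem_top s)
  refine Phan.gen_two C hK (by norm_num) (by norm_num) H fun i hi s => ?_
  obtain rfl | rfl : i = 0 ∨ i = 1 := by omega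
  · exact h01 s
  · have e : (emb 1 hi s : SU[3]) = pm 3 K 3 cpA * e01 s * (pm 3 K 3 cpA)⁻¹ := by
      rw [pm_conj, e01, mm_emb _ 1 _ hi (fun a => ?_), mm_one]
      fin_cases a <;> decide
    rw [e]
    exact mul_mem (mul_mem hc (h01 s)) (inv_mem hc)

/-- The values of the generators. -/
def gl : List ↥(Cfsg.SU 3 K 3) := [gx 0, gx 2, gx 4]

theorem gx_inv (i : Fin 3) : gx (2 * (i : ℕ) + 1) = (gx (2 * (i : ℕ)))⁻¹ := by
  have h : ∀ i : Fin 3, dm 3 (DataThree.mats.getD (2 * (i : ℕ)) 0) * dm 3 (DataThree.mats.getD (2 * (i : ℕ) + 1) 0) = 1 := by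
    decide +kernel
  refine eq_inv_of_mul_eq_one_right (su_ext ?_)
  have e1 : (2 * (i : ℕ)) % 6 = 2 * i := Nat.mod_eq_of_lt (by omega)
  have e2 : (2 * (i : ℕ) + 1) % 6 = 2 * i + 1 := Nat.mod_eq_of_lt (by omega)
  show dm 3 (DataThree.mats.getD ((2 * (i : ℕ)) % 6) 0) * dm 3 (DataThree.mats.getD ((2 * (i : ℕ) + 1) % 6) 0) = 1
  rw [e1, e2]
  exact h i

theorem letter_gl : ∀ l, l < 6 → TableCert.letter gl l = gx l := by
  intro l hl
  interval_cases l
  · rfl
  · exact (gx_inv 0).symm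
  · rfl
  · exact (gx_inv 1).symm
  · rfl
  · exact (gx_inv 2).symm

theorem wval_gl (w : List ℕ) (hw : ∀ l ∈ w, l < 6) : TableCert.wval gl w = (w.map gx).prod := by
  rw [wval_prod, List.map_congr_left fun l hl => letter_gl l (hw l hl)]

theorem gx_word (w ps : List ℕ) (g : SU[3]) (hw : (w.all fun l => decide (l < 6)) = true)
    (h : chk (matHom 3 K 3 ∘ gx) (dm 3) (matHom 3 K 3 g) 1 w ps = true) : TableCert.wval gl w = g := by
  rw [wval_gl w fun l hl => by simpa using (List.all_eq_true.1 hw) l hl]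
  exact chk_hom (matHom 3 K 3) (fun a b e => su_ext e) gx g (dm 3) w ps h

theorem gl_rel : ∀ i : Fin 6, TableCert.wval gl (DataThree.rels.getD i []) = 1 := fun i =>
  gx_word _ (DataThree.relPs.getD i []) 1 (by revert i; decide +kernel) (by revert i; decide +kernel)

/-- The two blocks of two inside the block of three. -/
theorem e01_val (l : ℕ) : matHom 3 K 3 (e01 (uv l)) = blkMat 3 (matHom 2 K 3 (uv l)) := emb_val _ _

theorem gl_top : Subgroup.closure (Set.range ![gx 0, gx 2, gx 4]) = ⊤ := by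
  have hl : ∀ w : List ℕ, TableCert.wval gl w ∈ Subgroup.closure (Set.range ![gx 0, gx 2, gx 4]) := by
    intro w
    have hg : ∀ x ∈ gl, x ∈ Subgroup.closure (Set.range ![gx 0, gx 2, gx 4]) := by
      intro x hx
      simp only [gl, List.mem_cons, List.not_mem_nil, or_false] at hx
      rcases hx with rfl | rfl | rfl
      exacts [Subgroup.subset_closure ⟨0, rfl⟩, Subgroup.subset_closure ⟨1, rfl⟩, Subgroup.subset_closure ⟨2, rfl⟩]
    have hlet : ∀ l, TableCert.letter gl l ∈ Subgroup.closure (Set.range ![gx 0, gx 2, gx 4]) := fun l => by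
      have hd : gl.getD (l / 2) 1 ∈ Subgroup.closure (Set.range ![gx 0, gx 2, gx 4]) := by
        by_cases h : l / 2 < gl.length
        · rw [List.getD_eq_getElem _ _ h]; exact hg _ (List.getElem_mem _)
        · rw [List.getD_eq_default _ _ (by omega)]; exact one_mem _
      unfold TableCert.letter
      split
      · exact hd
      · exact inv_mem hd
    induction w with
    | nil => exact one_mem _
    | cons l w ih => exact mul_mem (hlet l) ih
  refine top_three _ (fun l hl' => ?_) ?_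
  · rw [← gx_word (DataThree.genW.getD l []) (DataThree.genPs.getD l []) (e01 (uv l))
      (by interval_cases l <;> decide +kernel) (by rw [e01_val]; interval_cases l <;> decide +kernel)]
    exact hl _
  · rw [← gx_word (DataThree.genW.getD 2 []) (DataThree.genPs.getD 2 []) (pm 3 K 3 cpA)
      (by decide +kernel) (by decide +kernel)]
    exact hl _

/-- The relators as free words. -/
def R3 : Finset (FreeGroup (Fin 3)) :=
  (Finset.univ : Finset (Fin 6)).image fun i : Fin 6 =>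
    TableCert.wval [FreeGroup.of 0, FreeGroup.of 1, FreeGroup.of 2] (DataThree.rels.getD i [])

theorem R3_card : R3.card ≤ 6 := Finset.card_image_le.trans (by simp)

theorem pres3 : Nonempty (PresentedGroup (↑R3 : Set (FreeGroup (Fin 3))) ≃* SU[3]) := by
  refine pres_of_bound R3 ![gx 0, gx 2, gx 4] (fun r hr => ?_) gl_top ?_
  · obtain ⟨i, -, rfl⟩ := Finset.mem_image.1 hr
    rw [wval_map]
    simp only [List.map_cons, List.map_nil, FreeGroup.lift_apply_of]
    exact gl_rel i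
  rw [(card_su hK (Or.inr rfl)).2.1]
  let g : List (PresentedGroup (↑R3 : Set (FreeGroup (Fin 3)))) :=
    [PresentedGroup.of 0, PresentedGroup.of 1, PresentedGroup.of 2]
  have hrel : ∀ i : Fin 6, TableCert.wval g (DataThree.rels.getD i []) = 1 := fun i => by
    have h : PresentedGroup.mk (↑R3 : Set (FreeGroup (Fin 3)))
        (TableCert.wval [FreeGroup.of 0, FreeGroup.of 1, FreeGroup.of 2] (DataThree.rels.getD i [])) = 1 :=
      PresentedGroup.one_of_mem (Finset.mem_coe.2 (Finset.mem_image_of_mem _ (Finset.mem_univ i)))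
    rw [wval_map] at h
    exact h
  let g2 : List (PresentedGroup (↑R3 : Set (FreeGroup (Fin 3)))) := [PresentedGroup.of 0, PresentedGroup.of 1]
  have hrel' : ∀ r ∈ DataThree.certH.rels, TableCert.wval g2 r = 1 := by
    have hs : ∀ r ∈ DataThree.certH.rels,
        (∀ l ∈ r, l < 4) ∧ ∃ i : Fin 6, DataThree.rels.getD i [] = r := by decide +kernel
    intro r hr
    obtain ⟨hl, i, hi⟩ := hs r hr
    rw [wval_prod, List.map_congr_left (g := TableCert.letter g) (fun l hl' => by
      have := hl l hl'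
      interval_cases l <;> rfl), ← wval_prod, ← hi]
    exact hrel i
  have h8 : (PresentedGroup.of 0 : PresentedGroup (↑R3 : Set (FreeGroup (Fin 3)))) ^ 8 = 1 := by
    have hp : ∃ i : Fin 6, DataThree.rels.getD i [] = [0, 0, 0, 0, 0, 0, 0, 0] := by decide +kernel
    obtain ⟨i, hi⟩ := hp
    rw [← hrel i, hi]
    simp [TableCert.wval, TableCert.letter, g, pow_succ, mul_assoc]
  have hHcert := card_closure_le DataThree.certH g2 (Subgroup.zpowers (PresentedGroup.of 0))
    (by decide +kernel) hrel' (fun l hl => by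
      have hl0 : l = 0 := by revert hl; revert l; decide +kernel
      subst hl0
      exact Subgroup.mem_zpowers _) (FastCheck.check_of_fast (by decide +kernel)) (card_zpowers_le _ (by norm_num) h8)
  have hG := card_closure_le DataThree.cert g (Subgroup.closure {x | x ∈ g2})
    (by decide +kernel) (fun r hr => by
      have hs : ∀ r ∈ DataThree.cert.rels, ∃ i : Fin 6, DataThree.rels.getD i [] = r := by decide +kernel
      obtain ⟨i, hi⟩ := hs r hr
      rw [← hi]; exact hrel i) (fun l hl => by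
      have hl0 : l = 0 ∨ l = 2 := by revert hl; revert l; decide +kernel
      rcases hl0 with rfl | rfl <;> refine Subgroup.subset_closure ?_ <;> simp [g, g2, TableCert.letter])
    (FastCheck.check_of_fast (by decide +kernel)) (m := DataThree.certH.n * 8) hHcert
  have htop : Subgroup.closure {x | x ∈ g} = ⊤ := by
    refine top_le_iff.1 ((PresentedGroup.closure_range_of _).symm.le.trans (Subgroup.closure_mono ?_))
    rintro _ ⟨i, rfl⟩
    fin_cases i <;> simp [g]
  rw [htop] at hG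
  exact CosetCert.CardLe.of_top ⟨hG.1, hG.2.trans (by decide +kernel)⟩

/-! ### The block of four -/

theorem ts_invol (l : ℕ) : ts l * ts l = 1 := by
  refine su_ext ?_
  have h : ∀ i : Fin 4, dm 3 (DataThree.ts.getD i 0) * dm 3 (DataThree.ts.getD i 0) = 1 := by decide +kernel
  exact h ⟨l % 4, Nat.mod_lt _ (by norm_num)⟩

theorem ts_top : Subgroup.closure (ts '' {x | x < 4}) = ⊤ := by
  have hw : ∀ i : Fin 3, ((DataThree.invW.getD i []).map ts).prod ∈ Subgroup.closure (ts '' {x | x < 4}) := by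
    intro i
    refine Subgroup.list_prod_mem _ fun x hx => ?_
    obtain ⟨l, hl, rfl⟩ := List.mem_map.1 hx
    refine Subgroup.subset_closure ⟨l, ?_, rfl⟩
    have hb : ∀ i : Fin 3, ((DataThree.invW.getD i []).all fun l => decide (l < 4)) = true := by decide +kernel
    simpa using List.all_eq_true.1 (hb i) l hl
  refine top_three _ (fun l hl => ?_) ?_
  · rw [← chk_hom (matHom 3 K 3) (fun a b e => su_ext e) ts (e01 (uv l)) (dm 3) (DataThree.invW.getD l [])
      (DataThree.invPs.getD l []) (by rw [e01_val]; interval_cases l <;> decide +kernel)]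
    exact hw ⟨l, by omega⟩
  · rw [← chk_hom (matHom 3 K 3) (fun a b e => su_ext e) ts (pm 3 K 3 cpA) (dm 3) (DataThree.invW.getD 2 [])
      (DataThree.invPs.getD 2 []) (by decide +kernel)]
    exact hw 2

variable {n : ℕ} (hn : 4 ≤ n)

/-- The symbols of the six involutions. -/
def sym (x : ℕ) : ↥(Cfsg.SU 3 K 3) ⊕ ↥(alternatingGroup (Fin n)) :=
  if x < 4 then Sum.inl (ts x) else if x = 4 then Sum.inr (ga hn) else Sum.inr (gb hn)

variable {G : Type*} [Group G] (φ : ↥(Cfsg.SU 3 K 3) →* G) (ψ : alternatingGroup (Fin n) →* G)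

/-- The six involutions. -/
def gen (x : ℕ) : G := if x < 4 then φ (ts x) else if x = 4 then ψ (ga hn) else ψ (gb hn)

theorem elim_sym : Sum.elim φ ψ ∘ sym hn = gen hn φ ψ := by
  funext x
  simp only [Function.comp_apply, sym, gen]
  split_ifs <;> rfl

theorem gb_gb : gb hn * gb hn = 1 := by
  rw [← ext4_gb, ← map_mul, show gb (le_refl 4) * gb (le_refl 4) = 1 by decide +kernel, map_one]

theorem gen_invol (x : ℕ) : gen hn φ ψ x * gen hn φ ψ x = 1 := by
  unfold gen
  split_ifs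
  · rw [← map_mul, ts_invol, map_one]
  · rw [← map_mul, SLShort.ga_sq, map_one]
  · rw [← map_mul, gb_gb, map_one]

theorem wprod_low (w : List ℕ) (hw : ∀ x ∈ w, x < 4) : wprod (gen hn φ ψ) w = φ (w.map ts).prod := by
  rw [map_list_prod, List.map_map]
  exact congrArg List.prod (List.map_congr_left fun x hx => if_pos (hw x hx))

theorem seg_val (i : ℕ) (g : SU[3]) (hw : ((DataThree.segs.getD i []).all fun l => decide (l < 4)) = true)
    (h : chk (matHom 3 K 3 ∘ ts) (dm 3) (matHom 3 K 3 g) 1 (DataThree.segs.getD i []) (DataThree.segPs.getD i []) = true) :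
    wprod (gen hn φ ψ) (DataThree.segs.getD i []) = φ g := by
  rw [wprod_low hn φ ψ _ fun x hx => by simpa using List.all_eq_true.1 hw x hx,
    chk_hom (matHom 3 K 3) (fun a b e => su_ext e) ts g (dm 3) _ _ h]

theorem wapp (u v : List ℕ) : wprod (gen hn φ ψ) (u ++ v) = wprod (gen hn φ ψ) u * wprod (gen hn φ ψ) v := by
  simp [wprod, List.prod_append]

theorem wone (x : ℕ) : wprod (gen hn φ ψ) [x] = gen hn φ ψ x := by simp [wprod]

theorem ea_ok : ∀ c : Fin 3, (dm 2 ([(7 + 8 * 16 + 7 * 16 ^ 2 + 4 * 16 ^ 3 : ℕ), 7 + 5 * 16 + 4 * 16 ^ 2 + 4 * 16 ^ 3,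
      2 * 16 + 16 ^ 2].getD c 0)).det = 1 ∧
    (dm 2 ([(7 + 8 * 16 + 7 * 16 ^ 2 + 4 * 16 ^ 3 : ℕ), 7 + 5 * 16 + 4 * 16 ^ 2 + 4 * 16 ^ 3,
      2 * 16 + 16 ^ 2].getD c 0))ᵀ *
      (dm 2 ([(7 + 8 * 16 + 7 * 16 ^ 2 + 4 * 16 ^ 3 : ℕ), 7 + 5 * 16 + 4 * 16 ^ 2 + 4 * 16 ^ 3,
      2 * 16 + 16 ^ 2].getD c 0)).map (fun x => x ^ 3) = 1 := by decide +kernel

/-- The elements of the block of two in the relators. -/
def ea (c : Fin 3) : ↥(Cfsg.SU 2 K 3) := el hK _ (ea_ok c).1 (ea_ok c).2

/-- The relators of the table hold. -/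
theorem base_ok (R : Rels hn φ ψ) (hex : ∀ w ∈ DataThree.extra, wprod (gen hn φ ψ) w = 1) :
    ∀ w ∈ CosetData.U43T.base, wprod (gen hn φ ψ) w = 1 := by
  have hS : ∀ w ∈ CosetData.U43T.base, w.all (fun x => decide (x < 4)) = true →
      ∃ i : Fin 13, DataThree.segs.getD i [] = w ∧ DataThree.segVal.getD i 0 = 4096 * 16 * 16 ^ 4 + 16 ^ 4 + 1 := by
    decide +kernel
  have hone : ∀ i : Fin 13, DataThree.segVal.getD i 0 = 4096 * 16 * 16 ^ 4 + 16 ^ 4 + 1 →
      chk (matHom 3 K 3 ∘ ts) (dm 3) (matHom 3 K 3 1) 1 (DataThree.segs.getD i []) (DataThree.segPs.getD i []) = true ∧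
        ((DataThree.segs.getD i []).all fun l => decide (l < 4)) = true := by
    decide +kernel
  have hsplit : ∀ w ∈ CosetData.U43T.base, w.all (fun x => decide (x < 4)) = true ∨ w ∈ DataThree.extra ∨
      w ∈ [[4, 5, 4, 5], [1, 2, 4, 2, 1, 5, 4], [2, 1, 5, 1, 2, 5, 4],
        [4, 0, 2, 3, 1, 2, 3, 1, 2, 0, 3, 2, 4, 3, 1, 2, 0, 3, 1, 0, 2, 3, 0], [4, 1, 2, 0, 2, 4, 1, 2, 0, 2]] := by
    decide +kernel
  intro w hw
  rcases hsplit w hw with h | h | h
  · obtain ⟨i, rfl, hv⟩ := hS w hw h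
    rw [seg_val hn φ ψ i 1 (hone i hv).2 (hone i hv).1, map_one]
  · exact hex w h
  have g4 : gen hn φ ψ 4 = ψ (ga hn) := rfl
  have g5 : gen hn φ ψ 5 = ψ (gb hn) := rfl
  have hcp : φ (pm 3 K 3 cpA) = ψ (c3 hn) := R.cyc
  have hcp2 : φ (pm 3 K 3 (cpA ^ 2)) = ψ (c3 hn ^ 2) := R.phi_cyc 2
  have hexch : ∀ s t : SU[2], theta s * t = 1 →
      ψ (ga hn) * φ (e01 s) * ψ (ga hn) * φ (e01 t) = 1 := fun s t hst => by
    rw [show ψ (ga hn) * φ (e01 s) * ψ (ga hn) = ψ (ga hn) * φ (e01 s) * (ψ (ga hn))⁻¹ by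
      rw [← map_inv, inv_eq_of_mul_eq_one_right (SLShort.ga_sq hn)], R.exch, ← map_mul, ← map_mul, hst, map_one,
      map_one]
  have e6 : wprod (gen hn φ ψ) (DataThree.segs.getD 6 []) = φ (pm 3 K 3 cpA) :=
    seg_val hn φ ψ 6 _ (by decide +kernel) (by decide +kernel)
  have e7 : wprod (gen hn φ ψ) (DataThree.segs.getD 7 []) = φ (pm 3 K 3 (cpA ^ 2)) :=
    seg_val hn φ ψ 7 _ (by decide +kernel) (by decide +kernel)
  have e8 : wprod (gen hn φ ψ) (DataThree.segs.getD 8 []) = φ (e01 (ea 0)) :=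
    seg_val hn φ ψ 8 _ (by decide +kernel) (by rw [show matHom 3 K 3 (e01 (ea 0)) = _ from emb_val _ _]; decide +kernel)
  have e9 : wprod (gen hn φ ψ) (DataThree.segs.getD 9 []) = φ (e01 (ea 1)) :=
    seg_val hn φ ψ 9 _ (by decide +kernel) (by rw [show matHom 3 K 3 (e01 (ea 1)) = _ from emb_val _ _]; decide +kernel)
  have e12 : wprod (gen hn φ ψ) (DataThree.segs.getD 12 []) = φ (e01 (ea 2)) :=
    seg_val hn φ ψ 12 _ (by decide +kernel) (by rw [show matHom 3 K 3 (e01 (ea 2)) = _ from emb_val _ _]; decide +kernel)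
  simp only [List.mem_cons, List.not_mem_nil, or_false] at h
  rcases h with rfl | rfl | rfl | rfl | rfl
  · rw [show ([4, 5, 4, 5] : List ℕ) = [4] ++ [5] ++ [4] ++ [5] from rfl, wapp, wapp, wapp, wone, wone, g4, g5,
      ← map_mul, ← map_mul, ← map_mul, ← ext4_ga, ← ext4_gb, ← map_mul, ← map_mul, ← map_mul,
      show ga (le_refl 4) * gb (le_refl 4) * ga (le_refl 4) * gb (le_refl 4) = 1 by decide +kernel, map_one, map_one]
  · rw [show ([1, 2, 4, 2, 1, 5, 4] : List ℕ) =
      DataThree.segs.getD 6 [] ++ [4] ++ DataThree.segs.getD 7 [] ++ [5] ++ [4] from rfl, wapp, wapp, wapp, wapp,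
      wone, wone, e6, e7, g4, g5, hcp, hcp2, ← map_mul, ← map_mul, ← map_mul, ← map_mul, ← ext4_ga, ← ext4_gb,
      ← ext4_c3, ← map_pow, ← map_mul, ← map_mul, ← map_mul, ← map_mul,
      show c3 (le_refl 4) * ga (le_refl 4) * c3 (le_refl 4) ^ 2 * gb (le_refl 4) * ga (le_refl 4) = 1 by decide +kernel,
      map_one, map_one]
  · rw [show ([2, 1, 5, 1, 2, 5, 4] : List ℕ) =
      DataThree.segs.getD 7 [] ++ [5] ++ DataThree.segs.getD 6 [] ++ [5] ++ [4] from rfl, wapp, wapp, wapp, wapp,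
      wone, wone, e6, e7, g4, g5, hcp, hcp2, ← map_mul, ← map_mul, ← map_mul, ← map_mul, ← ext4_ga, ← ext4_gb,
      ← ext4_c3, ← map_pow, ← map_mul, ← map_mul, ← map_mul, ← map_mul,
      show c3 (le_refl 4) ^ 2 * gb (le_refl 4) * c3 (le_refl 4) * gb (le_refl 4) * ga (le_refl 4) = 1 by decide +kernel,
      map_one, map_one]
  · rw [show ([4, 0, 2, 3, 1, 2, 3, 1, 2, 0, 3, 2, 4, 3, 1, 2, 0, 3, 1, 0, 2, 3, 0] : List ℕ) =
      [4] ++ DataThree.segs.getD 8 [] ++ [4] ++ DataThree.segs.getD 9 [] from rfl, wapp, wapp, wapp, wone, e8, e9, g4]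
    exact hexch _ _ (su_ext (by decide +kernel))
  · rw [show ([4, 1, 2, 0, 2, 4, 1, 2, 0, 2] : List ℕ) =
      [4] ++ DataThree.segs.getD 12 [] ++ [4] ++ DataThree.segs.getD 12 [] from rfl, wapp, wapp, wapp, wone, e12, g4]
    exact hexch _ _ (su_ext (by decide +kernel))

/-- The matrices of the six involutions of the block of four. -/
def mv4 (x : ℕ) : Matrix (Fin 4) (Fin 4) K :=
  if x < 4 then blkMat 4 (dm 3 (DataThree.ts.getD (x % 4) 0))
  else if x = 4 then ((ga (le_refl 4) : Perm (Fin 4))⁻¹).permMatrix K else ((gb (le_refl 4) : Perm (Fin 4))⁻¹).permMatrix K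

theorem gen4_val (x : ℕ) : matHom 4 K 3 (gen (le_refl 4) t0 (pm 4 K 3) x) = mv4 x := by
  unfold gen mv4
  split_ifs
  · exact emb_val _ _
  · rfl
  · rfl

theorem extra_four : ∀ w ∈ DataThree.extra, wprod (gen (le_refl 4) (t0 (F := K) (q := 3)) (pm 4 K 3)) w = 1 := by
  have h : ∀ i : Fin 3, chk mv4 (dm 4) 1 1 (DataThree.extra.getD i []) (DataThree.extraPs.getD i []) = true := by
    decide +kernel
  have hi : ∀ w ∈ DataThree.extra, ∃ i : Fin 3, DataThree.extra.getD i [] = w := by decide +kernel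
  intro w hw
  obtain ⟨i, rfl⟩ := hi w hw
  have e := chk_spec _ _ _ _ _ _ (h i)
  rw [one_mul] at e
  refine su_ext (show matHom 4 K 3 (wprod _ _) = 1 from ?_)
  rw [wprod, map_list_prod, List.map_map]
  exact (congrArg List.prod (List.map_congr_left fun x _ => gen4_val x)).trans e

/-- The extra relators hold in the group itself. -/
theorem extra_self : ∀ w ∈ DataThree.extra,
    wprod (gen hn (emb (F := K) (q := 3) (k := 3) (n := n) 0 (by omega)) (pm n K 3)) w = 1 := by
  intro w hw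
  let i4 : ↥(Cfsg.SU 4 K 3) →* ↥(Cfsg.SU n K 3) := emb 0 (show 0 + 4 ≤ n by omega)
  have he : gen hn (emb (F := K) (q := 3) (k := 3) (n := n) 0 (by omega)) (pm n K 3) =
      fun x => i4 (gen (le_refl 4) t0 (pm 4 K 3) x) := by
    funext x
    unfold gen
    split_ifs
    · exact (emb_emb 0 _ 0 _ 0 _ rfl _).symm
    · rw [← ext4_ga hn, pm_ext4]
    · rw [← ext4_gb hn, pm_ext4]
  rw [he, wprod, show (fun x => i4 (gen (le_refl 4) t0 (pm 4 K 3) x)) = i4 ∘ gen (le_refl 4) t0 (pm 4 K 3) from rfl,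
    ← List.map_map, ← map_list_prod]
  exact (congrArg i4 (extra_four w hw)).trans (map_one i4)

/-- The homomorphism on the block of four. -/
theorem exists_f4 {φ : ↥(Cfsg.SU 3 K 3) →* G} {ψ : alternatingGroup (Fin n) →* G} (R : Rels hn φ ψ)
    (hex : ∀ w ∈ DataThree.extra, wprod (gen hn φ ψ) w = 1) :
    ∃ f4 : ↥(Cfsg.SU 4 K 3) →* G, (∀ s, f4 (t0 s) = φ s) ∧ ∀ σ, f4 (pm 4 K 3 σ) = ψ (ext4 hn σ) := by
  obtain ⟨C⟩ := AutPSU.exists_conj hK
  refine exists_four hn R (gen_four C hK (Or.inr rfl)) ?_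
  let g : ℕ → ↥(Cfsg.SU 4 K 3) × G := fun x => (gen (le_refl 4) t0 (pm 4 K 3) x, gen hn φ ψ x)
  let H : Subgroup (↥(Cfsg.SU 4 K 3) × G) := ((t0 (F := K) (q := 3)).prod φ).range
  have hH : CosetCert.CardLe H 6048 := by
    haveI : Finite H :=
      Finite.of_surjective ((t0 (F := K) (q := 3)).prod φ).rangeRestrict (MonoidHom.rangeRestrict_surjective _)
    refine ⟨this, (Nat.card_le_card_of_surjective _ (MonoidHom.rangeRestrict_surjective
      ((t0 (F := K) (q := 3)).prod φ))).trans ?_⟩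
    rw [(card_su hK (Or.inr rfl)).2.1]
    norm_num
  have hc := CosetCert.cardLe_of_cert (P := CosetData.U43T.P) (gen := g)
    (fun x => Prod.ext (gen_invol _ _ _ x) (gen_invol _ _ _ x)) (base := CosetData.U43T.base)
    (fun w hw => by
      rw [wprod_prod, base_ok (le_refl 4) (t0 (F := K) (q := 3)) (pm 4 K 3) (rels_self (le_refl 4)) extra_four w hw, base_ok hn φ ψ R hex w hw]
      rfl)
    CosetData.U43T.rots_ok (H := H) (sw := CosetData.U43T.sw)
    (fun w hw => by
      have hs : ∀ w ∈ CosetData.U43T.sw, ∃ x : Fin 4, w = [(x : ℕ)] := by decide +kernel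
      obtain ⟨x, rfl⟩ := hs w hw
      refine ⟨ts x, Prod.ext ?_ ?_⟩
      · show t0 (ts x) = _
        simp [wprod, g, gen, x.2]
      · show φ (ts x) = _
        simp [wprod, g, gen, x.2])
    (by decide +kernel) CosetData.U43T.cert_ok CosetData.U43T.tab_ok hH
  have hle : Graph hn φ ψ ≤ Subgroup.closure (g '' {x | x < 6}) := by
    refine sup_le ?_ ((Subgroup.closure_le _).2 ?_)
    · rw [MonoidHom.range_eq_map, ← ts_top, MonoidHom.map_closure, Subgroup.closure_le]
      rintro _ ⟨_, ⟨x, hx, rfl⟩, rfl⟩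
      refine Subgroup.subset_closure ⟨x, ?_, ?_⟩
      · show x < 6
        have : x < 4 := hx
        omega
      · have : x < 4 := hx
        simp [g, gen, this, t0]
    · rintro _ rfl
      exact Subgroup.subset_closure ⟨4, by norm_num, rfl⟩
  refine (hc.mono (hle.trans (le_of_eq ?_))).imp_right fun h => h.trans ?_
  · rfl
  · rw [(card_su hK (Or.inr rfl)).2.2]; norm_num

/-- The extra relations. -/
def extraSet : Finset (FreeGroup (↥(Cfsg.SU 3 K 3) ⊕ ↥(alternatingGroup (Fin n)))) := by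
  classical exact (DataThree.extra.map (fword (sym hn))).toFinset

theorem extraSet_card : (extraSet hn).card ≤ 3 := by
  classical
  exact (List.toFinset_card_le _).trans (by rw [List.length_map]; decide +kernel)

theorem extraSet_self : ∀ x ∈ extraSet hn, FreeGroup.lift
    (Sum.elim (emb (F := K) (q := 3) (k := 3) (n := n) 0 (by omega)) (pm n K 3)) x = 1 := by
  classical
  intro x hx
  simp only [extraSet, List.mem_toFinset, List.mem_map] at hx
  obtain ⟨w, hw, rfl⟩ := hx
  rw [lift_fword, elim_sym]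
  exact extra_self hn w hw

/-- The universal property. -/
theorem exists_hom_q3 {φ : ↥(Cfsg.SU 3 K 3) →* G} {ψ : alternatingGroup (Fin n) →* G} (R : Rels hn φ ψ)
    (hex : ∀ x ∈ extraSet hn, FreeGroup.lift (Sum.elim φ ψ) x = 1) :
    ∃ f : SU[n] →* G, (∀ s, f (emb 0 (show 0 + 3 ≤ n by omega) s) = φ s) ∧ ∀ σ, f (pm n K 3 σ) = ψ σ := by
  classical
  obtain ⟨C⟩ := AutPSU.exists_conj hK
  obtain ⟨f4, h0, hA⟩ := exists_f4 hn R fun w hw => by
    rw [← elim_sym hn φ ψ, ← lift_fword]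
    refine hex _ ?_
    simp only [extraSet, List.mem_toFinset, List.mem_map]
    exact ⟨w, hw, rfl⟩
  exact exists_hom_three hn C hK rfl R f4 h0 hA fun π u f a b c d e =>
    Phan.phan_hom_four C hK rfl hn π u f a b c d e

end Cfsg.Agent.SUGlue.Q3
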