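import Cfsg.Agent.Lib.SUGlue.SmallTwo

/-!
The unitary groups over the field with four elements: the relations of the presentation.
-/

set_option autoImplicit false
set_option linter.unusedSectionVars false
set_option linter.unusedSimpArgs false
set_option linter.style.haveILetI false
set_option linter.style.show false

namespace Cfsg.Agent.SUGlue.Q2

open Matrix Equiv
open Cfsg.Agent.Phan (emb emb_emb)
open Cfsg.Agent.BoundedPres (ga gb c3 pt pt_inj)
open Cfsg.Agent.AutPSU (Conj)
open Cfsg.Agent.CosetCert (wprod)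
open scoped commutatorElement

set_option maxHeartbeats 400000

noncomputable section

local notation "SU[" m "]" => Cfsg.SU m K 2

variable {n : ℕ} (hn : 4 ≤ n)

/-! ### The relations beyond the block of four -/

/-- The even permutations fixing the first three indices. -/
def alt3 : alternatingGroup {x : Fin n // 3 ≤ (x : ℕ)} →* alternatingGroup (Fin n) :=
  ((Perm.ofSubtype).comp (alternatingGroup _).subtype).codRestrict _ fun σ =>
    Perm.mem_alternatingGroup.2 (by
      rw [MonoidHom.comp_apply, Perm.sign_ofSubtype]; exact Perm.mem_alternatingGroup.1 σ.2)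

theorem exists_alt3 (g : alternatingGroup (Fin n))
    (h : ∀ a : Fin 3, (g : Perm (Fin n)) (pt hn a.castSucc) = pt hn a.castSucc) :
    ∃ τ : alternatingGroup {x : Fin n // 3 ≤ (x : ℕ)}, alt3 τ = g := by
  have hfix : ∀ x : Fin n, ¬ 3 ≤ (x : ℕ) → (g : Perm (Fin n)) x = x := fun x hx => by
    have := h ⟨x, by omega⟩
    rwa [show pt hn (Fin.castSucc ⟨(x : ℕ), by omega⟩) = x from Fin.ext rfl] at this
  have hh : ∀ x, 3 ≤ (((g : Perm (Fin n)) x : Fin n) : ℕ) ↔ 3 ≤ (x : ℕ) := by
    intro x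
    constructor
    · intro h1; by_contra h2; rw [hfix x h2] at h1; exact h2 h1
    · intro h1; by_contra h2
      have h3 := hfix _ h2
      rw [EmbeddingLike.apply_eq_iff_eq] at h3
      rw [h3] at h2
      exact h2 h1
  have hsupp : ∀ x, (g : Perm (Fin n)) x ≠ x → 3 ≤ (x : ℕ) := fun x hx => by
    by_contra hc; exact hx (hfix x hc)
  refine ⟨⟨(g : Perm (Fin n)).subtypePerm hh, Perm.mem_alternatingGroup.2 ?_⟩,
    Subtype.ext (Perm.ofSubtype_subtypePerm hh hsupp)⟩
  rw [Perm.sign_subtypePerm _ hh hsupp]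
  exact Perm.mem_alternatingGroup.1 g.2

theorem alt3_fix (τ : alternatingGroup {x : Fin n // 3 ≤ (x : ℕ)}) (a : Fin 3) :
    (alt3 τ : Perm (Fin n)) (pt hn a.castSucc) = pt hn a.castSucc :=
  Perm.ofSubtype_apply_of_not_mem (τ : Perm {x : Fin n // 3 ≤ (x : ℕ)}) (Nat.not_le.2 a.2)

include hn in
theorem card_ge_three : Fintype.card {x : Fin n // 3 ≤ (x : ℕ)} = n - 3 := by
  have hn4 := hn
  have e : Fin (n - 3) ≃ {x : Fin n // 3 ≤ (x : ℕ)} :=
    { toFun := fun i => ⟨⟨i + 3, by omega⟩, by simp⟩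
      invFun := fun x => ⟨(x.1 : ℕ) - 3, by have := x.2; have := x.1.2; omega⟩
      left_inv := fun i => Fin.ext (by simp)
      right_inv := fun x => Subtype.ext (Fin.ext (by have := x.2; simp; omega)) }
  rw [← Fintype.card_congr e, Fintype.card_fin]

/-- The permutations of the relations beyond the block of four. -/
def Good (g μ σ : alternatingGroup (Fin n)) : Prop := 5 ≤ n →
    (∀ a : Fin 3, (g : Perm (Fin n)) (pt hn a.castSucc) = pt hn (Equiv.swap (0 : Fin 3) 2 a).castSucc) ∧
    ((μ : Perm (Fin n)) (pt hn 0) : ℕ) = 3 ∧ ((μ : Perm (Fin n)) (pt hn 1) : ℕ) = 4 ∧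
    (6 ≤ n → ∀ a : Fin 3, ((σ : Perm (Fin n)) (pt hn a.castSucc) : ℕ) = 3 + a)

theorem exists_good : ∃ g μ σ : alternatingGroup (Fin n), Good hn g μ σ := by
  by_cases h5 : 5 ≤ n
  swap
  · exact ⟨1, 1, 1, fun h => absurd h h5⟩
  obtain ⟨μ, m0, m1⟩ :=
    BoundedPres.exists_pair_alt hn (i := (⟨3, by omega⟩ : Fin n)) (j := ⟨4, by omega⟩) (by simp)
  have hσ : ∃ σ : alternatingGroup (Fin n), 6 ≤ n → ∀ a : Fin 3, ((σ : Perm (Fin n)) (pt hn a.castSucc) : ℕ) = 3 + a := by
    by_cases h6 : 6 ≤ n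
    swap
    · exact ⟨1, fun h => absurd h h6⟩
    obtain ⟨σ, hσ, -⟩ := exists_five h5 ![(⟨3, by omega⟩ : Fin n), ⟨4, by omega⟩, ⟨5, by omega⟩, ⟨0, by omega⟩,
      ⟨1, by omega⟩] (by intro a b e; fin_cases a <;> fin_cases b <;> simp [Fin.ext_iff] at e ⊢)
    refine ⟨σ, fun _ a => ?_⟩
    rw [show pt hn a.castSucc = ⟨a, by omega⟩ from Fin.ext rfl, hσ]
    fin_cases a <;> rfl
  obtain ⟨σ, hσ⟩ := hσ
  refine ⟨BoundedPres.dswap (show pt hn 0 ≠ pt hn 2 from (pt_inj hn).ne (by decide))
    (show pt hn 3 ≠ (⟨4, by omega⟩ : Fin n) by simp [Fin.ext_iff, pt]), μ, σ, fun _ => ⟨fun a => ?_,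
    congrArg Fin.val m0, congrArg Fin.val m1, hσ⟩⟩
  show Equiv.swap _ _ (Equiv.swap (pt hn 3) _ (pt hn a.castSucc)) = _
  rw [swap_apply_of_ne_of_ne ((pt_inj hn).ne (fun e => by
    have := congrArg Fin.val e; simp at this; omega)) (by intro e; have := congrArg Fin.val e; simp [pt] at this; omega),
    BoundedPres.swp]
  congr 1
  revert a; decide

/-- The alphabet of the presentation. -/
abbrev Sy (n : ℕ) : Type := ↥(Cfsg.SU 3 K 2) ⊕ ↥(alternatingGroup (Fin n))

/-- An element of the presentation's alphabet. -/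
def ci (s : ↥(Cfsg.SU 3 K 2)) : FreeGroup (Sy n) := FreeGroup.of (Sum.inl s)

/-- A permutation of the presentation's alphabet. -/
def pI (g : alternatingGroup (Fin n)) : FreeGroup (Sy n) := FreeGroup.of (Sum.inr g)

section Lift

variable {G : Type*} [Group G] (f : ↥(Cfsg.SU 3 K 2) → G) (p : alternatingGroup (Fin n) → G)

theorem lift_ci (s : ↥(Cfsg.SU 3 K 2)) : FreeGroup.lift (Sum.elim f p) (ci (n := n) s) = f s :=
  FreeGroup.lift_apply_of ..

theorem lift_pI (g : alternatingGroup (Fin n)) : FreeGroup.lift (Sum.elim f p) (pI g) = p g :=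
  FreeGroup.lift_apply_of ..

end Lift

/-- A permutation commutes with an element. -/
def relA (τ : alternatingGroup {x : Fin n // 3 ≤ (x : ℕ)}) (s : ↥(Cfsg.SU 3 K 2)) : FreeGroup (Sy n) :=
  ⁅pI (alt3 τ), ci s⁆

/-- A permutation reversing the block. -/
def relB (g : alternatingGroup (Fin n)) (s : ↥(Cfsg.SU 3 K 2)) : FreeGroup (Sy n) :=
  pI g * ci s * (pI g)⁻¹ * (ci (mm (Equiv.swap (0 : Fin 3) 2) s))⁻¹

/-- A moved block of two commutes with the block. -/
def relC (μ : alternatingGroup (Fin n)) (h : ↥(Cfsg.SU 2 K 2)) (s : ↥(Cfsg.SU 3 K 2)) : FreeGroup (Sy n) :=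
  ⁅pI μ * ci (e01 h) * (pI μ)⁻¹, ci s⁆

/-- A moved block of three commutes with the block. -/
def relD (σ : alternatingGroup (Fin n)) (t s : ↥(Cfsg.SU 3 K 2)) : FreeGroup (Sy n) :=
  ⁅pI σ * ci t * (pI σ)⁻¹, ci s⁆

/-- The values in the group. -/
abbrev nat' : Sy n → ↥(Cfsg.SU n K 2) :=
  Sum.elim (emb (F := K) (q := 2) (k := 3) (n := n) 0 (by omega)) (pm n K 2)

theorem relA_self (τ : alternatingGroup {x : Fin n // 3 ≤ (x : ℕ)}) (s : SU[3]) :
    FreeGroup.lift (nat' hn) (relA τ s) = 1 := by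
  rw [relA, map_commutatorElement, lift_pI, lift_ci]
  refine commutatorElement_eq_one_iff_commute.2 (mul_inv_eq_iff_eq_mul.1 ?_)
  rw [pm_conj, mm_emb _ 1 _ (show 0 + 3 ≤ n by omega) (fun a => ?_) s, mm_one]
  rw [show (⟨0 + (a : ℕ), by omega⟩ : Fin n) = pt hn a.castSucc from Fin.ext (zero_add _), alt3_fix, zero_add]
  rfl

variable {g μ σ : alternatingGroup (Fin n)} (hg : Good hn g μ σ)

include hg in
theorem relB_self (h5 : 5 ≤ n) (s : SU[3]) : FreeGroup.lift (nat' hn) (relB g s) = 1 := by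
  simp only [relB, map_mul, map_inv, lift_pI, lift_ci, mul_inv_eq_one]
  rw [pm_conj]
  refine mm_emb _ _ _ _ (fun a => ?_) s
  rw [show (⟨0 + (a : ℕ), by omega⟩ : Fin n) = pt hn a.castSucc from Fin.ext (zero_add _), (hg h5).1, zero_add]
  rfl

include hg in
theorem relC_self (h5 : 5 ≤ n) (h : SU[2]) (s : SU[3]) : FreeGroup.lift (nat' hn) (relC μ h s) = 1 := by
  rw [relC, map_commutatorElement, map_mul, map_mul, map_inv, lift_pI, lift_ci, lift_ci]
  refine commutatorElement_eq_one_iff_commute.2 ?_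
  rw [pm_conj, emb_e01 hn, mm_emb _ 1 _ (show 3 + 2 ≤ n by omega) (two_pts hn _ _ (hg h5).2.1 (hg h5).2.2.1) h, mm_one]
  exact (Phan.emb_comm 0 _ 3 _ le_rfl s h).symm

include hg in
theorem relD_self (h6 : 6 ≤ n) (t s : SU[3]) : FreeGroup.lift (nat' hn) (relD σ t s) = 1 := by
  rw [relD, map_commutatorElement, map_mul, map_mul, map_inv, lift_pI, lift_ci, lift_ci]
  refine commutatorElement_eq_one_iff_commute.2 ?_
  rw [pm_conj, mm_emb _ 1 _ (show 3 + 3 ≤ n by omega) (fun a => ?_) t, mm_one]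
  · exact (Phan.emb_comm 0 _ 3 _ le_rfl s t).symm
  · rw [show (⟨0 + (a : ℕ), by omega⟩ : Fin n) = pt hn a.castSucc from Fin.ext (zero_add _), (hg (by omega)).2.2.2 h6]
    rfl

theorem commute_dense {G : Type*} [Group G] {T : Type*} [Group T] (φ : T →* G) {X : Set T}
    (hX : Subgroup.closure X = ⊤) {a : G} (h : ∀ s ∈ X, Commute a (φ s)) (s : T) : Commute a (φ s) := by
  have hle : Subgroup.closure X ≤ (Subgroup.centralizer {a}).comap φ :=
    (Subgroup.closure_le _).2 fun y hy => Subgroup.mem_centralizer_singleton_iff.2 (h y hy).eq.symm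
  exact (Subgroup.mem_centralizer_singleton_iff.1 (hle (hX ▸ Subgroup.mem_top s))).symm

/-- The generators of the block of three. -/
def XX : Finset ↥(Cfsg.SU 3 K 2) := {gx 0, gx 2}

/-- The generators of the block of two. -/
def UU : Finset ↥(Cfsg.SU 2 K 2) := {uv 0, uv 1}

theorem XX_top : Subgroup.closure ((XX : Finset SU[3]) : Set SU[3]) = ⊤ := by simpa [XX] using gx_top

theorem UU_top : Subgroup.closure ((UU : Finset SU[2]) : Set SU[2]) = ⊤ := by simpa [UU] using uv_top

/-- The relations that hold from five indices on. -/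
def E5 (GS : Finset ↥(alternatingGroup {x : Fin n // 3 ≤ (x : ℕ)})) (g μ : alternatingGroup (Fin n)) :
    Finset (FreeGroup (Sy n)) :=
  if 5 ≤ n then (GS ×ˢ XX).image (fun p => relA p.1 p.2) ∪ XX.image (relB g) ∪
    (UU ×ˢ XX).image (fun p => relC μ p.1 p.2) else ∅

/-- The relations that hold from six indices on. -/
def E6 (σ : alternatingGroup (Fin n)) : Finset (FreeGroup (Sy n)) :=
  if 6 ≤ n then (XX ×ˢ XX).image (fun p => relD σ p.1 p.2) else ∅

theorem E5_card (GS : Finset ↥(alternatingGroup {x : Fin n // 3 ≤ (x : ℕ)})) (g μ : alternatingGroup (Fin n))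
    (hGS : GS.card ≤ min 2 (n - 5)) : (E5 GS g μ).card ≤ if 6 ≤ n then 10 else 6 := by
  unfold E5
  split
  swap
  · simp
  have hX : XX.card ≤ 2 := Finset.card_le_two
  have hU : UU.card ≤ 2 := Finset.card_le_two
  have b1 : ((GS ×ˢ XX).image fun p => relA p.1 p.2).card ≤ min 2 (n - 5) * 2 := by
    refine Finset.card_image_le.trans ?_
    rw [Finset.card_product]
    exact Nat.mul_le_mul hGS hX
  have b2 : (XX.image (relB g)).card ≤ 2 := Finset.card_image_le.trans hX
  have b3 : ((UU ×ˢ XX).image fun p => relC μ p.1 p.2).card ≤ 2 * 2 := by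
    refine Finset.card_image_le.trans ?_
    rw [Finset.card_product]
    exact Nat.mul_le_mul hU hX
  refine (Finset.card_union_le _ _).trans ((Nat.add_le_add ((Finset.card_union_le _ _).trans
    (Nat.add_le_add b1 b2)) b3).trans ?_)
  split <;> omega

theorem E6_card (σ : alternatingGroup (Fin n)) : (E6 σ).card ≤ if 6 ≤ n then 4 else 0 := by
  unfold E6
  split
  · refine Finset.card_image_le.trans ?_
    rw [Finset.card_product]
    exact Nat.mul_le_mul Finset.card_le_two Finset.card_le_two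
  · simp

include hg in
theorem E5_self (GS : Finset ↥(alternatingGroup {x : Fin n // 3 ≤ (x : ℕ)})) :
    ∀ x ∈ E5 GS g μ, FreeGroup.lift (nat' hn) x = 1 := by
  intro x hx
  unfold E5 at hx
  split at hx
  swap
  · simp at hx
  rename_i h5
  simp only [Finset.mem_union, Finset.mem_image] at hx
  rcases hx with (⟨p, -, rfl⟩ | ⟨s, -, rfl⟩) | ⟨p, -, rfl⟩
  exacts [relA_self hn p.1 p.2, relB_self hn hg h5 s, relC_self hn hg h5 p.1 p.2]

include hg in
theorem E6_self : ∀ x ∈ E6 σ, FreeGroup.lift (nat' hn) x = 1 := by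
  intro x hx
  unfold E6 at hx
  split at hx
  swap
  · simp at hx
  rename_i h6
  simp only [Finset.mem_image] at hx
  obtain ⟨p, -, rfl⟩ := hx
  exact relD_self hn hg h6 p.1 p.2

include hg in
theorem relsTwo_of {G : Type} [Group G] {φ : ↥(Cfsg.SU 3 K 2) →* G} {ψ : alternatingGroup (Fin n) →* G}
    (R : Rels hn φ ψ) {GS : Finset ↥(alternatingGroup {x : Fin n // 3 ≤ (x : ℕ)})}
    (hGS : Subgroup.closure (GS : Set ↥(alternatingGroup {x : Fin n // 3 ≤ (x : ℕ)})) = ⊤)
    (h5E : ∀ x ∈ E5 GS g μ, FreeGroup.lift (Sum.elim φ ψ) x = 1)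
    (h6E : ∀ x ∈ E6 σ, FreeGroup.lift (Sum.elim φ ψ) x = 1) : RelsTwo hn φ ψ R := by
  refine ⟨?_, ?_, ?_, ?_⟩
  · intro g' hg'
    obtain ⟨τ, rfl⟩ := exists_alt3 hn g' hg'
    rcases Nat.lt_or_ge n 5 with h5 | h5
    · haveI : Subsingleton {x : Fin n // 3 ≤ (x : ℕ)} := Fintype.card_le_one_iff_subsingleton.1
        (by rw [card_ge_three hn]; omega)
      rw [Subsingleton.elim τ 1, map_one, map_one]
      exact fun s => Commute.one_left _
    · intro s
      clear hg'
      have hτ : τ ∈ Subgroup.closure (GS : Set ↥(alternatingGroup {x : Fin n // 3 ≤ (x : ℕ)})) :=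
        hGS ▸ Subgroup.mem_top τ
      induction hτ using Subgroup.closure_induction with
      | mem y hy =>
        refine commute_dense φ XX_top (fun t ht => ?_) s
        have := h5E (relA y t) (by
          unfold E5
          rw [if_pos h5]
          exact Finset.mem_union_left _ (Finset.mem_union_left _
            (Finset.mem_image.2 ⟨(y, t), Finset.mem_product.2 ⟨hy, ht⟩, rfl⟩)))
        rw [relA, map_commutatorElement, lift_pI, lift_ci] at this
        exact commutatorElement_eq_one_iff_commute.1 this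
      | one => rw [map_one, map_one]; exact Commute.one_left _
      | mul y z _ _ hy hz => rw [map_mul, map_mul]; exact hy.mul_left hz
      | inv y _ hy => rw [map_inv, map_inv]; exact hy.inv_left
  · intro h5
    refine ⟨g, (hg h5).1, fun s => ?_⟩
    refine DFunLike.congr_fun (MonoidHom.eq_of_eqOn_dense XX_top
      (f := (MulAut.conj (ψ g)).toMonoidHom.comp φ) (g := φ.comp (mm (Equiv.swap (0 : Fin 3) 2))) fun y hy => ?_) s
    have := h5E (relB g y) (by
      unfold E5
      rw [if_pos h5]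
      exact Finset.mem_union_left _ (Finset.mem_union_right _ (Finset.mem_image.2 ⟨y, hy, rfl⟩)))
    simp only [relB, map_mul, map_inv, lift_pI, lift_ci, mul_inv_eq_one] at this
    exact this
  · intro h5
    refine ⟨μ, (hg h5).2.1, (hg h5).2.2.1, fun h s => ?_⟩
    refine commute_dense φ XX_top (fun y hy => ?_) s
    refine (commute_dense ((MulAut.conj (ψ μ)).toMonoidHom.comp (φ.comp e01)) UU_top (fun k hk => ?_) h).symm
    have := h5E (relC μ k y) (by
      unfold E5
      rw [if_pos h5]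
      exact Finset.mem_union_right _ (Finset.mem_image.2 ⟨(k, y), Finset.mem_product.2 ⟨hk, hy⟩, rfl⟩))
    rw [relC, map_commutatorElement, map_mul, map_mul, map_inv, lift_pI, lift_ci, lift_ci] at this
    exact (commutatorElement_eq_one_iff_commute.1 this).symm
  · intro h6
    refine ⟨σ, (hg (by omega)).2.2.2 h6, fun s t => ?_⟩
    refine commute_dense φ XX_top (fun y hy => ?_) t
    refine (commute_dense ((MulAut.conj (ψ σ)).toMonoidHom.comp φ) XX_top (fun k hk => ?_) s).symm
    have := h6E (relD σ k y) (by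
      unfold E6
      rw [if_pos h6]
      exact Finset.mem_image.2 ⟨(k, y), Finset.mem_product.2 ⟨hk, hy⟩, rfl⟩)
    rw [relD, map_commutatorElement, map_mul, map_mul, map_inv, lift_pI, lift_ci, lift_ci] at this
    exact (commutatorElement_eq_one_iff_commute.1 this).symm

theorem exists_relations : ∃ E : Finset (FreeGroup (↥(Cfsg.SU 3 K 2) ⊕ ↥(alternatingGroup (Fin n)))),
    E.card ≤ (if 6 ≤ n then 16 else 8) ∧
    (∀ x ∈ E, FreeGroup.lift (Sum.elim (emb (F := K) (q := 2) (k := 3) (n := n) 0 (by omega)) (pm n K 2)) x = 1) ∧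
    ∀ (G : Type) [Group G] (φ : ↥(Cfsg.SU 3 K 2) →* G) (ψ : alternatingGroup (Fin n) →* G) (R : Rels hn φ ψ),
      (∀ x ∈ E, FreeGroup.lift (Sum.elim φ ψ) x = 1) →
      ∃ f : SU[n] →* G, (∀ s, f (emb 0 (show 0 + 3 ≤ n by omega) s) = φ s) ∧ ∀ σ, f (pm n K 2 σ) = ψ σ := by
  classical
  obtain ⟨C⟩ := AutPSU.exists_conj hK
  obtain ⟨GS, hGS, hGSg⟩ := SLShort.alt_gens {x : Fin n // 3 ≤ (x : ℕ)}
  rw [card_ge_three hn, show n - 3 - 2 = n - 5 by omega] at hGS
  obtain ⟨g, μ, σ, hg⟩ := exists_good hn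
  refine ⟨(DataTwo.extra.map (fword (sym hn))).toFinset ∪ E5 GS g μ ∪ E6 σ, ?_, ?_, ?_⟩
  · have h0 : ((DataTwo.extra.map (fword (sym hn))).toFinset).card ≤ 2 :=
      (List.toFinset_card_le _).trans (by rw [List.length_map]; decide +kernel)
    refine (Finset.card_union_le _ _).trans ((Nat.add_le_add ((Finset.card_union_le _ _).trans
      (Nat.add_le_add h0 (E5_card GS g μ hGS))) (E6_card σ)).trans ?_)
    split <;> omega
  · intro x hx
    rcases Finset.mem_union.1 hx with hx | hx
    · rcases Finset.mem_union.1 hx with hx | hx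
      · simp only [List.mem_toFinset, List.mem_map] at hx
        obtain ⟨w, hw, rfl⟩ := hx
        rw [lift_fword, elim_sym]
        exact extra_self hn w hw
      · exact E5_self hn hg GS x hx
    · exact E6_self hn hg x hx
  intro G _ φ ψ R hE
  obtain ⟨f4, h0, hA⟩ := exists_f4 hn R fun w hw => by
    rw [← elim_sym hn φ ψ, ← lift_fword]
    refine hE _ (Finset.mem_union_left _ (Finset.mem_union_left _ ?_))
    simp only [List.mem_toFinset, List.mem_map]
    exact ⟨w, hw, rfl⟩
  exact exists_hom_two hn C hK R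
    (relsTwo_of hn hg R hGSg (fun x hx => hE x (Finset.mem_union_left _ (Finset.mem_union_right _ hx)))
      fun x hx => hE x (Finset.mem_union_right _ hx)) f4 h0 hA

end

end Cfsg.Agent.SUGlue.Q2
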