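import Cfsg.Agent.Lib.SUGlue.Main
import Cfsg.Agent.Lib.SUGlue.SmallThree
import Cfsg.Agent.Lib.SUGlue.SmallTwoRel
import Mathlib.FieldTheory.Finite.GaloisField

/-!
Short presentations of `SUₙ(q)` and of `PSUₙ(q)` for `n ≥ 4` and `q = 2, 3`.
-/

set_option autoImplicit false
set_option linter.unusedSectionVars false
set_option linter.unusedSimpArgs false
set_option linter.style.haveILetI false
set_option linter.style.show false

namespace Cfsg.Agent.SUGlue

open Matrix Equiv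
open Cfsg.Agent.Phan (emb emb_emb)
open Cfsg.Agent.AutPSU (Conj)
open Cfsg.Agent.BoundedPres (pt pt_inj e3 e3_inj)
open Cfsg.Agent.SLShort (AltPres alt_gens pad quot_pres altPres_four altPres_five altPres_large)

/-- The special unitary group depends on the field only up to isomorphism. -/
theorem su_congr {n q : ℕ} {F K : Type*} [Field F] [Field K] (e : F ≃+* K) :
    Nonempty (↥(Cfsg.SU n F q) ≃* ↥(Cfsg.SU n K q)) := by
  let M := Matrix.SpecialLinearGroup.map (n := Fin n) e.toRingHom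
  have hh : ∀ (A : SpecialLinearGroup (Fin n) F) (u : Fin n → F),
      (Cfsg.slToMat n K (M A)).mulVec (fun i => e (u i)) = fun i => e ((Cfsg.slToMat n F A).mulVec u i) := by
    intro A u
    funext i
    show ((M A : SpecialLinearGroup (Fin n) K) : Matrix (Fin n) (Fin n) K).mulVec (fun i => e (u i)) i =
      e ((A : Matrix (Fin n) (Fin n) F).mulVec u i)
    simp [M, Matrix.mulVec, dotProduct, map_sum]
  have hform : ∀ u v : Fin n → F, Cfsg.hermForm n K q (fun i => e (u i)) (fun i => e (v i)) =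
      e (Cfsg.hermForm n F q u v) := fun u v => by simp [Cfsg.hermForm, map_sum]
  have hinv : ∀ A : SpecialLinearGroup (Fin n) F, M A ∈ Cfsg.SU n K q ↔ A ∈ Cfsg.SU n F q := by
    intro A
    constructor
    · intro h u v
      refine e.injective ?_
      rw [← hform, ← hform]
      have h' := h (fun i => e (u i)) (fun i => e (v i))
      change Cfsg.hermForm n K q (Matrix.mulVec _ _) (Matrix.mulVec _ _) = _ at h'
      rw [hh, hh] at h'
      exact h'
    · intro h u v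
      have eu : ∀ w : Fin n → K, (fun i => e (e.symm (w i))) = w := fun w => funext fun i => e.apply_symm_apply _
      rw [← eu u, ← eu v]
      show Cfsg.hermForm n K q (Matrix.mulVec _ _) (Matrix.mulVec _ _) = _
      rw [hh, hh, hform, hform]
      exact congrArg e (h _ _)
  let f : Cfsg.SU n F q →* Cfsg.SU n K q :=
    (M.comp (Cfsg.SU n F q).subtype).codRestrict _ fun A => (hinv _).2 A.2
  have hcomp : ∀ A : SpecialLinearGroup (Fin n) K, M (SpecialLinearGroup.map e.symm.toRingHom A) = A := fun A => by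
    ext i j; simp [M]
  refine ⟨MulEquiv.ofBijective f ⟨fun A B h => ?_, fun B => ?_⟩⟩
  · refine Subtype.ext ?_
    ext i j
    have h1 := congrArg (fun X : Cfsg.SU n K q => e.symm ((X.1 : Matrix (Fin n) (Fin n) K) i j)) h
    simpa [f, M] using h1
  · refine ⟨⟨SpecialLinearGroup.map e.symm.toRingHom B.1, (hinv _).1 ?_⟩, Subtype.ext (hcomp _)⟩
    rw [hcomp]; exact B.2

variable {n : ℕ} (hn : 4 ≤ n)

include hn in
/-- The data of the alternating group. -/
theorem alt_data : ∃ b r, b ≤ 3 ∧ AltPres n b r ∧ r + (3 - b) ≤ (if n ≤ 5 then 5 else 7) ∧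
    (n ≤ 5 → b = 2) ∧ (6 ≤ n → b = 3) := by
  rcases show n = 4 ∨ n = 5 ∨ 6 ≤ n by omega with rfl | rfl | h6
  · exact ⟨2, 3, by norm_num, altPres_four, by norm_num, fun _ => rfl, fun h => absurd h (by norm_num)⟩
  · exact ⟨2, 4, by norm_num, altPres_five, by norm_num, fun _ => rfl, fun h => absurd h (by norm_num)⟩
  · exact ⟨3, 7, le_rfl, altPres_large (by omega), by rw [if_neg (by omega)], fun h => absurd h (by omega),
      fun _ => rfl⟩

/-- The generators of the even permutations fixing two indices. -/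
theorem alt_two_gens : ∃ GS : Finset ↥(alternatingGroup {x : Fin n // x ≠ pt hn 0 ∧ x ≠ pt hn 1}),
    GS.card ≤ min 2 (n - 4) ∧
    Subgroup.closure (GS : Set ↥(alternatingGroup {x : Fin n // x ≠ pt hn 0 ∧ x ≠ pt hn 1})) = ⊤ := by
  classical
  obtain ⟨GS, hGS, hGSg⟩ := alt_gens {x : Fin n // x ≠ pt hn 0 ∧ x ≠ pt hn 1}
  have hcard : Fintype.card {x : Fin n // x ≠ pt hn 0 ∧ x ≠ pt hn 1} = n - 2 := by
    rw [Fintype.card_subtype, show Finset.univ.filter (fun x => x ≠ pt hn 0 ∧ x ≠ pt hn 1) =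
      ({pt hn 0, pt hn 1} : Finset (Fin n))ᶜ by ext x; simp, Finset.card_compl,
      Finset.card_pair ((pt_inj hn).ne (show (0 : Fin 4) ≠ 1 by decide)), Fintype.card_fin]
  rw [hcard, show n - 2 - 2 = n - 4 by omega] at hGS
  exact ⟨GS, hGS, hGSg⟩

include hn in
theorem gen_top_two {F : Type*} [Field F] [Fintype F] (C : Conj F 2) (hF : Fintype.card F = 2 ^ 2)
    (H : Subgroup ↥(Cfsg.SU n F 2))
    (h3 : ∀ s : ↥(Cfsg.SU 3 F 2), emb 0 (show 0 + 3 ≤ n by omega) s ∈ H)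
    (hA : ∀ σ, pm n F 2 σ ∈ H) : H = ⊤ := by
  refine Phan.Two.gen_three C hF (show 3 ≤ n by omega) H fun i hi s => ?_
  obtain ⟨σ, hσ⟩ := BoundedPres.exists_even (e3 hn) ![(⟨i, by omega⟩ : Fin n), ⟨i + 1, by omega⟩, ⟨i + 2, by omega⟩]
    (e3_inj hn) (by intro a b e; fin_cases a <;> fin_cases b <;> simp [Fin.ext_iff] at e ⊢)
    (show (0 : Fin 3) ≠ 1 by decide)
  obtain ⟨π, hπ, hv⟩ : ∃ π : Perm (Fin 3), π * π = 1 ∧ ∀ a : Fin 3,
      ((σ : Perm (Fin n)) (e3 hn a) : ℕ) = i + π a := by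
    rcases hσ with h | ⟨h0, h1, h2⟩
    · exact ⟨1, one_mul 1, fun a => by rw [h]; fin_cases a <;> rfl⟩
    · refine ⟨swap 0 1, swap_mul_self _ _, fun a => ?_⟩
      fin_cases a
      · exact (congrArg Fin.val h0).trans rfl
      · exact (congrArg Fin.val h1).trans rfl
      · exact (congrArg Fin.val (h2 2 (by decide) (by decide))).trans rfl
  have e : (emb i hi s : ↥(Cfsg.SU n F 2)) =
      pm n F 2 σ * emb 0 (show 0 + 3 ≤ n by omega) (mm π s) * (pm n F 2 σ)⁻¹ := by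
    rw [pm_conj, mm_emb _ π _ hi (fun a => ?_), ← mm_mul, hπ, mm_one]
    rw [show (⟨0 + a, by omega⟩ : Fin n) = e3 hn a from Fin.ext (zero_add _)]
    exact hv a
  rw [e]
  exact mul_mem (mul_mem (hA σ) (h3 _)) (inv_mem (hA σ))

include hn in
/-- The presentation over the field with nine elements. -/
theorem su_q3 : ∃ R : Finset (FreeGroup (Fin 6)), R.card ≤ (if n ≤ 5 then 35 else 39) ∧
    Nonempty (PresentedGroup (↑R : Set (FreeGroup (Fin 6))) ≃* ↥(Cfsg.SU n Q3.K 3)) := by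
  classical
  obtain ⟨C⟩ := AutPSU.exists_conj Q3.hK
  obtain ⟨b, r, hb, hAlt, hr, -, -⟩ := alt_data hn
  obtain ⟨GS, hGS, hGSg⟩ := alt_two_gens hn
  obtain ⟨e⟩ := Q3.pres3
  obtain ⟨u, v, huv⟩ := exists_two Q3.hK C
  obtain ⟨R, hR, he⟩ := su_pres_of hn Q3.R3 Q3.R3_card e hAlt GS hGSg {u, v}
    (top_le_iff.1 (huv.symm.le.trans (Subgroup.closure_mono (by simp)))) {(u, u), (u, v), (v, v)}
    (by simpa using farOK_two u v huv) (Q3.extraSet hn) (Q3.extraSet_self hn)
    (gen_top hn C Q3.hK le_rfl) fun G _ φ ψ R hE => Q3.exists_hom_q3 hn R hE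
  have hm : Fintype.card (Fin 3 ⊕ Fin b) ≤ 6 := by rw [Fintype.card_sum, Fintype.card_fin, Fintype.card_fin]; omega
  obtain ⟨S, hS, hSe⟩ := pad he hm
  rw [Fintype.card_sum, Fintype.card_fin, Fintype.card_fin] at hS
  refine ⟨S, ?_, hSe⟩
  have h1 : ({u, v} : Finset ↥(Cfsg.SU 2 Q3.K 3)).card ≤ 2 := Finset.card_le_two
  have h2 : ({(u, u), (u, v), (v, v)} : Finset (↥(Cfsg.SU 2 Q3.K 3) × ↥(Cfsg.SU 2 Q3.K 3))).card ≤ 3 :=
    Finset.card_le_three
  have h3 : GS.card * ({u, v} : Finset ↥(Cfsg.SU 2 Q3.K 3)).card ≤ min 2 (n - 4) * 2 := Nat.mul_le_mul hGS h1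
  have h4 := Q3.extraSet_card hn
  split_ifs at hr ⊢ <;> omega

include hn in
/-- The presentation over the field with four elements. -/
theorem su_q2 : ∃ R : Finset (FreeGroup (Fin 6)), R.card ≤ (if n ≤ 5 then 35 else 39) ∧
    Nonempty (PresentedGroup (↑R : Set (FreeGroup (Fin 6))) ≃* ↥(Cfsg.SU n Q2.K 2)) := by
  classical
  obtain ⟨C⟩ := AutPSU.exists_conj Q2.hK
  obtain ⟨b, r, hb, hAlt, hr, -, -⟩ := alt_data hn
  obtain ⟨GS, hGS, hGSg⟩ := alt_two_gens hn
  obtain ⟨e⟩ := Q2.pres3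
  obtain ⟨u, hu⟩ := exists_one Q2.hK C (by decide +kernel)
  obtain ⟨E, hEc, hEs, hEh⟩ := Q2.exists_relations hn
  obtain ⟨R, hR, he⟩ := su_pres_of hn Q2.R3 Q2.R3_card e hAlt GS hGSg {u} (by simpa using hu)
    {(u, u), (u, theta u)} (by simpa using farOK_one u) E hEs
    (gen_top_two hn C Q2.hK) hEh
  have hm : Fintype.card (Fin 2 ⊕ Fin b) ≤ 6 := by rw [Fintype.card_sum, Fintype.card_fin, Fintype.card_fin]; omega
  obtain ⟨S, hS, hSe⟩ := pad he hm
  rw [Fintype.card_sum, Fintype.card_fin, Fintype.card_fin] at hS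
  refine ⟨S, ?_, hSe⟩
  rw [Finset.card_singleton, mul_one] at hR
  have h2 : ({(u, u), (u, theta u)} : Finset (↥(Cfsg.SU 2 Q2.K 2) × ↥(Cfsg.SU 2 Q2.K 2))).card ≤ 2 :=
    Finset.card_le_two
  split_ifs at hr hEc ⊢ <;> omega

include hn in
/-- Short presentations of `SUₙ(q)` for the two small fields. -/
theorem su_short_small {F : Type*} [Field F] [Fintype F] {q : ℕ} (hF : Fintype.card F = q ^ 2)
    (hq : q = 2 ∨ q = 3) :
    ∃ R : Finset (FreeGroup (Fin 6)), R.card ≤ (if n ≤ 5 then 35 else 39) ∧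
      Nonempty (PresentedGroup (↑R : Set (FreeGroup (Fin 6))) ≃* ↥(Cfsg.SU n F q)) := by
  rcases hq with rfl | rfl
  · obtain ⟨R, hR, ⟨e⟩⟩ := su_q2 hn
    obtain ⟨f⟩ := su_congr (n := n) (q := 2) (FiniteField.ringEquivOfCardEq (K := Q2.K) (K' := F) (Q2.hK.trans hF.symm))
    exact ⟨R, hR, ⟨e.trans f⟩⟩
  · obtain ⟨R, hR, ⟨e⟩⟩ := su_q3 hn
    obtain ⟨f⟩ := su_congr (n := n) (q := 3) (FiniteField.ringEquivOfCardEq (K := Q3.K) (K' := F) (Q3.hK.trans hF.symm))
    exact ⟨R, hR, ⟨e.trans f⟩⟩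

include hn in
/-- Short presentations of `PSUₙ(q)` for the two small fields. -/
theorem psu_short_small {F : Type*} [Field F] [Fintype F] {q : ℕ} (hF : Fintype.card F = q ^ 2)
    (hq : q = 2 ∨ q = 3) :
    ∃ R : Finset (FreeGroup (Fin 6)), R.card ≤ (if n ≤ 5 then 36 else 40) ∧
      Nonempty (PresentedGroup (↑R : Set (FreeGroup (Fin 6))) ≃* Cfsg.PSU n F q) := by
  obtain ⟨C⟩ := AutPSU.exists_conj hF
  obtain ⟨R, hR, he⟩ := su_short_small hn hF hq
  obtain ⟨z, hz, hgen⟩ := exists_center_gen hF C (n := n) (by omega)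
  obtain ⟨S, hS, hSe⟩ := quot_pres he _ z hz hgen
  refine ⟨S, hS.trans ?_, hSe⟩
  split_ifs at hR ⊢ <;> omega

end Cfsg.Agent.SUGlue
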