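import Cfsg.Agent.Lib.SUGlue.Calc
import Cfsg.Agent.Lib.SUGlue.Pres

/-!
Generalities for the small fields: orders, generation, bounds from coset tables, embedded words.
-/

set_option autoImplicit false
set_option linter.unusedSectionVars false
set_option linter.unusedSimpArgs false
set_option linter.style.haveILetI false
set_option linter.style.show false

namespace Cfsg.Agent.SUGlue

open Matrix Equiv
open Cfsg.Agent.Phan (emb emb_emb)
open Cfsg.Agent.BoundedPres (pt ga gb ga0 ga1)
open Cfsg.Agent.AutPSU (Conj)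
open Cfsg.Agent.TableCert (letter wval)

variable {F : Type*} [Field F] [Fintype F] {q : ℕ}

local notation "SU[" m "]" => Cfsg.SU m F q

theorem letter_map {G H : Type*} [Group G] [Group H] (f : G →* H) (g : List G) (l : ℕ) :
    f (letter g l) = letter (g.map f) l := by
  have h : f (g.getD (l / 2) 1) = (g.map f).getD (l / 2) 1 := by
    rw [← List.getD_map (f := f), map_one]
  unfold letter
  split
  · exact h
  · rw [map_inv, h]

theorem wval_map {G H : Type*} [Group G] [Group H] (f : G →* H) (g : List G) (w : List ℕ) :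
    f (wval g w) = wval (g.map f) w := by
  induction w with
  | nil => exact map_one f
  | cons l w ih => rw [wval, wval, map_mul, ih, letter_map]

theorem wval_prod {G : Type*} [Group G] (g : List G) (w : List ℕ) : wval g w = (w.map (letter g)).prod := by
  induction w with
  | nil => rfl
  | cons l w ih => rw [wval, List.map_cons, List.prod_cons, ih]

/-- The bound of a table inside the subgroup generated by some elements. -/
theorem card_closure_le {G : Type*} [Group G] (C : TableCert.Cert) (g : List G) (H : Subgroup G)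
    (hlen : 2 * g.length ≤ C.tab.length) (hrel : ∀ r ∈ C.rels, wval g r = 1)
    (hsub : ∀ l ∈ C.sub, letter g l ∈ H) (hcheck : C.check = true) {m : ℕ}
    (hH : Finite H ∧ Nat.card H ≤ m) :
    Finite (Subgroup.closure {x | x ∈ g}) ∧ Nat.card (Subgroup.closure {x | x ∈ g}) ≤ C.n * m := by
  haveI := hH.1
  set K := Subgroup.closure {x | x ∈ g} with hK
  let g' : List K := g.attach.map fun x => ⟨x.1, Subgroup.subset_closure x.2⟩
  have hg' : g'.map K.subtype = g := by
    simp only [g', List.map_map]
    exact List.attach_map_subtype_val g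
  let H' : Subgroup K := H.comap K.subtype
  have hf : Function.Injective (fun x : H' => (⟨K.subtype x.1, x.2⟩ : H)) := fun a b e =>
    Subtype.ext (Subtype.ext (congrArg Subtype.val e :))
  haveI : Finite H' := Finite.of_injective _ hf
  obtain ⟨h1, h2⟩ := TableCert.card_le g' C H' (by
      rw [eq_top_iff]
      rintro ⟨x, hx⟩ -
      induction hx using Subgroup.closure_induction with
      | mem y hy =>
        refine Subgroup.subset_closure ?_
        simp only [g', Set.mem_setOf_eq, List.mem_map]
        exact ⟨⟨y, hy⟩, List.mem_attach _ _, rfl⟩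
      | one => exact one_mem _
      | mul y z hy hz ihy ihz => exact Subgroup.mul_mem _ ihy ihz
      | inv y hy ih => exact Subgroup.inv_mem _ ih)
    (by simpa [g'] using hlen)
    (fun r hr => Subtype.ext (show K.subtype (wval g' r) = 1 by rw [wval_map, hg']; exact hrel r hr))
    (fun l hl => show K.subtype (letter g' l) ∈ H by rw [letter_map, hg']; exact hsub l hl) hcheck
  refine ⟨h1, h2.trans (Nat.mul_le_mul_left _ ?_)⟩
  exact (Nat.card_le_card_of_injective _ hf).trans hH.2

/-- An element of finite order generates a small subgroup. -/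
theorem card_zpowers_le {G : Type*} [Group G] (x : G) {m : ℕ} (hm : 0 < m) (hx : x ^ m = 1) :
    Finite (Subgroup.zpowers x) ∧ Nat.card (Subgroup.zpowers x) ≤ m := by
  have hfo : IsOfFinOrder x := isOfFinOrder_iff_pow_eq_one.2 ⟨m, hm, hx⟩
  haveI : Finite (Subgroup.zpowers x) := Finite.of_equiv _ (finEquivZPowers hfo)
  exact ⟨this, by rw [Nat.card_zpowers]; exact Nat.le_of_dvd hm (orderOf_dvd_of_pow_eq_one hx)⟩

/-- A presentation from the values of the generators, their generation and a bound. -/
theorem pres_of_bound {T : Type*} [Group T] [Finite T] {k : ℕ} (R : Finset (FreeGroup (Fin k))) (g : Fin k → T)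
    (hR : ∀ r ∈ R, FreeGroup.lift g r = 1) (hgen : Subgroup.closure (Set.range g) = ⊤)
    (hcard : Finite (PresentedGroup (↑R : Set (FreeGroup (Fin k)))) ∧
      Nat.card (PresentedGroup (↑R : Set (FreeGroup (Fin k)))) ≤ Nat.card T) :
    Nonempty (PresentedGroup (↑R : Set (FreeGroup (Fin k))) ≃* T) := by
  haveI := hcard.1
  let π := PresentedGroup.toGroup (rels := (↑R : Set (FreeGroup (Fin k)))) (f := g) fun r hr => hR r hr
  have hs : Function.Surjective π := MonoidHom.range_eq_top.1 (top_le_iff.1 (hgen.symm.le.trans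
    ((Subgroup.closure_le _).2 (by rintro _ ⟨i, rfl⟩; exact ⟨PresentedGroup.of i, PresentedGroup.toGroup.of _⟩))))
  exact ⟨MulEquiv.ofBijective π ((Nat.bijective_iff_surjective_and_card π).2
    ⟨hs, le_antisymm hcard.2 (Nat.card_le_card_of_surjective _ hs)⟩)⟩

theorem card_small (hF : Fintype.card F = q ^ 2) {n : ℕ} (hn : 1 ≤ n) :
    (q + 1) * Nat.card ↥(Cfsg.SU n F q) = Nat.card ↥(Cfsg.GU n F q) := by
  obtain ⟨C⟩ := AutPSU.exists_conj hF
  exact HermSU.card_SU_mul (σ := C.σ.toRingHom)
    (fun e => C.ne_one.elim fun μ hμ => hμ (RingHom.congr_fun e μ)) C.invol C.apply_eq hn (Phan.card_fixed C hF)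

theorem card_su (hF : Fintype.card F = q ^ 2) (h : q = 2 ∨ q = 3) :
    Nat.card ↥(Cfsg.SU 2 F q) = (if q = 2 then 6 else 24) ∧
    Nat.card ↥(Cfsg.SU 3 F q) = (if q = 2 then 216 else 6048) ∧
    Nat.card ↥(Cfsg.SU 4 F q) = (if q = 2 then 25920 else 13063680) := by
  obtain ⟨C⟩ := AutPSU.exists_conj hF
  have hne : C.σ.toRingHom ≠ RingHom.id F := fun e => C.ne_one.elim fun μ hμ => hμ (RingHom.congr_fun e μ)
  have h2 := card_small hF (n := 2) (by norm_num)
  have h3 := card_small hF (n := 3) (by norm_num)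
  have h4 := card_small hF (n := 4) (by norm_num)
  rw [HermStd.card_GU hne C.invol C.apply_eq 2 (Phan.card_fixed C hF)] at h2
  rw [HermStd.card_GU hne C.invol C.apply_eq 3 (Phan.card_fixed C hF)] at h3
  rw [HermStd.card_GU hne C.invol C.apply_eq 4 (Phan.card_fixed C hF)] at h4
  rcases h with rfl | rfl <;> simp [Finset.prod_range_succ, Nat.even_iff] at h2 h3 h4 ⊢ <;> omega

variable {n : ℕ} (hn : 4 ≤ n)

/-- The permutation matrices of the first four indices. -/
theorem pm_ext4 (σ : alternatingGroup (Fin 4)) :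
    pm n F q (ext4 hn σ) = emb 0 (show 0 + 4 ≤ n by omega) (pm 4 F q σ) := by
  refine pm_emb _ σ _ (fun a => ?_) fun i hi => ext4_out hn σ (by omega)
  rw [show (⟨0 + a, by omega⟩ : Fin n) = pt hn a from Fin.ext (zero_add _), ext4_pt, zero_add]
  rfl

/-- The gluing relations hold in the group itself. -/
theorem rels_self : Rels hn (emb (F := F) (q := q) (k := 3) (n := n) 0 (by omega)) (pm n F q) where
  cyc := T_cyc hn
  exch := T_exch hn
  fixed := T_fixed hn
  far := T_far hn

/-- Permutation matrices of four points and the first block of three generate, given the generation by blocks. -/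
theorem gen_four (C : Conj F q) (hF : Fintype.card F = q ^ 2) (hq : q = 2 ∨ q = 3)
    (H : Subgroup SU[4]) (h3 : ∀ s, t0 s ∈ H) (hA : ∀ σ, pm 4 F q σ ∈ H) : H = ⊤ := by
  have hblk : ∀ (i : ℕ) (hi : i + 3 ≤ 4) (s : SU[3]), (emb i hi s : SU[4]) ∈ H := by
    intro i hi s
    obtain rfl | rfl : i = 0 ∨ i = 1 := by omega
    · exact h3 s
    · obtain ⟨d, d0, d1, d2⟩ := triple_four
      have e : (emb 1 hi s : SU[4]) = pm 4 F q d * t0 (mm (Equiv.swap (0 : Fin 3) 2) s) * (pm 4 F q d)⁻¹ := by
        rw [pm_conj, t0, mm_emb _ (Equiv.swap (0 : Fin 3) 2) _ hi (fun a => ?_), ← mm_mul, Equiv.swap_mul_self, mm_one]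
        fin_cases a
        · show ((d : Perm (Fin 4)) 0 : ℕ) = _; rw [d0]; rfl
        · show ((d : Perm (Fin 4)) 1 : ℕ) = _; rw [d1]; rfl
        · show ((d : Perm (Fin 4)) 2 : ℕ) = _; rw [d2]; rfl
      rw [e]
      exact mul_mem (mul_mem (hA d) (h3 _)) (inv_mem (hA d))
  rcases hq with rfl | rfl
  · exact Phan.Two.gen_three C hF (by norm_num) H hblk
  · refine Phan.gen_two C hF (by norm_num) (by norm_num) H fun i hi s => ?_
    obtain rfl | rfl | rfl : i = 0 ∨ i = 1 ∨ i = 2 := by omega
    · have := hblk 0 (by norm_num) (emb 0 (show 0 + 2 ≤ 3 by norm_num) s)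
      rwa [emb_emb 0 _ 0 _ 0 hi rfl] at this
    · have := hblk 0 (by norm_num) (emb 1 (show 1 + 2 ≤ 3 by norm_num) s)
      rwa [emb_emb 0 _ 1 _ 1 hi rfl] at this
    · have := hblk 1 (by norm_num) (emb 1 (show 1 + 2 ≤ 3 by norm_num) s)
      rwa [emb_emb 1 _ 1 _ 2 hi rfl] at this

end Cfsg.Agent.SUGlue
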