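import Cfsg.Agent.Lib.SUGlue.Four
import Cfsg.Agent.Lib.Phan.TwoStage
import Cfsg.Agent.Lib.Phan.TwoMain

/-!
Homomorphisms out of `SUₙ(2)` from one of a block of four and one of the alternating group.
-/

set_option autoImplicit false
set_option linter.unusedSectionVars false
set_option linter.unusedSimpArgs false
set_option linter.style.haveILetI false
set_option linter.style.show false

namespace Cfsg.Agent.SUGlue

open Matrix Equiv
open Cfsg.Agent.Phan (emb emb_emb emb_in emb_out)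
open Cfsg.Agent.BoundedPres (pt pt_inj ga ga0 ga1 exists_even exists_pair_alt)
open Cfsg.Agent.AutPSU (Conj)

variable {F : Type*} [Field F] [Fintype F] {n : ℕ}

local notation "SU[" m "]" => Cfsg.SU m F 2

/-- Even permutations with given values on five indices, up to the exchange of the last two. -/
theorem exists_five (hn : 5 ≤ n) (y : Fin 5 → Fin n) (hy : Function.Injective y) :
    ∃ σ : alternatingGroup (Fin n), (∀ a : Fin 3, (σ : Perm (Fin n)) ⟨a, by omega⟩ = y ⟨a, by omega⟩) ∧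
      ((σ : Perm (Fin n)) ⟨3, by omega⟩ = y 3 ∧ (σ : Perm (Fin n)) ⟨4, by omega⟩ = y 4 ∨
        (σ : Perm (Fin n)) ⟨3, by omega⟩ = y 4 ∧ (σ : Perm (Fin n)) ⟨4, by omega⟩ = y 3) := by
  obtain ⟨σ, hσ⟩ := exists_even (Fin.castLE hn) y (Fin.castLE_injective hn) hy (show (3 : Fin 5) ≠ 4 by decide)
  refine ⟨σ, fun a => ?_, ?_⟩
  · rcases hσ with h | ⟨-, -, h⟩
    · exact h ⟨a, by omega⟩
    · exact h ⟨a, by omega⟩ (by intro e; have := congrArg Fin.val e; simp at this; omega)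
        (by intro e; have := congrArg Fin.val e; simp at this; omega)
  · rcases hσ with h | ⟨h3, h4, -⟩
    · exact Or.inl ⟨h 3, h 4⟩
    · exact Or.inr ⟨h3, h4⟩

theorem cycle_four : ∀ o : Fin 2, ∃ π : alternatingGroup (Fin 4), ∀ a : Fin 4,
    ((a : ℕ) = o → ((π : Perm (Fin 4)) a : ℕ) = o + 1) ∧ ((a : ℕ) = o + 1 → ((π : Perm (Fin 4)) a : ℕ) = o + 2) ∧
      ((a : ℕ) < o ∨ (o : ℕ) + 3 ≤ a → (π : Perm (Fin 4)) a = a) := by decide +kernel

variable (hn : 4 ≤ n) {G : Type*} [Group G] (φ : ↥(Cfsg.SU 3 F 2) →* G) (ψ : alternatingGroup (Fin n) →* G)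

/-- A conjugate of the first block of three. -/
def Cj (σ : alternatingGroup (Fin n)) (s : ↥(Cfsg.SU 3 F 2)) : G := ψ σ * φ s * (ψ σ)⁻¹

/-- The relations needed over the field with four elements. -/
structure RelsTwo (R : Rels hn φ ψ) : Prop where
  fix3 : ∀ g : alternatingGroup (Fin n), (∀ a : Fin 3, (g : Perm (Fin n)) (pt hn a.castSucc) = pt hn a.castSucc) →
    ∀ s, Commute (ψ g) (φ s)
  flip3 : 5 ≤ n → ∃ g : alternatingGroup (Fin n),
    (∀ a : Fin 3, (g : Perm (Fin n)) (pt hn a.castSucc) = pt hn (Equiv.swap (0 : Fin 3) 2 a).castSucc) ∧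
      ∀ s, ψ g * φ s * (ψ g)⁻¹ = φ (mm (Equiv.swap (0 : Fin 3) 2) s)
  far2 : 5 ≤ n → ∃ μ : alternatingGroup (Fin n), ((μ : Perm (Fin n)) (pt hn 0) : ℕ) = 3 ∧
    ((μ : Perm (Fin n)) (pt hn 1) : ℕ) = 4 ∧ ∀ h s, Commute (R.Ph μ h) (φ s)
  far3 : 6 ≤ n → ∃ σ : alternatingGroup (Fin n),
    (∀ a : Fin 3, ((σ : Perm (Fin n)) (pt hn a.castSucc) : ℕ) = 3 + a) ∧ ∀ s t, Commute (Cj φ ψ σ s) (φ t)

variable {φ ψ}

/-- The universal property over the field with four elements, given the block of four. -/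
theorem exists_hom_two (C : Conj F 2) (hF : Fintype.card F = 2 ^ 2) (R : Rels hn φ ψ) (R2 : RelsTwo hn φ ψ R)
    (f4 : ↥(Cfsg.SU 4 F 2) →* G) (h0 : ∀ s, f4 (t0 s) = φ s) (hA : ∀ σ, f4 (pm 4 F 2 σ) = ψ (ext4 hn σ)) :
    ∃ f : SU[n] →* G, (∀ s, f (emb 0 (show 0 + 3 ≤ n by omega) s) = φ s) ∧ ∀ σ, f (pm n F 2 σ) = ψ σ := by
  obtain rfl | h5 : n = 4 ∨ 5 ≤ n := by omega
  · refine ⟨f4, fun s => h0 s, fun σ => ?_⟩
    rw [hA]
    exact congrArg ψ (eq_ext4 hn σ σ (fun a => rfl) (fun x hx => absurd hx (by omega)))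
  have hpv : ∀ a : Fin 4, (pt hn a : ℕ) = a := fun a => rfl
  -- exact shifts of the first three and four indices
  have h3 : ∀ i, i + 3 ≤ n → ∃ σ : alternatingGroup (Fin n),
      ∀ a : Fin 3, ((σ : Perm (Fin n)) (pt hn a.castSucc) : ℕ) = i + a := by
    intro i hi
    obtain ⟨σ, hσ⟩ := Equiv.Perm.exists_extending_pair (fun a : Fin 3 => pt hn a.castSucc)
      (fun a : Fin 3 => (⟨i + a, by omega⟩ : Fin n)) ((pt_inj hn).comp (Fin.castSucc_injective 3))
      (fun a b e => Fin.ext (by simpa [Fin.ext_iff] using e))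
    rcases Int.units_eq_one_or (Perm.sign σ) with h | h
    · exact ⟨⟨σ, Perm.mem_alternatingGroup.2 h⟩, fun a => by show (σ _ : ℕ) = _; rw [hσ]⟩
    · refine ⟨⟨σ * swap (⟨3, by omega⟩ : Fin n) ⟨4, by omega⟩, Perm.mem_alternatingGroup.2 (by
        rw [map_mul, h, Perm.sign_swap (by simp)]; rfl)⟩, fun a => ?_⟩
      show (σ (swap (⟨3, by omega⟩ : Fin n) ⟨4, by omega⟩ (pt hn a.castSucc)) : ℕ) = _
      rw [swap_apply_of_ne_of_ne (by intro e; have := congrArg Fin.val e; simp [hpv] at this; omega)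
        (by intro e; have := congrArg Fin.val e; simp [hpv] at this; omega), hσ]
  choose! σ3 hσ3 using h3
  have h4 : ∀ i, i + 4 ≤ n → ∃ τ : alternatingGroup (Fin n),
      ∀ a : Fin 4, ((τ : Perm (Fin n)) (pt hn a) : ℕ) = i + a := by
    intro i hi
    induction i with
    | zero => exact ⟨1, fun a => by simp [hpv]⟩
    | succ i ih =>
      obtain ⟨τ, hτ⟩ := ih (by omega)
      refine ⟨cyc3At i (by omega) * cyc3At (i + 2) (by omega) * τ, fun a => ?_⟩
      rw [Subgroup.coe_mul, Subgroup.coe_mul, Perm.mul_apply, Perm.mul_apply,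
        show (τ : Perm (Fin n)) (pt hn a) = ⟨i + a, by omega⟩ from Fin.ext (hτ a)]
      by_cases ha : (a : ℕ) < 2
      · rw [(cyc3At_spec (i + 2) (by omega)).2 _ (Or.inl (by simp only; omega))]
        have e := (cyc3At_spec (n := n) i (by omega)).1 ⟨a, by omega⟩
        simp only at e
        rw [e]
        rcases (show (a : ℕ) = 0 ∨ (a : ℕ) = 1 by omega) with k | k <;> simp [k, BoundedPres.cp, swap_apply_def] <;> omega
      · have e := (cyc3At_spec (n := n) (i + 2) (by omega)).1 ⟨(a : ℕ) - 2, by omega⟩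
        simp only at e
        rw [show (⟨i + (a : ℕ), by omega⟩ : Fin n) = ⟨i + 2 + ((a : ℕ) - 2), by omega⟩ from Fin.ext (by simp; omega)]
        have e' : (BoundedPres.cp (⟨(a : ℕ) - 2, by omega⟩ : Fin 3) : ℕ) = (a : ℕ) - 2 + 1 := by
          rcases (show (a : ℕ) = 2 ∨ (a : ℕ) = 3 by omega) with k | k <;> simp [k, BoundedPres.cp, swap_apply_def]
        rw [(cyc3At_spec i (by omega)).2 _ (Or.inr (by rw [e, e']; omega)), e, e']
        omega
  choose! τ4 hτ4 using h4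
  have Cj_eq : ∀ {σ σ' : alternatingGroup (Fin n)},
      (∀ a : Fin 3, (σ : Perm (Fin n)) (pt hn a.castSucc) = (σ' : Perm (Fin n)) (pt hn a.castSucc)) →
      ∀ s, Cj φ ψ σ s = Cj φ ψ σ' s := by
    intro σ σ' h s
    have hc := R2.fix3 (σ'⁻¹ * σ) (fun a => by
      rw [Subgroup.coe_mul, Perm.mul_apply, h, Subgroup.coe_inv, Perm.inv_def, symm_apply_apply]) s
    rw [Cj, Cj, show ψ σ = ψ σ' * ψ (σ'⁻¹ * σ) by rw [← map_mul, mul_inv_cancel_left],
      show ψ σ' * ψ (σ'⁻¹ * σ) * φ s * (ψ σ' * ψ (σ'⁻¹ * σ))⁻¹ =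
        ψ σ' * (ψ (σ'⁻¹ * σ) * φ s * (ψ (σ'⁻¹ * σ))⁻¹) * (ψ σ')⁻¹ by group, hc.eq, mul_inv_cancel_right]
  obtain ⟨g3, hg3, hg3'⟩ := R2.flip3 h5
  obtain ⟨d, d0, d1, d2⟩ := triple_four
  have ht1 : ∀ s, f4 (t1 s) = Cj φ ψ (ext4 hn d * g3) s := by
    intro s
    have hd : ∀ a : Fin 3, ((d : Perm (Fin 4)) ⟨0 + a, by omega⟩ : ℕ) = 1 + (Equiv.swap (0 : Fin 3) 2) a := by
      intro a
      fin_cases a
      · show ((d : Perm (Fin 4)) 0 : ℕ) = _; rw [d0]; rfl
      · show ((d : Perm (Fin 4)) 1 : ℕ) = _; rw [d1]; rfl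
      · show ((d : Perm (Fin 4)) 2 : ℕ) = _; rw [d2]; rfl
    have e : (t1 s : SU[4]) = pm 4 F 2 d * t0 (mm (Equiv.swap (0 : Fin 3) 2) s) * (pm 4 F 2 d)⁻¹ := by
      rw [pm_conj, t0, mm_emb _ (Equiv.swap (0 : Fin 3) 2) _ (show 1 + 3 ≤ 4 by decide) hd, ← mm_mul,
        Equiv.swap_mul_self, mm_one]
      rfl
    rw [e, map_mul, map_mul, map_inv, hA, h0, ← hg3', Cj, map_mul]
    group
  have hν : ∀ a : Fin 3, ((ext4 hn d * g3 : alternatingGroup (Fin n)) : Perm (Fin n)) (pt hn a.castSucc) = pt hn a.succ := by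
    intro a
    rw [Subgroup.coe_mul, Perm.mul_apply, hg3, ext4_pt]
    congr 1
    fin_cases a
    · show (d : Perm (Fin 4)) 2 = _; rw [d2]; rfl
    · show (d : Perm (Fin 4)) 1 = _; rw [d1]; rfl
    · show (d : Perm (Fin 4)) 0 = _; rw [d0]; rfl
  let P : ℕ → SU[4] →* G := fun i => (MulAut.conj (ψ (τ4 i))).toMonoidHom.comp f4
  have hP0 : ∀ i, i + 4 ≤ n → ∀ s, P i (t0 s) = Cj φ ψ (σ3 i) s := by
    intro i hi s
    show ψ (τ4 i) * f4 (t0 s) * (ψ (τ4 i))⁻¹ = _
    rw [h0]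
    refine Cj_eq (fun a => Fin.ext ?_) s
    rw [hσ3 i (by omega), hτ4 i hi]
    rfl
  have hP1 : ∀ i, i + 4 ≤ n → ∀ s, P i (t1 s) = Cj φ ψ (σ3 (i + 1)) s := by
    intro i hi s
    show ψ (τ4 i) * f4 (t1 s) * (ψ (τ4 i))⁻¹ = _
    rw [ht1, ← Cj_eq (σ := τ4 i * (ext4 hn d * g3)) (σ' := σ3 (i + 1)) (fun a => Fin.ext ?_) s]
    · simp only [Cj, map_mul]; group
    · rw [Subgroup.coe_mul, Perm.mul_apply, hν, hσ3 (i + 1) (by omega), hτ4 i hi]
      simp; omega
  obtain ⟨μ, μ0, μ1, hμ⟩ := R2.far2 h5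
  have far : ∀ σ : alternatingGroup (Fin n), 3 ≤ ((σ : Perm (Fin n)) (pt hn 0) : ℕ) →
      3 ≤ ((σ : Perm (Fin n)) (pt hn 1) : ℕ) → ∀ h s, Commute (R.Ph σ h) (φ s) := by
    intro σ a0 a1 h s
    have hne : (σ : Perm (Fin n)) (pt hn 0) ≠ (σ : Perm (Fin n)) (pt hn 1) := fun e =>
      (pt_inj hn).ne (show (0 : Fin 4) ≠ 1 by decide) ((σ : Perm (Fin n)).injective e)
    obtain ⟨ν, ν3, ν4⟩ := exists_five h5
      ![(⟨0, by omega⟩ : Fin n), ⟨1, by omega⟩, ⟨2, by omega⟩, (σ : Perm (Fin n)) (pt hn 0), (σ : Perm (Fin n)) (pt hn 1)]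
      (by
        intro a b e
        rw [Fin.ext_iff] at e
        have hne' : ((σ : Perm (Fin n)) (pt hn 0) : ℕ) ≠ (σ : Perm (Fin n)) (pt hn 1) := fun q => hne (Fin.ext q)
        fin_cases a <;> fin_cases b <;> simp at e ⊢ <;> omega)
    have hc := R2.fix3 ν (fun a => by
      refine Eq.trans ?_ ((ν3 a).trans ?_)
      · rfl
      · fin_cases a <;> rfl) s
    have hk : ∀ k, Commute (R.Ph (ν * μ) k) (φ s) := fun k => by
      have h1 := (Commute.conj_iff (ψ ν)).2 (hμ k s)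
      rw [hc.eq, mul_inv_cancel_right,
        show ψ ν * R.Ph μ k * (ψ ν)⁻¹ = R.Ph (ν * μ) k by simp only [Rels.Ph, map_mul]; group] at h1
      exact h1
    have e3 : (μ : Perm (Fin n)) (pt hn 0) = ⟨3, by omega⟩ := Fin.ext μ0
    have e4 : (μ : Perm (Fin n)) (pt hn 1) = ⟨4, by omega⟩ := Fin.ext μ1
    rcases ν4 with ⟨b3, b4⟩ | ⟨b3, b4⟩
    · rw [R.Ph_eq (σ := σ) (σ' := ν * μ) (by rw [Subgroup.coe_mul, Perm.mul_apply, e3, b3]; rfl)
        (by rw [Subgroup.coe_mul, Perm.mul_apply, e4, b4]; rfl)]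
      exact hk h
    · rw [R.Ph_eq (σ := σ) (σ' := ν * μ * ga hn)
        (by rw [Subgroup.coe_mul, Subgroup.coe_mul, Perm.mul_apply, Perm.mul_apply, ga0, e4, b4]; rfl)
        (by rw [Subgroup.coe_mul, Subgroup.coe_mul, Perm.mul_apply, Perm.mul_apply, ga1, e3, b3]; rfl), R.Ph_flip]
      exact hk _
  have hout : ∀ i, i + 3 ≤ n → ∀ y : Fin n, i + 3 ≤ (y : ℕ) → 3 ≤ (((σ3 i : Perm (Fin n))⁻¹) y : ℕ) := by
    intro i hi y hy
    obtain ⟨z, rfl⟩ : ∃ z, (σ3 i : Perm (Fin n)) z = y := ⟨_, Equiv.apply_symm_apply _ _⟩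
    rw [Perm.inv_def, symm_apply_apply]
    by_contra hz
    have := hσ3 i hi ⟨z, by omega⟩
    rw [show pt hn (Fin.castSucc ⟨(z : ℕ), by omega⟩) = z from Fin.ext rfl] at this
    simp only at this
    omega
  suffices H : ∀ m, 4 ≤ m → m ≤ n →
      ∃ f : SU[m] →* G, ∀ i (hi : i + 4 ≤ m) (s : SU[4]), f (emb i hi s) = P i s by
    obtain ⟨f, hf⟩ := H n hn le_rfl
    refine ⟨f, fun s => ?_, fun σ => ?_⟩
    · rw [← emb_emb 0 (show 0 + 4 ≤ n by omega) 0 (show 0 + 3 ≤ 4 by decide) 0 (show 0 + 3 ≤ n by omega) rfl s,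
        hf 0 _]
      refine (hP0 0 (by omega) s).trans ((Cj_eq (σ' := 1) (fun a => Fin.ext ?_) s).trans ?_)
      · rw [hσ3 0 (by omega)]; simp [hpv]
      · simp [Cj]
    · have hK : MonoidHom.eqLocus (f.comp (pm n F 2)) ψ = ⊤ := by
        refine alt_top _ fun i hi => ?_
        obtain ⟨j, o, hjo, hj⟩ : ∃ (j : ℕ) (o : Fin 2), j + o = i ∧ j + 4 ≤ n := by
          by_cases h : i + 4 ≤ n
          · exact ⟨i, 0, by simp, h⟩
          · exact ⟨i - 1, 1, by simp; omega, by omega⟩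
        obtain ⟨π, hπ⟩ := cycle_four o
        set g := τ4 j * ext4 hn π * (τ4 j)⁻¹ with hgdef
        have gin : ∀ a : Fin 4, ((g : Perm (Fin n)) ⟨j + a, by omega⟩ : ℕ) = j + (π : Perm (Fin 4)) a := fun a => by
          rw [show (⟨j + a, by omega⟩ : Fin n) = (τ4 j : Perm (Fin n)) (pt hn a) from Fin.ext (hτ4 j hj a).symm,
            hgdef, Subgroup.coe_mul, Subgroup.coe_mul, Subgroup.coe_inv, Perm.mul_apply, Perm.mul_apply, Perm.inv_def,
            symm_apply_apply, ext4_pt, hτ4 j hj]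
        have gout : ∀ x : Fin n, (x : ℕ) < j ∨ j + 4 ≤ x → (g : Perm (Fin n)) x = x := fun x hx => by
          obtain ⟨y, rfl⟩ : ∃ y, (τ4 j : Perm (Fin n)) y = x := ⟨_, Equiv.apply_symm_apply _ _⟩
          rw [hgdef, Subgroup.coe_mul, Subgroup.coe_mul, Subgroup.coe_inv, Perm.mul_apply, Perm.mul_apply, Perm.inv_def,
            symm_apply_apply]
          congr 1
          refine ext4_out hn π ?_
          by_contra hy
          have := hτ4 j hj ⟨y, by omega⟩
          rw [show pt hn ⟨(y : ℕ), by omega⟩ = y from Fin.ext rfl] at this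
          simp only at this
          omega
        refine ⟨g, ?_, fun x => ⟨fun hx => ?_, fun hx => ?_, fun hx => ?_⟩⟩
        · show f (pm n F 2 g) = ψ g
          rw [pm_emb g π hj gin gout, hf j hj]
          show ψ (τ4 j) * f4 (pm 4 F 2 π) * (ψ (τ4 j))⁻¹ = _
          rw [hA, hgdef, map_mul, map_mul, map_inv]
        · rw [show x = ⟨j + ((⟨o, by omega⟩ : Fin 4) : ℕ), by simp; omega⟩ from Fin.ext (by simp; omega), gin,
            (hπ _).1 rfl]
          omega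
        · rw [show x = ⟨j + ((⟨(o : ℕ) + 1, by omega⟩ : Fin 4) : ℕ), by simp; omega⟩ from Fin.ext (by simp; omega),
            gin, (hπ _).2.1 rfl]
          omega
        · by_cases hx4 : (x : ℕ) < j ∨ j + 4 ≤ x
          · exact gout x hx4
          · push Not at hx4
            refine Fin.ext ?_
            have e := gin ⟨(x : ℕ) - j, by omega⟩
            rw [show (⟨j + ((⟨(x : ℕ) - j, by omega⟩ : Fin 4) : ℕ), by simp; omega⟩ : Fin n) = x from
              Fin.ext (by simp; omega), (hπ ⟨(x : ℕ) - j, by omega⟩).2.2 (by simp only; omega)] at e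
            rw [e]
            simp only
            omega
      exact (hK.ge (Subgroup.mem_top σ) : _)
  intro m hm
  induction m, hm using Nat.le_induction with
  | base =>
    intro _
    refine ⟨P 0, fun i hi s => ?_⟩
    obtain rfl : i = 0 := by omega
    rw [Phan.Two.emb_id]
  | succ m hm ih =>
    intro hmn
    obtain ⟨f0, hf0⟩ := ih (by omega)
    obtain ⟨f, hfa, hfb⟩ := Phan.Two.stage C hF hm f0 (P (m - 3)) (fun s => by
        refine (hP0 (m - 3) (by omega) s).trans ?_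
        rw [← emb_emb (m - 4) (show m - 4 + 4 ≤ m by omega) 1 (show 1 + 3 ≤ 4 by decide) (m - 3)
          (show m - 3 + 3 ≤ m by omega) (by omega) s, hf0]
        have e := hP1 (m - 4) (by omega) s
        rw [show m - 4 + 1 = m - 3 by omega] at e
        exact e.symm)
      (fun s t => by
        obtain ⟨ρ2, r0, r1⟩ := exists_pair_alt hn (i := pt hn 2) (j := pt hn 3) ((pt_inj hn).ne (by decide))
        have e : P (m - 3) (emb 2 (show 2 + 2 ≤ 4 by omega) s) = R.Ph (τ4 (m - 3) * ρ2) s := by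
          show ψ (τ4 (m - 3)) * f4 (emb 2 _ s) * (ψ (τ4 (m - 3)))⁻¹ = _
          rw [four_blk hn R f4 h0 hA _ ρ2 (by rw [r0]; rfl) (by rw [r1]; rfl) s]
          simp only [Rels.Ph, map_mul]; group
        rw [e]
        generalize ha : R.Ph (τ4 (m - 3) * ρ2) s = a
        have htop := Phan.Two.gen_three C hF (show 3 ≤ m - 1 by omega)
          ((Subgroup.centralizer {a}).comap (f0.comp (emb 0 (show 0 + (m - 1) ≤ m by omega)))) fun i hi r => by
          rw [Subgroup.mem_comap, MonoidHom.comp_apply, Subgroup.mem_centralizer_singleton_iff,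
            emb_emb 0 _ i hi i (show i + 3 ≤ m by omega) (by omega) r,
            ← emb_emb i (show i + 4 ≤ m by omega) 0 (show 0 + 3 ≤ 4 by omega) i _ (by omega) r, hf0]
          show P i (t0 r) * a = a * P i (t0 r)
          rw [hP0 i (by omega), ← ha]
          have hh := far ((σ3 i)⁻¹ * (τ4 (m - 3) * ρ2)) ?_ ?_ s r
          · have h1 := (Commute.conj_iff (ψ (σ3 i))).2 hh
            rw [show ψ (σ3 i) * R.Ph ((σ3 i)⁻¹ * (τ4 (m - 3) * ρ2)) s * (ψ (σ3 i))⁻¹ = R.Ph (τ4 (m - 3) * ρ2) s by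
              simp only [Rels.Ph, map_mul, map_inv]; group] at h1
            exact h1.eq.symm
          · rw [Subgroup.coe_mul, Subgroup.coe_inv, Perm.mul_apply, Subgroup.coe_mul, Perm.mul_apply, r0]
            exact hout i (by omega) _ (by rw [hτ4 (m - 3) (by omega)]; have h2 : ((2 : Fin 4) : ℕ) = 2 := rfl; rw [h2]; omega)
          · rw [Subgroup.coe_mul, Subgroup.coe_inv, Perm.mul_apply, Subgroup.coe_mul, Perm.mul_apply, r1]
            exact hout i (by omega) _ (by rw [hτ4 (m - 3) (by omega)]; have h2 : ((3 : Fin 4) : ℕ) = 3 := rfl; rw [h2]; omega)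
        have h := Subgroup.mem_comap.1 (htop ▸ Subgroup.mem_top t)
        rw [Subgroup.mem_centralizer_singleton_iff] at h
        exact h.symm)
      (fun hm5 s t => by
        subst hm5
        obtain ⟨σ, hσ, hc⟩ := R2.far3 (by omega)
        have e1 : P (5 - 3) (emb 1 (show 1 + 3 ≤ 4 by omega) s) = Cj φ ψ σ s := by
          refine (hP1 2 (by omega) s).trans (Cj_eq (fun a => Fin.ext ?_) s)
          rw [hσ3 3 (by omega), hσ]
        have e : f0 (emb 0 (show 0 + 3 ≤ 5 by omega) t) = φ t := by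
          rw [← emb_emb 0 (show 0 + 4 ≤ 5 by omega) 0 (show 0 + 3 ≤ 4 by decide) 0 _ rfl t, hf0 0]
          refine (hP0 0 (by omega) t).trans ((Cj_eq (σ' := 1) (fun a => Fin.ext ?_) t).trans ?_)
          · rw [hσ3 0 (by omega)]; simp [hpv]
          · simp [Cj]
        rw [e1, e]
        exact hc s t)
    refine ⟨f, fun i hi s => ?_⟩
    by_cases h : i + 4 ≤ m
    · have e := hfa (emb i h s)
      rw [hf0 i h s] at e
      rw [← e]
      congr 1
      exact (emb_emb 0 _ i h i hi (by omega) s).symm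
    · obtain rfl : i = m - 3 := by omega
      exact hfb s

end Cfsg.Agent.SUGlue
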