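import Cfsg.Agent.Lib.SUGlue.SmallBase
import Cfsg.Agent.Lib.SUGlue.FastCheck
import Cfsg.Agent.Lib.SUGlue.DataTwo
import Cfsg.Agent.Lib.SUGlue.TwoHom
import Cfsg.Agent.Lib.RigidGraph.He.FieldFour
import Cfsg.Agent.Lib.Compute.CosetCert
import Cfsg.Agent.Lib.Compute.CosetCardLe
import Cfsg.Agent.Lib.SLShort.Main

/-!
The unitary groups over the field with four elements: a presentation of `SU₃(2)`, the block of four, the relations.
-/

set_option autoImplicit false
set_option linter.unusedSectionVars false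
set_option linter.unusedSimpArgs false
set_option linter.style.haveILetI false
set_option linter.style.show false
set_option maxRecDepth 20000

namespace Cfsg.Agent.SUGlue.Q2

open Matrix Equiv
open Cfsg.Agent.Phan (emb emb_emb)
open Cfsg.Agent.BoundedPres (ga gb c3 pt pt_inj)
open Cfsg.Agent.AutPSU (Conj)
open Cfsg.Agent.CosetCert (wprod)
open scoped commutatorElement

/-- The field. -/
abbrev K := RigidGraph.He.K4

theorem hK : Fintype.card K = 2 ^ 2 := RigidGraph.He.K4.card_K4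

local notation "SU[" m "]" => Cfsg.SU m K 2

/-- A matrix from its code. -/
def dm (n c : ℕ) : Matrix (Fin n) (Fin n) K :=
  Matrix.of fun i j => RigidGraph.He.K4.ofDigit ((c >>> (4 * (n * (i : ℕ) + (j : ℕ)))) % 16)

theorem mats_ok : ∀ i : Fin 4, (dm 3 (DataTwo.mats.getD i 0)).det = 1 ∧
    (dm 3 (DataTwo.mats.getD i 0))ᵀ * (dm 3 (DataTwo.mats.getD i 0)).map (fun x => x ^ 2) = 1 := by
  decide +kernel

theorem u2_ok : ∀ i : Fin 2, (dm 2 (DataTwo.u2.getD i 0)).det = 1 ∧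
    (dm 2 (DataTwo.u2.getD i 0))ᵀ * (dm 2 (DataTwo.u2.getD i 0)).map (fun x => x ^ 2) = 1 := by
  decide +kernel

/-- The generators and their inverses. -/
def gx (l : ℕ) : ↥(Cfsg.SU 3 K 2) :=
  el hK _ (mats_ok ⟨l % 4, Nat.mod_lt _ (by norm_num)⟩).1 (mats_ok ⟨l % 4, Nat.mod_lt _ (by norm_num)⟩).2

/-- The generators of the block of two. -/
def uv (l : ℕ) : ↥(Cfsg.SU 2 K 2) :=
  el hK _ (u2_ok ⟨l % 2, Nat.mod_lt _ (by norm_num)⟩).1 (u2_ok ⟨l % 2, Nat.mod_lt _ (by norm_num)⟩).2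

theorem uv_theta : uv 1 = theta (uv 0) := su_ext (by decide +kernel)

theorem uv_top : Subgroup.closure ({uv 0, uv 1} : Set ↥(Cfsg.SU 2 K 2)) = ⊤ := by
  have h : Subgroup.closure (uv '' {x | x < 2}) = ⊤ := by
    refine top_of_tree (matHom 2 K 2) uv (dm 2) 2 DataTwo.codes2 DataTwo.tree2 (by decide +kernel)
      (by decide +kernel) (by decide +kernel) ?_
    rw [(card_su hK (Or.inl rfl)).1]
    decide +kernel
  refine top_le_iff.1 (h.symm.le.trans (Subgroup.closure_mono ?_))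
  rintro _ ⟨l, hl, rfl⟩
  change l < 2 at hl
  interval_cases l <;> simp

/-- A code of a matrix of size three. -/
def encM (M : Matrix (Fin 3) (Fin 3) K) : ℕ :=
  (List.range 9).foldr (fun k r => (match M (Fin.ofNat 3 (k / 3)) (Fin.ofNat 3 (k % 3)) with
    | .o => 0 | .l => 1 | .w => 2 | .v => 3) + 16 * r) 0

theorem gx_top : Subgroup.closure ({gx 0, gx 2} : Set ↥(Cfsg.SU 3 K 2)) = ⊤ := by
  have hd : (DataTwo.codes3.all fun c => encM (dm 3 c) == c) = true := by decide +kernel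
  have h : Subgroup.closure ((fun l => gx (2 * l)) '' {x | x < 2}) = ⊤ := by
    refine top_of_tree (matHom 3 K 2) (fun l => gx (2 * l)) (dm 3) 2 DataTwo.codes3 DataTwo.tree3 (by decide +kernel)
      (fun a ha b hb e => ?_) (by decide +kernel) ?_
    · rw [← beq_iff_eq.1 (List.all_eq_true.1 hd a ha), ← beq_iff_eq.1 (List.all_eq_true.1 hd b hb), e]
    · rw [(card_su hK (Or.inl rfl)).2.1]
      decide +kernel
  refine top_le_iff.1 (h.symm.le.trans (Subgroup.closure_mono ?_))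
  rintro _ ⟨l, hl, rfl⟩
  change l < 2 at hl
  interval_cases l <;> simp

theorem gx_inv (i : Fin 2) : gx (2 * (i : ℕ) + 1) = (gx (2 * (i : ℕ)))⁻¹ := by
  have h : ∀ i : Fin 2, dm 3 (DataTwo.mats.getD (2 * (i : ℕ)) 0) * dm 3 (DataTwo.mats.getD (2 * (i : ℕ) + 1) 0) = 1 := by
    decide +kernel
  refine eq_inv_of_mul_eq_one_right (su_ext ?_)
  have e1 : (2 * (i : ℕ)) % 4 = 2 * i := Nat.mod_eq_of_lt (by omega)
  have e2 : (2 * (i : ℕ) + 1) % 4 = 2 * i + 1 := Nat.mod_eq_of_lt (by omega)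
  show dm 3 (DataTwo.mats.getD ((2 * (i : ℕ)) % 4) 0) * dm 3 (DataTwo.mats.getD ((2 * (i : ℕ) + 1) % 4) 0) = 1
  rw [e1, e2]
  exact h i

/-- The values of the generators. -/
def gl : List ↥(Cfsg.SU 3 K 2) := [gx 0, gx 2]

theorem letter_gl : ∀ l, l < 4 → TableCert.letter gl l = gx l := by
  intro l hl
  interval_cases l
  · rfl
  · exact (gx_inv 0).symm
  · rfl
  · exact (gx_inv 1).symm

theorem gl_rel : ∀ i : Fin 3, TableCert.wval gl (DataTwo.rels.getD i []) = 1 := by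
  intro i
  have hw : ∀ i : Fin 3, ((DataTwo.rels.getD i []).all fun l => decide (l < 4)) = true := by decide +kernel
  rw [wval_prod, List.map_congr_left fun l hl => letter_gl l (by simpa using List.all_eq_true.1 (hw i) l hl)]
  exact chk_hom (matHom 3 K 2) (fun a b e => su_ext e) gx 1 (dm 3) _ (DataTwo.relPs.getD i [])
    (by revert i; decide +kernel)

/-- The relators as free words. -/
def R3 : Finset (FreeGroup (Fin 2)) :=
  (Finset.univ : Finset (Fin 3)).image fun i : Fin 3 =>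
    TableCert.wval [FreeGroup.of 0, FreeGroup.of 1] (DataTwo.rels.getD i [])

theorem R3_card : R3.card ≤ 3 := Finset.card_image_le.trans (by simp)

theorem pres3 : Nonempty (PresentedGroup (↑R3 : Set (FreeGroup (Fin 2))) ≃* SU[3]) := by
  refine pres_of_bound R3 ![gx 0, gx 2] (fun r hr => ?_) (top_le_iff.1 (gx_top.symm.le.trans
    (Subgroup.closure_mono (by rintro _ (rfl | rfl); exacts [⟨0, rfl⟩, ⟨1, rfl⟩])))) ?_
  · obtain ⟨i, -, rfl⟩ := Finset.mem_image.1 hr
    rw [wval_map]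
    simp only [List.map_cons, List.map_nil, FreeGroup.lift_apply_of]
    exact gl_rel i
  rw [(card_su hK (Or.inl rfl)).2.1]
  let g : List (PresentedGroup (↑R3 : Set (FreeGroup (Fin 2)))) := [PresentedGroup.of 0, PresentedGroup.of 1]
  have hrel : ∀ i : Fin 3, TableCert.wval g (DataTwo.rels.getD i []) = 1 := fun i => by
    have h : PresentedGroup.mk (↑R3 : Set (FreeGroup (Fin 2)))
        (TableCert.wval [FreeGroup.of 0, FreeGroup.of 1] (DataTwo.rels.getD i [])) = 1 :=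
      PresentedGroup.one_of_mem (Finset.mem_coe.2 (Finset.mem_image_of_mem _ (Finset.mem_univ i)))
    rw [wval_map] at h
    exact h
  have h4 : (PresentedGroup.of 0 : PresentedGroup (↑R3 : Set (FreeGroup (Fin 2)))) ^ 4 = 1 := by
    have hp : ∃ i : Fin 3, DataTwo.rels.getD i [] = [0, 0, 0, 0] := by decide +kernel
    obtain ⟨i, hi⟩ := hp
    rw [← hrel i, hi]
    simp [TableCert.wval, TableCert.letter, g, pow_succ, mul_assoc]
  have hG := card_closure_le DataTwo.cert g (Subgroup.zpowers (PresentedGroup.of 0))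
    (by decide +kernel) (fun r hr => by
      have hs : ∀ r ∈ DataTwo.cert.rels, ∃ i : Fin 3, DataTwo.rels.getD i [] = r := by decide +kernel
      obtain ⟨i, hi⟩ := hs r hr
      rw [← hi]; exact hrel i) (fun l hl => by
      have hl0 : l = 0 := by revert hl; revert l; decide +kernel
      subst hl0
      exact Subgroup.mem_zpowers _) (FastCheck.check_of_fast (by decide +kernel)) (card_zpowers_le _ (by norm_num) h4)
  have htop : Subgroup.closure {x | x ∈ g} = ⊤ := by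
    refine top_le_iff.1 ((PresentedGroup.closure_range_of _).symm.le.trans (Subgroup.closure_mono ?_))
    rintro _ ⟨i, rfl⟩
    fin_cases i <;> simp [g]
  rw [htop] at hG
  exact CosetCert.CardLe.of_top ⟨hG.1, hG.2.trans (by decide +kernel)⟩

variable {n : ℕ} (hn : 4 ≤ n)

/-- The symbols of the letters. -/
def sym (x : ℕ) : ↥(Cfsg.SU 3 K 2) ⊕ ↥(alternatingGroup (Fin n)) :=
  if x < 4 then Sum.inl (gx x) else if x < 6 then Sum.inr (ga hn) else Sum.inr (gb hn)

variable {G : Type*} [Group G] (φ : ↥(Cfsg.SU 3 K 2) →* G) (ψ : alternatingGroup (Fin n) →* G)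

/-- The values of the letters. -/
def gen (x : ℕ) : G := if x < 4 then φ (gx x) else if x < 6 then ψ (ga hn) else ψ (gb hn)

theorem elim_sym : Sum.elim φ ψ ∘ sym hn = gen hn φ ψ := by
  funext x
  simp only [Function.comp_apply, sym, gen]
  split_ifs <;> rfl

theorem gb_gb : gb hn * gb hn = 1 := by
  rw [← ext4_gb, ← map_mul, show gb (le_refl 4) * gb (le_refl 4) = 1 by decide +kernel, map_one]

theorem wapp (u v : List ℕ) : wprod (gen hn φ ψ) (u ++ v) = wprod (gen hn φ ψ) u * wprod (gen hn φ ψ) v := by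
  simp [wprod, List.prod_append]

theorem wone (x : ℕ) : wprod (gen hn φ ψ) [x] = gen hn φ ψ x := by simp [wprod]

theorem seg_val (i : ℕ) (g : SU[3]) (hw : ((DataTwo.segs.getD i []).all fun l => decide (l < 4)) = true)
    (h : chk (matHom 3 K 2 ∘ gx) (dm 3) (matHom 3 K 2 g) 1 (DataTwo.segs.getD i []) (DataTwo.segPs.getD i []) = true) :
    wprod (gen hn φ ψ) (DataTwo.segs.getD i []) = φ g := by
  rw [← chk_hom (matHom 3 K 2) (fun a b e => su_ext e) gx g (dm 3) _ _ h, map_list_prod, List.map_map]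
  exact congrArg List.prod (List.map_congr_left fun x hx => if_pos (by simpa using List.all_eq_true.1 hw x hx))

theorem ea_ok : ∀ c : Fin 3, (dm 2 ([(3 * 16 + 2 * 16 ^ 2 : ℕ), 2 * 16 + 3 * 16 ^ 2, 2 + 3 * 16 ^ 3].getD c 0)).det = 1 ∧
    (dm 2 ([(3 * 16 + 2 * 16 ^ 2 : ℕ), 2 * 16 + 3 * 16 ^ 2, 2 + 3 * 16 ^ 3].getD c 0))ᵀ *
      (dm 2 ([(3 * 16 + 2 * 16 ^ 2 : ℕ), 2 * 16 + 3 * 16 ^ 2, 2 + 3 * 16 ^ 3].getD c 0)).map (fun x => x ^ 2) = 1 := by
  decide +kernel

/-- The elements of the block of two in the relators. -/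
def ea (c : Fin 3) : ↥(Cfsg.SU 2 K 2) := el hK _ (ea_ok c).1 (ea_ok c).2

/-- The relators of the table hold. -/
theorem base_ok (R : Rels hn φ ψ) (hex : ∀ w ∈ DataTwo.extra, wprod (gen hn φ ψ) w = 1) :
    ∀ w ∈ DataTwo.cert4.rels, wprod (gen hn φ ψ) w = 1 := by
  have hS : ∀ w ∈ DataTwo.cert4.rels, w ∈ [DataTwo.segs.getD 0 [], DataTwo.segs.getD 1 [], [4, 4], [6, 6],
      [0, 2, 2, 0, 4, 1, 3, 3, 1, 7, 5], [0, 2, 2, 0, 6, 1, 3, 3, 1, 5],
      [4, 0, 2, 0, 0, 3, 1, 4, 3, 1, 1, 2], [4, 0, 0, 3, 3, 4, 2, 0, 3, 0],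
      [0, 2, 0, 0, 3, 1, 6, 3, 0, 0, 2, 6, 0, 2, 1, 1, 3, 1, 7, 3, 1, 1, 2, 7]] ∨ w ∈ DataTwo.extra := by
    decide +kernel
  intro w hw
  rcases hS w hw with h | h
  swap
  · exact hex w h
  have g4 : gen hn φ ψ 4 = ψ (ga hn) := rfl
  have g5 : gen hn φ ψ 5 = ψ (ga hn) := rfl
  have g6 : gen hn φ ψ 6 = ψ (gb hn) := rfl
  have g7 : gen hn φ ψ 7 = ψ (gb hn) := rfl
  have hcp : φ (pm 3 K 2 cpA) = ψ (c3 hn) := R.cyc
  have hcp2 : φ (pm 3 K 2 (cpA ^ 2)) = ψ (c3 hn ^ 2) := R.phi_cyc 2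
  have hexch : ∀ s t : SU[2], theta s * t = 1 →
      ψ (ga hn) * φ (e01 s) * ψ (ga hn) * φ (e01 t) = 1 := fun s t hst => by
    rw [show ψ (ga hn) * φ (e01 s) * ψ (ga hn) = ψ (ga hn) * φ (e01 s) * (ψ (ga hn))⁻¹ by
      rw [← map_inv, inv_eq_of_mul_eq_one_right (SLShort.ga_sq hn)], R.exch, ← map_mul, ← map_mul, hst, map_one,
      map_one]
  have hfar : ∀ p p' q q' : SU[2], p * p' = 1 → q * q' = 1 →
      φ (e01 p) * ψ (gb hn) * φ (e01 q) * ψ (gb hn) * φ (e01 p') * ψ (gb hn) * φ (e01 q') * ψ (gb hn) = 1 := by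
    intro p p' q q' hp hq
    obtain rfl : p' = p⁻¹ := eq_inv_of_mul_eq_one_right hp
    obtain rfl : q' = q⁻¹ := eq_inv_of_mul_eq_one_right hq
    have hc := R.far p q
    have hb : (ψ (gb hn))⁻¹ = ψ (gb hn) := by rw [← map_inv, inv_eq_of_mul_eq_one_right (gb_gb hn)]
    rw [hb] at hc
    have hbb : ψ (gb hn) * ψ (gb hn) = 1 := by rw [← map_mul, gb_gb, map_one]
    have hc' : φ (e01 p) * (ψ (gb hn) * φ (e01 q) * ψ (gb hn)) =
        ψ (gb hn) * φ (e01 q) * ψ (gb hn) * φ (e01 p) := hc.eq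
    rw [map_inv, map_inv, map_inv, map_inv]
    calc φ (e01 p) * ψ (gb hn) * φ (e01 q) * ψ (gb hn) * (φ (e01 p))⁻¹ * ψ (gb hn) * (φ (e01 q))⁻¹ * ψ (gb hn)
        = φ (e01 p) * (ψ (gb hn) * φ (e01 q) * ψ (gb hn)) * (φ (e01 p))⁻¹ *
            (ψ (gb hn) * (φ (e01 q))⁻¹ * ψ (gb hn)) := by group
      _ = ψ (gb hn) * φ (e01 q) * (ψ (gb hn) * ψ (gb hn)) * (φ (e01 q))⁻¹ * ψ (gb hn) := by rw [hc']; group
      _ = 1 := by rw [hbb, mul_one, mul_inv_cancel_right, hbb]
  have e2 : wprod (gen hn φ ψ) (DataTwo.segs.getD 2 []) = φ (pm 3 K 2 cpA) :=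
    seg_val hn φ ψ 2 _ (by decide +kernel) (by decide +kernel)
  have e3 : wprod (gen hn φ ψ) (DataTwo.segs.getD 3 []) = φ (pm 3 K 2 (cpA ^ 2)) :=
    seg_val hn φ ψ 3 _ (by decide +kernel) (by decide +kernel)
  have e4 : wprod (gen hn φ ψ) (DataTwo.segs.getD 4 []) = φ (e01 (ea 0)) :=
    seg_val hn φ ψ 4 _ (by decide +kernel) (by rw [show matHom 3 K 2 (e01 (ea 0)) = _ from emb_val _ _]; decide +kernel)
  have e5 : wprod (gen hn φ ψ) (DataTwo.segs.getD 5 []) = φ (e01 (ea 1)) :=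
    seg_val hn φ ψ 5 _ (by decide +kernel) (by rw [show matHom 3 K 2 (e01 (ea 1)) = _ from emb_val _ _]; decide +kernel)
  have e6 : wprod (gen hn φ ψ) (DataTwo.segs.getD 6 []) = φ (e01 (ea 2)) :=
    seg_val hn φ ψ 6 _ (by decide +kernel) (by rw [show matHom 3 K 2 (e01 (ea 2)) = _ from emb_val _ _]; decide +kernel)
  have e7 : wprod (gen hn φ ψ) (DataTwo.segs.getD 7 []) = φ (e01 (ea 2)) :=
    seg_val hn φ ψ 7 _ (by decide +kernel) (by rw [show matHom 3 K 2 (e01 (ea 2)) = _ from emb_val _ _]; decide +kernel)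
  have e8 : wprod (gen hn φ ψ) (DataTwo.segs.getD 8 []) = φ (e01 (ea 1)) :=
    seg_val hn φ ψ 8 _ (by decide +kernel) (by rw [show matHom 3 K 2 (e01 (ea 1)) = _ from emb_val _ _]; decide +kernel)
  have e9 : wprod (gen hn φ ψ) (DataTwo.segs.getD 9 []) = φ (e01 (ea 0)) :=
    seg_val hn φ ψ 9 _ (by decide +kernel) (by rw [show matHom 3 K 2 (e01 (ea 0)) = _ from emb_val _ _]; decide +kernel)
  simp only [List.mem_cons, List.not_mem_nil, or_false] at h
  rcases h with rfl | rfl | rfl | rfl | rfl | rfl | rfl | rfl | rfl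
  · rw [seg_val hn φ ψ 0 1 (by decide +kernel) (by decide +kernel), map_one]
  · rw [seg_val hn φ ψ 1 1 (by decide +kernel) (by decide +kernel), map_one]
  · rw [show ([4, 4] : List ℕ) = [4] ++ [4] from rfl, wapp, wone, g4, ← map_mul, SLShort.ga_sq, map_one]
  · rw [show ([6, 6] : List ℕ) = [6] ++ [6] from rfl, wapp, wone, g6, ← map_mul, gb_gb, map_one]
  · rw [show ([0, 2, 2, 0, 4, 1, 3, 3, 1, 7, 5] : List ℕ) =
      DataTwo.segs.getD 2 [] ++ [4] ++ DataTwo.segs.getD 3 [] ++ [7] ++ [5] from rfl, wapp, wapp, wapp, wapp,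
      wone, wone, wone, e2, e3, g4, g5, g7, hcp, hcp2, ← map_mul, ← map_mul, ← map_mul, ← map_mul, ← ext4_ga,
      ← ext4_gb, ← ext4_c3, ← map_pow, ← map_mul, ← map_mul, ← map_mul, ← map_mul,
      show c3 (le_refl 4) * ga (le_refl 4) * c3 (le_refl 4) ^ 2 * gb (le_refl 4) * ga (le_refl 4) = 1 by decide +kernel,
      map_one, map_one]
  · rw [show ([0, 2, 2, 0, 6, 1, 3, 3, 1, 5] : List ℕ) =
      DataTwo.segs.getD 2 [] ++ [6] ++ DataTwo.segs.getD 3 [] ++ [5] from rfl, wapp, wapp, wapp,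
      wone, wone, e2, e3, g5, g6, hcp, hcp2, ← map_mul, ← map_mul, ← map_mul, ← ext4_ga,
      ← ext4_gb, ← ext4_c3, ← map_pow, ← map_mul, ← map_mul, ← map_mul,
      show c3 (le_refl 4) * gb (le_refl 4) * c3 (le_refl 4) ^ 2 * ga (le_refl 4) = 1 by decide +kernel,
      map_one, map_one]
  · rw [show ([4, 0, 2, 0, 0, 3, 1, 4, 3, 1, 1, 2] : List ℕ) =
      [4] ++ DataTwo.segs.getD 4 [] ++ [4] ++ DataTwo.segs.getD 5 [] from rfl, wapp, wapp, wapp, wone, e4, e5, g4]
    exact hexch _ _ (su_ext (by decide +kernel))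
  · rw [show ([4, 0, 0, 3, 3, 4, 2, 0, 3, 0] : List ℕ) =
      [4] ++ DataTwo.segs.getD 6 [] ++ [4] ++ DataTwo.segs.getD 7 [] from rfl, wapp, wapp, wapp, wone, e6, e7, g4]
    exact hexch _ _ (su_ext (by decide +kernel))
  · rw [show ([0, 2, 0, 0, 3, 1, 6, 3, 0, 0, 2, 6, 0, 2, 1, 1, 3, 1, 7, 3, 1, 1, 2, 7] : List ℕ) =
      DataTwo.segs.getD 4 [] ++ [6] ++ DataTwo.segs.getD 8 [] ++ [6] ++ DataTwo.segs.getD 9 [] ++ [7] ++
        DataTwo.segs.getD 5 [] ++ [7] from rfl, wapp, wapp, wapp, wapp, wapp, wapp, wapp, wone, wone, e4, e5, e8,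
      e9, g6, g7]
    exact hfar _ _ _ _ (su_ext (by decide +kernel)) (su_ext (by decide +kernel))

/-- The matrices of the letters of the block of four. -/
def mv4 (x : ℕ) : Matrix (Fin 4) (Fin 4) K :=
  if x < 4 then blkMat 4 (dm 3 (DataTwo.mats.getD (x % 4) 0))
  else if x < 6 then ((ga (le_refl 4) : Perm (Fin 4))⁻¹).permMatrix K else ((gb (le_refl 4) : Perm (Fin 4))⁻¹).permMatrix K

theorem gen4_val (x : ℕ) : matHom 4 K 2 (gen (le_refl 4) t0 (pm 4 K 2) x) = mv4 x := by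
  unfold gen mv4
  split_ifs
  · exact emb_val _ _
  · rfl
  · rfl

theorem extra_four : ∀ w ∈ DataTwo.extra, wprod (gen (le_refl 4) (t0 (F := K) (q := 2)) (pm 4 K 2)) w = 1 := by
  have h : ∀ i : Fin 2, chk mv4 (dm 4) 1 1 (DataTwo.extra.getD i []) (DataTwo.extraPs.getD i []) = true := by
    decide +kernel
  have hi : ∀ w ∈ DataTwo.extra, ∃ i : Fin 2, DataTwo.extra.getD i [] = w := by decide +kernel
  intro w hw
  obtain ⟨i, rfl⟩ := hi w hw
  have e := chk_spec _ _ _ _ _ _ (h i)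
  rw [one_mul] at e
  refine su_ext (show matHom 4 K 2 (wprod _ _) = 1 from ?_)
  rw [wprod, map_list_prod, List.map_map]
  exact (congrArg List.prod (List.map_congr_left fun x _ => gen4_val x)).trans e

/-- The extra relators hold in the group itself. -/
theorem extra_self : ∀ w ∈ DataTwo.extra,
    wprod (gen hn (emb (F := K) (q := 2) (k := 3) (n := n) 0 (by omega)) (pm n K 2)) w = 1 := by
  intro w hw
  let i4 : ↥(Cfsg.SU 4 K 2) →* ↥(Cfsg.SU n K 2) := emb 0 (show 0 + 4 ≤ n by omega)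
  have he : gen hn (emb (F := K) (q := 2) (k := 3) (n := n) 0 (by omega)) (pm n K 2) =
      i4 ∘ gen (le_refl 4) t0 (pm 4 K 2) := by
    funext x
    simp only [Function.comp_apply]
    unfold gen
    split_ifs
    · exact (emb_emb 0 _ 0 _ 0 _ rfl _).symm
    · rw [← ext4_ga hn, pm_ext4]
    · rw [← ext4_gb hn, pm_ext4]
  rw [he, wprod, ← List.map_map, ← map_list_prod]
  exact (congrArg i4 (extra_four w hw)).trans (map_one i4)

theorem letter_gen (x : ℕ) (hx : x < 8) :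
    TableCert.letter [φ (gx 0), φ (gx 2), ψ (ga hn), ψ (gb hn)] x = gen hn φ ψ x := by
  interval_cases x
  · rfl
  · exact (map_inv φ _).symm.trans (congrArg φ (gx_inv 0).symm)
  · rfl
  · exact (map_inv φ _).symm.trans (congrArg φ (gx_inv 1).symm)
  · rfl
  · exact (map_inv ψ _).symm.trans (congrArg ψ (inv_eq_of_mul_eq_one_right (SLShort.ga_sq hn)))
  · rfl
  · exact (map_inv ψ _).symm.trans (congrArg ψ (inv_eq_of_mul_eq_one_right (gb_gb hn)))

theorem wval_gen (w : List ℕ) (hw : ∀ x ∈ w, x < 8) :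
    TableCert.wval [φ (gx 0), φ (gx 2), ψ (ga hn), ψ (gb hn)] w = wprod (gen hn φ ψ) w := by
  rw [wval_prod, List.map_congr_left fun x hx => letter_gen hn φ ψ x (hw x hx)]
  rfl

/-- The homomorphism on the block of four. -/
theorem exists_f4 {φ : ↥(Cfsg.SU 3 K 2) →* G} {ψ : alternatingGroup (Fin n) →* G} (R : Rels hn φ ψ)
    (hex : ∀ w ∈ DataTwo.extra, wprod (gen hn φ ψ) w = 1) :
    ∃ f4 : ↥(Cfsg.SU 4 K 2) →* G, (∀ s, f4 (t0 s) = φ s) ∧ ∀ σ, f4 (pm 4 K 2 σ) = ψ (ext4 hn σ) := by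
  obtain ⟨C⟩ := AutPSU.exists_conj hK
  refine exists_four hn R (gen_four C hK (Or.inl rfl)) ?_
  let g : List (↥(Cfsg.SU 4 K 2) × G) := [(t0 (gx 0), φ (gx 0)), (t0 (gx 2), φ (gx 2)),
    (pm 4 K 2 (ga (le_refl 4)), ψ (ga hn)), (pm 4 K 2 (gb (le_refl 4)), ψ (gb hn))]
  let H : Subgroup (↥(Cfsg.SU 4 K 2) × G) := ((t0 (F := K) (q := 2)).prod φ).range
  have hH : Finite H ∧ Nat.card H ≤ 216 := by
    haveI : Finite H :=
      Finite.of_surjective ((t0 (F := K) (q := 2)).prod φ).rangeRestrict (MonoidHom.rangeRestrict_surjective _)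
    refine ⟨this, (Nat.card_le_card_of_surjective _ (MonoidHom.rangeRestrict_surjective
      ((t0 (F := K) (q := 2)).prod φ))).trans ?_⟩
    rw [(card_su hK (Or.inl rfl)).2.1]
    norm_num
  have hlt : ∀ w ∈ DataTwo.cert4.rels, ∀ x ∈ w, x < 8 := by decide +kernel
  have hc := card_closure_le DataTwo.cert4 g H
    (show 2 * 4 ≤ DataTwo.cert4.tab.length by decide +kernel) (fun w hw => by
      refine Prod.ext ?_ ?_
      · show MonoidHom.fst _ _ (TableCert.wval g w) = 1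
        rw [wval_map]
        exact (wval_gen (le_refl 4) _ _ w (hlt w hw)).trans (base_ok (le_refl 4) (t0 (F := K) (q := 2)) (pm 4 K 2)
          (rels_self (le_refl 4)) extra_four w hw)
      · show MonoidHom.snd _ _ (TableCert.wval g w) = 1
        rw [wval_map]
        exact (wval_gen hn φ ψ w (hlt w hw)).trans (base_ok hn φ ψ R hex w hw))
    (fun l hl => by
      have hl0 : l = 0 ∨ l = 2 := by revert hl; revert l; decide +kernel
      rcases hl0 with rfl | rfl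
      · exact ⟨gx 0, rfl⟩
      · exact ⟨gx 2, rfl⟩) (FastCheck.check_of_fast (by decide +kernel)) hH
  have hle : Graph hn φ ψ ≤ Subgroup.closure {x | x ∈ g} := by
    refine sup_le ?_ ((Subgroup.closure_le _).2 ?_)
    · rw [MonoidHom.range_eq_map, ← gx_top, MonoidHom.map_closure, Subgroup.closure_le]
      rintro _ ⟨_, rfl | rfl, rfl⟩
      · exact Subgroup.subset_closure (by simp [g])
      · exact Subgroup.subset_closure (by simp [g])
    · rintro _ rfl
      exact Subgroup.subset_closure (by simp [g])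
  have hc' : CosetCert.CardLe (Subgroup.closure {x | x ∈ g}) (DataTwo.cert4.n * 216) := hc
  refine (hc'.mono hle).imp_right fun h => h.trans ?_
  rw [(card_su hK (Or.inl rfl)).2.2]
  decide +kernel

end Cfsg.Agent.SUGlue.Q2
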