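import Cfsg.Agent.Lib.SU3Pres.Main
import Cfsg.Agent.Lib.BoundedPres.Basic
import Cfsg.Agent.Lib.PSU3Index.Orbit

/-!
A bounded presentation of `SU₃(3)`.
-/

set_option autoImplicit false
set_option linter.unusedSectionVars false
set_option linter.unusedSimpArgs false
set_option linter.style.haveILetI false
set_option linter.style.show false

namespace Cfsg.Agent.SUGlue

open Hermitian PSU3Index SL2Pres
open Cfsg.Agent.SU3Pres
open scoped commutatorElement

section count

variable {P : Type*} [Group P] {X H : P}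

/-- A group with the relations of the Borel subgroup of `SU₃(3)` has at most 216 elements. -/
theorem borel_three_small (hX : X ^ 3 = 1) (hzX : Commute ⁅X, H * X * H⁻¹⁆ X)
    (hzY : Commute ⁅X, H * X * H⁻¹⁆ (H * X * H⁻¹)) (hH : H ^ 8 = 1)
    (hY : H * (H * X * H⁻¹) * H⁻¹ ∈ Subgroup.closure ({X, H * X * H⁻¹} : Set P)) :
    (Subgroup.closure ({X, H} : Set P) : Set P).Finite ∧ Nat.card (Subgroup.closure ({X, H} : Set P)) ≤ 216 := by
  classical
  obtain ⟨Y, hYd⟩ : ∃ Y, Y = H * X * H⁻¹ := ⟨_, rfl⟩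
  rw [← hYd] at hzX hzY hY
  set z := ⁅X, Y⁆ with hz
  have hY3 : Y ^ 3 = 1 := by rw [hYd, conj_pow, hX, mul_one, mul_inv_cancel]
  have hXY : ∀ k : ℕ, X ^ k * Y * (X ^ k)⁻¹ = z ^ k * Y := by
    intro k
    induction k with
    | zero => simp
    | succ k ih =>
      have e : X * Y * X⁻¹ = z * Y := by rw [hz, commutatorElement_def]; group
      calc X ^ (k + 1) * Y * (X ^ (k + 1))⁻¹ = X * (X ^ k * Y * (X ^ k)⁻¹) * X⁻¹ := by rw [pow_succ']; group
        _ = (X * z ^ k * X⁻¹) * (X * Y * X⁻¹) := by rw [ih]; group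
        _ = z ^ k * (z * Y) := by rw [← (hzX.pow_left k).eq, mul_inv_cancel_right, e]
        _ = z ^ (k + 1) * Y := by rw [pow_succ, mul_assoc]
  have hz3 : z ^ 3 = 1 := by simpa [hX] using hXY 3
  have hzi : z⁻¹ = z ^ 2 := inv_eq_of_mul_eq_one_right (by rw [← pow_succ', hz3])
  have hswap : ∀ b : ℕ, Y ^ b * X = X * Y ^ b * z ^ (2 * b) := by
    intro b
    have e : X⁻¹ * Y * X = z ^ 2 * Y := by
      have h1 : X * Y * X⁻¹ = z * Y := by simpa using hXY 1
      rw [← hzi, eq_inv_mul_iff_mul_eq]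
      calc z * (X⁻¹ * Y * X) = X⁻¹ * (z * Y) * X := by
            rw [← mul_assoc, ← mul_assoc, hzX.inv_right.eq]; group
        _ = Y := by rw [← h1]; group
    have e2 : X⁻¹ * Y ^ b * X = Y ^ b * z ^ (2 * b) := by
      have h3 := conj_pow (i := b) (a := X⁻¹) (b := Y)
      rw [inv_inv, e, (hzY.pow_left 2).mul_pow, ← pow_mul] at h3
      rw [← h3, ((hzY.pow_left (2 * b)).pow_right b).eq]
    rw [mul_assoc, ← e2]; group
  let F : ℕ → ℕ → ℕ → P := fun a b c => X ^ a * Y ^ b * z ^ c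
  let T : Set P := Set.range fun t : Fin 3 × Fin 3 × Fin 3 => F t.1 t.2.1 t.2.2
  have hF : ∀ a b c, F a b c ∈ T := fun a b c => by
    refine ⟨(⟨a % 3, Nat.mod_lt _ (by norm_num)⟩, ⟨b % 3, Nat.mod_lt _ (by norm_num)⟩,
      ⟨c % 3, Nat.mod_lt _ (by norm_num)⟩), ?_⟩
    simp only [F, ← pow_eq_pow_mod _ hX, ← pow_eq_pow_mod _ hY3, ← pow_eq_pow_mod _ hz3]
  have tX : ∀ u ∈ T, u * X ∈ T := by
    rintro _ ⟨⟨a, b, c⟩, rfl⟩
    have : F a b c * X = F ((a : ℕ) + 1) b (2 * b + c) := by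
      simp only [F]
      rw [mul_assoc, (hzX.pow_left _).eq, ← mul_assoc, mul_assoc (X ^ (a : ℕ)), hswap, pow_succ, pow_add]
      group
    show F a b c * X ∈ T
    rw [this]; exact hF _ _ _
  have tY : ∀ u ∈ T, u * Y ∈ T := by
    rintro _ ⟨⟨a, b, c⟩, rfl⟩
    have : F a b c * Y = F a ((b : ℕ) + 1) c := by
      simp only [F]
      rw [mul_assoc, (hzY.pow_left _).eq, ← mul_assoc, mul_assoc (X ^ (a : ℕ)), ← pow_succ]
    show F a b c * Y ∈ T
    rw [this]; exact hF _ _ _
  set N := Subgroup.closure ({X, Y} : Set P) with hN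
  have tN : ∀ n ∈ N, ∀ u ∈ T, u * n ∈ T := by
    intro n hn
    induction hn using Subgroup.closure_induction_left with
    | one => intro u hu; rwa [mul_one]
    | mul_left y hy g hg ih =>
      intro u hu
      rw [← mul_assoc]
      rcases hy with rfl | rfl
      exacts [ih _ (tX u hu), ih _ (tY u hu)]
    | inv_mul_cancel y hy g hg ih =>
      intro u hu
      rw [← mul_assoc]
      rcases hy with rfl | rfl
      · rw [inv_eq_of_mul_eq_one_right (show y * y ^ 2 = 1 by rw [← pow_succ', hX]), pow_two, ← mul_assoc]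
        exact ih _ (tX _ (tX u hu))
      · rw [inv_eq_of_mul_eq_one_right (show y * y ^ 2 = 1 by rw [← pow_succ', hY3]), pow_two, ← mul_assoc]
        exact ih _ (tY _ (tY u hu))
  have hconj : ∀ i : ℕ, ∀ n ∈ N, H ^ i * n * (H ^ i)⁻¹ ∈ N := by
    intro i
    induction i with
    | zero => intro n hn; simpa using hn
    | succ i ih =>
      intro n hn
      have h1 : H * n * H⁻¹ ∈ N := by
        have : N ≤ N.comap (MulAut.conj H).toMonoidHom := by
          rw [hN, Subgroup.closure_le]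
          rintro _ (rfl | rfl)
          · exact Subgroup.subset_closure (Or.inr (by rw [hYd]; rfl))
          · exact hY
        exact this hn
      rw [show H ^ (i + 1) * n * (H ^ (i + 1))⁻¹ = H ^ i * (H * n * H⁻¹) * (H ^ i)⁻¹ by rw [pow_succ]; group]
      exact ih _ h1
  let M : Set P := Set.range fun t : (Fin 3 × Fin 3 × Fin 3) × Fin 8 => F t.1.1 t.1.2.1 t.1.2.2 * H ^ (t.2 : ℕ)
  have hM : ∀ u ∈ T, ∀ i : ℕ, u * H ^ i ∈ M := by
    rintro _ ⟨t, rfl⟩ i
    exact ⟨(t, ⟨i % 8, Nat.mod_lt _ (by norm_num)⟩), by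
      show _ * H ^ (i % 8) = _
      rw [← pow_eq_pow_mod _ hH]⟩
  have mX : ∀ u ∈ M, u * X ∈ M := by
    rintro _ ⟨⟨t, i⟩, rfl⟩
    show F t.1 t.2.1 t.2.2 * H ^ (i : ℕ) * X ∈ M
    rw [show F t.1 t.2.1 t.2.2 * H ^ (i : ℕ) * X =
      F t.1 t.2.1 t.2.2 * (H ^ (i : ℕ) * X * (H ^ (i : ℕ))⁻¹) * H ^ (i : ℕ) by group]
    exact hM _ (tN _ (hconj _ X (Subgroup.subset_closure (Or.inl rfl))) _ ⟨t, rfl⟩) _
  have mH : ∀ u ∈ M, ∀ k : ℕ, u * H ^ k ∈ M := by
    rintro _ ⟨⟨t, i⟩, rfl⟩ k
    show F t.1 t.2.1 t.2.2 * H ^ (i : ℕ) * H ^ k ∈ M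
    rw [mul_assoc, ← pow_add]
    exact hM _ ⟨t, rfl⟩ _
  have hsub : (Subgroup.closure ({X, H} : Set P) : Set P) ⊆ M := by
    intro g hg
    have key : ∀ u ∈ M, u * g ∈ M := by
      induction hg using Subgroup.closure_induction_left with
      | one => intro u hu; rwa [mul_one]
      | mul_left y hy g hg ih =>
        intro u hu
        rw [← mul_assoc]
        rcases hy with rfl | rfl
        exacts [ih _ (mX u hu), ih _ (by simpa using mH u hu 1)]
      | inv_mul_cancel y hy g hg ih =>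
        intro u hu
        rw [← mul_assoc]
        rcases hy with rfl | rfl
        · rw [inv_eq_of_mul_eq_one_right (show y * y ^ 2 = 1 by rw [← pow_succ', hX]), pow_two, ← mul_assoc]
          exact ih _ (mX _ (mX u hu))
        · rw [inv_eq_of_mul_eq_one_right (show y * y ^ 7 = 1 by rw [← pow_succ', hH])]
          exact ih _ (mH u hu 7)
    have h1 : (1 : P) ∈ M := ⟨((0, 0, 0), 0), by simp [F]⟩
    simpa using key 1 h1
  have hMf : M.Finite := Set.finite_range _
  refine ⟨hMf.subset hsub, ?_⟩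
  calc Nat.card (Subgroup.closure ({X, H} : Set P))
      = Set.ncard (Subgroup.closure ({X, H} : Set P) : Set P) := (Nat.card_coe_set_eq _)
    _ ≤ Set.ncard M := Set.ncard_le_ncard hsub hMf
    _ = Nat.card M := (Nat.card_coe_set_eq _).symm
    _ ≤ Nat.card ((Fin 3 × Fin 3 × Fin 3) × Fin 8) := Finite.card_range_le _
    _ = 216 := by simp [Nat.card_eq_fintype_card]

end count

variable {F : Type*} [Field F] [Fintype F] {q : ℕ} (C : Ctx F q) {j : Fˣ}
include C

theorem card_nine (hq : q = 3) : Fintype.card F = 9 := by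
  rw [← Nat.card_eq_fintype_card, card_F C, hq]; rfl

theorem three_zero (hq : q = 3) : (3 : F) = 0 := by
  have h : (Fintype.card F : F) = 0 := FiniteField.cast_card_eq_zero F
  rw [card_nine C hq] at h
  exact eq_zero_of_pow_eq_zero (n := 2) (by rw [← h]; norm_num)

theorem mu_five (hq : q = 3) {l : F} (hl : l ≠ 0) : mu C l = l ^ 5 := by
  rw [mu_pow C hl, hq]

theorem pow_eight (hq : q = 3) {a : F} (ha : a ≠ 0) : a ^ 8 = 1 := by
  simpa [card_nine C hq] using FiniteField.pow_card_sub_one_eq_one a ha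

variable (hj : ∀ t, t ∈ Subgroup.zpowers j)
include hj

theorem d0_ne_three (hq : q = 3) : d0 C j ≠ 0 := by
  intro h
  have hj0 : (j : F) ≠ 0 := j.ne_zero
  have h1 : ((j : F) ^ 5) ^ 3 = (j : F) ^ 5 := by
    have h2 : C.σ (mu C (j : F)) = mu C (j : F) := sub_eq_zero.1 h
    rwa [mu_five C hq hj0, C.hσ, hq] at h2
  have h10 : j ^ 10 = 1 := Units.ext (mul_left_cancel₀ (pow_ne_zero 5 hj0) (by
    rw [Units.val_pow_eq_pow_val, Units.val_one, mul_one, ← pow_add]
    exact (pow_mul (j : F) 5 3).trans h1))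
  have h2 := orderOf_dvd_of_pow_eq_one h10
  rw [ord_j C hj, hq] at h2
  norm_num at h2

theorem rad_eq_three (hq : q = 3) :
    rad C = Subgroup.closure ({x0 C, dH C j * x0 C * (dH C j)⁻¹} : Set ↥(Cfsg.SU 3 F q)) := by
  have hx : x0 C ∈ rad C := x0_mem C
  have hy : dH C j * x0 C * (dH C j)⁻¹ ∈ rad C := rad_conj C (dH_mem C j) hx
  set R := Subgroup.closure ({x0 C, dH C j * x0 C * (dH C j)⁻¹} : Set ↥(Cfsg.SU 3 F q)) with hR
  have hle : R ≤ rad C := (Subgroup.closure_le _).2 (by rintro _ (rfl | rfl) <;> assumption)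
  refine (Subgroup.eq_of_le_of_card_ge hle ?_).symm
  have hq3 : q ^ 3 = 3 ^ 3 := congrArg (· ^ 3) hq
  have hd : Nat.card R ∣ 3 ^ 3 := by
    have := Subgroup.card_dvd_of_le hle
    rwa [card_rad, hq3] at this
  obtain ⟨i, hi, hc⟩ := (Nat.dvd_prime_pow Nat.prime_three).1 hd
  rw [card_rad, hq3, hc]
  by_contra hlt
  have hi2 : i ≤ 2 := by
    by_contra h
    have : i = 3 := by omega
    subst this; exact hlt le_rfl
  have hcomm : ∀ a b : R, a * b = b * a := by
    interval_cases i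
    · intro a b
      haveI := (Nat.card_eq_one_iff_unique.1 (hc.trans (pow_zero 3))).1
      exact Subsingleton.elim _ _
    · haveI : IsCyclic R := isCyclic_of_prime_card (p := 3) (hp := ⟨Nat.prime_three⟩) (by simpa using hc)
      letI := IsCyclic.commGroup (α := R)
      exact mul_comm
    · haveI : Fact (Nat.Prime 3) := ⟨Nat.prime_three⟩
      exact (IsPGroup.isMulCommutative_of_card_eq_prime_sq (p := 3) hc).is_comm.comm
  have h1 := hcomm ⟨_, Subgroup.subset_closure (Or.inl rfl)⟩ ⟨_, Subgroup.subset_closure (Or.inr rfl)⟩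
  have hz : z0 C j = 1 := by
    rw [← z0_comm, commutatorElement_eq_one_iff_mul_comm]
    exact congrArg Subtype.val h1
  have := congrArg (fun g => mat C g 0 2) hz
  simp [z0, mat_uEl, mat_one, Cfsg.Agent.SU3Root.uu] at this
  exact d0_ne_three C hj hq this

theorem borel_eq_three (hq : q = 3) :
    borel C = Subgroup.closure ({x0 C, dH C j} : Set ↥(Cfsg.SU 3 F q)) := by
  set S := Subgroup.closure ({x0 C, dH C j} : Set ↥(Cfsg.SU 3 F q)) with hS
  have hx : x0 C ∈ S := Subgroup.subset_closure (Or.inl rfl)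
  have hh : dH C j ∈ S := Subgroup.subset_closure (Or.inr rfl)
  refine le_antisymm (fun g hg => ?_) ((Subgroup.closure_le _).2 (by
    rintro _ (rfl | rfl)
    exacts [(x0_mem C).1, dH_mem C j]))
  obtain ⟨a, b, l, hl, h, e, -⟩ := borel_form C hg
  rw [e, dEl_eq]
  refine mul_mem ?_ ?_
  · have hr : rad C ≤ S := by
      rw [rad_eq_three C hj hq, Subgroup.closure_le]
      rintro _ (rfl | rfl)
      exacts [hx, mul_mem (mul_mem hh hx) (inv_mem hh)]
    exact hr (uEl_mem_rad C h)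
  · obtain ⟨k, hk⟩ := hj (Units.mk0 l hl)
    rw [← hk, map_zpow]
    exact zpow_mem hh k

theorem x0_cube (hq : q = 3) : x0 C ^ 3 = 1 := by
  have h3 := three_zero C hq
  have key : ∀ (b : F) (h : b + C.σ b + 1 * C.σ (1 : F) = 0), uEl C 1 b h ^ 3 = 1 := fun b h => by
    rw [pow_succ, pow_two, uEl_mul, uEl_mul, ← uEl_one C]
    refine uEl_ext C _ _ (by linear_combination h3) ?_
    simp only [map_add, map_one]
    linear_combination (b - 1) * h3
  exact key _ _

set_option maxHeartbeats 800000 in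
theorem exists_pres_three (hq : q = 3) :
    ∃ rels : Finset (FreeGroup (Fin 3)), rels.card ≤ 30 ∧
      Nonempty (PresentedGroup (↑rels : Set (FreeGroup (Fin 3))) ≃* ↥(Cfsg.SU 3 F q)) := by
  classical
  have hB := borel_eq_three C hj hq
  let gY : FreeGroup (Fin 3) := gH * gX * gH⁻¹
  have eY : ev C j gY = dH C j * x0 C * (dH C j)⁻¹ := by simp [gY, ev_gX, ev_gH]
  have hpre : ∀ b : borel C, ∃ w ∈ Subgroup.closure ({gX, gH} : Set (FreeGroup (Fin 3))), ev C j w = b := fun b =>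
    exists_pre (ev C j) _ (by rw [Set.image_pair, ev_gX, ev_gH, ← hB]; exact b.2)
  choose pre hpmem hpev using hpre
  obtain ⟨wY, hwYm, hwY⟩ : ∃ w ∈ Subgroup.closure ({gX, gY} : Set (FreeGroup (Fin 3))),
      ev C j w = ev C j (gH * gY * gH⁻¹) := exists_pre (ev C j) _ (by
    rw [Set.image_pair, eY, ev_gX, ← rad_eq_three C hj hq, map_mul, map_mul, map_inv, eY, ev_gH]
    exact rad_conj C (dH_mem C j) (rad_conj C (dH_mem C j) (x0_mem C)))
  have hb1 : ∀ {b : F}, b + C.σ b + 1 * C.σ (1 : F) = 0 → b ≠ 0 := fun h => SU3Pres.b_ne C h one_ne_zero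
  let ex : ∀ {a b : F} (h : b + C.σ b + a * C.σ a = 0) (_ : b ≠ 0), FreeGroup (Fin 3) := fun {a b} h hb =>
    gW * pre ⟨uEl C a b h, uEl_mem C h⟩ * gW * (pre (leftPart C h hb) * gW * pre (rightPart C h hb))⁻¹
  have hex : ∀ {a b : F} (h : b + C.σ b + a * C.σ a = 0) (hb : b ≠ 0), ev C j (ex h hb) = 1 := fun h hb => by
    simp only [ex, map_mul, map_inv, hpev, ev_gW]
    rw [mul_inv_eq_one, w_uEl_w C h hb]
    rfl
  let X1 : Finset (FreeGroup (Fin 3)) :=
    (Finset.univ : Finset {b : F // b + C.σ b + 1 * C.σ (1 : F) = 0}).image fun b => ex (a := 1) (b := b.1) b.2 (hb1 b.2)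
  let X0 : Finset (FreeGroup (Fin 3)) :=
    (Finset.univ : Finset {b : F // b + C.σ b + 0 * C.σ (0 : F) = 0 ∧ b ≠ 0}).image fun b =>
      ex (a := 0) (b := b.1) b.2.1 b.2.2
  let L : List (FreeGroup (Fin 3)) := [gX ^ 3, ⁅gZ, gX⁆, ⁅gZ, gY⁆, gH ^ 8, gH * gY * gH⁻¹ * wY⁻¹,
    gW * gW, gW * gH * gW * gH ^ q]
  let rels : Finset (FreeGroup (Fin 3)) := L.toFinset ∪ X1 ∪ X0
  have hcard : ∀ (P : F → Prop) [DecidablePred P], Fintype.card {b : F // P b} ≤ 9 := fun P _ =>
    (Fintype.card_subtype_le P).trans (card_nine C hq).le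
  have hev : ∀ r ∈ rels, ev C j r = 1 := by
    intro r hr
    simp only [rels, X1, X0, L, Finset.mem_union, List.mem_toFinset, List.mem_cons, List.not_mem_nil, or_false,
      Finset.mem_image] at hr
    rcases hr with ((rfl | rfl | rfl | rfl | rfl | rfl | rfl) | ⟨b, -, rfl⟩) | ⟨b, -, rfl⟩
    · rw [map_pow, ev_gX, x0_cube C hj hq]
    · rw [map_commutatorElement, ev_gZ, ev_gX, z0, x0, uEl_comm, ← uEl_one C]
      exact uEl_ext C _ _ rfl (by simp)
    · rw [map_commutatorElement, ev_gZ, eY, z0, x0, dH_conj, uEl_comm, ← uEl_one C]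
      exact uEl_ext C _ _ rfl (by simp)
    · rw [map_pow, ev_gH, ← map_pow]
      rw [show j ^ 8 = 1 from Units.ext (by rw [Units.val_pow_eq_pow_val, pow_eight C hq j.ne_zero, Units.val_one]),
        map_one]
    · rw [map_mul _ _ wY⁻¹, map_inv, hwY, mul_inv_cancel]
    · rw [map_mul, ev_gW, wEl_sq C]
    · rw [map_mul, map_mul, map_mul, map_pow, ev_gW, ev_gH, w_dH_w, ← map_pow, ← map_mul]
      rw [show Units.mk0 (C.σ (j : F))⁻¹ (inv_ne_zero ((map_ne_zero C.σ).2 j.ne_zero)) = (j ^ q)⁻¹ from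
        Units.ext (by rw [Units.val_mk0, Units.val_inv_eq_inv_val, Units.val_pow_eq_pow_val, C.hσ]),
        inv_mul_cancel, map_one]
    · exact hex _ _
    · exact hex _ _
  refine ⟨rels, ?_, ?_⟩
  · have h1 : X1.card ≤ 9 := Finset.card_image_le.trans (Finset.card_univ.le.trans (hcard _))
    have h0 : X0.card ≤ 9 := Finset.card_image_le.trans (Finset.card_univ.le.trans (hcard _))
    have hL : L.toFinset.card ≤ 7 := (List.toFinset_card_le L).trans le_rfl
    have := Finset.card_union_le (L.toFinset ∪ X1) X0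
    have := Finset.card_union_le L.toFinset X1
    show (L.toFinset ∪ X1 ∪ X0).card ≤ 30
    omega
  let ψ : FreeGroup (Fin 3) →* PresentedGroup (rels : Set (FreeGroup (Fin 3))) := PresentedGroup.mk _
  let π : PresentedGroup (rels : Set (FreeGroup (Fin 3))) →* ↥(Cfsg.SU 3 F q) :=
    PresentedGroup.toGroup (f := ![x0 C, dH C j, wEl C]) fun r hr => hev r hr
  have hπ : ∀ g, π (ψ g) = ev C j g := fun g => rfl
  have hψ : ∀ r ∈ rels, ψ r = 1 := fun r hr =>
    (QuotientGroup.eq_one_iff r).2 (Subgroup.subset_normalClosure (Finset.mem_coe.2 hr))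
  have hψL : ∀ r ∈ L, ψ r = 1 := fun r hr => hψ r (by simp [rels, List.mem_toFinset.2 hr])
  set S := Subgroup.closure ({ψ gX, ψ gH} : Set (PresentedGroup (rels : Set (FreeGroup (Fin 3))))) with hS
  have hmap : S.map π = borel C := by
    rw [hS, MonoidHom.map_closure, Set.image_pair, hπ, hπ, ev_gX, ev_gH, hB]
  obtain ⟨hfin, hle⟩ := borel_three_small (X := ψ gX) (H := ψ gH)
    (by rw [← map_pow]; exact hψL _ (by simp [L]))
    (commutatorElement_eq_one_iff_mul_comm.1 (by
      rw [← map_inv, ← map_mul, ← map_mul, ← map_commutatorElement, ← map_commutatorElement]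
      exact hψL ⁅gZ, gX⁆ (by simp [L])))
    (commutatorElement_eq_one_iff_mul_comm.1 (by
      rw [← map_inv, ← map_mul, ← map_mul, ← map_commutatorElement, ← map_commutatorElement]
      exact hψL ⁅gZ, gY⁆ (by simp [L])))
    (by rw [← map_pow]; exact hψL _ (by simp [L]))
    (by
      have h1 := hψL (gH * gY * gH⁻¹ * wY⁻¹) (by simp [L])
      rw [map_mul _ _ wY⁻¹, map_inv, mul_inv_eq_one] at h1
      have h2 := map_mem ψ hwYm
      rw [Set.image_pair, ← h1] at h2
      simpa [gY] using h2)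
  let πS : ↥S →* ↥(borel C) :=
    (π.comp S.subtype).codRestrict (borel C) fun s => hmap.le (Subgroup.mem_map_of_mem π s.2)
  have hsur : Function.Surjective πS := fun b => by
    obtain ⟨s, hs, hs'⟩ : (b : ↥(Cfsg.SU 3 F q)) ∈ S.map π := hmap.ge b.2
    exact ⟨⟨s, hs⟩, Subtype.ext hs'⟩
  haveI : Finite ↥S := hfin.to_subtype
  have hcb : Nat.card ↥(borel C) = 216 := by rw [card_borel, hq]; rfl
  have hbij : Function.Bijective πS := (Nat.bijective_iff_surjective_and_card _).2
    ⟨hsur, le_antisymm (by rw [hcb]; exact hle) (Nat.card_le_card_of_surjective _ hsur)⟩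
  let E := MulEquiv.ofBijective _ hbij
  let ι : borel C →* PresentedGroup (rels : Set (FreeGroup (Fin 3))) := S.subtype.comp E.symm.toMonoidHom
  have hsec : ∀ b, π (ι b) = (b : ↥(Cfsg.SU 3 F q)) := fun b => congrArg Subtype.val (E.apply_symm_apply b)
  have huniq : ∀ (b : borel C) u, u ∈ S → π u = b → ι b = u := fun b u hu hub => by
    have : E.symm b = ⟨u, hu⟩ := hbij.1 ((E.apply_symm_apply b).trans (Subtype.ext hub.symm))
    exact congrArg Subtype.val this
  have hpS : ∀ b, ψ (pre b) ∈ S := fun b => by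
    have := map_mem ψ (hpmem b)
    rwa [Set.image_pair] at this
  have hιp : ∀ b, ι b = ψ (pre b) := fun b => huniq b _ (hpS b) (by rw [hπ, hpev])
  have K : Cover C j π ι (ψ gW) := by
    refine ⟨hsec, by rw [hπ, ev_gW], by rw [← map_mul]; exact hψL _ (by simp [L]), ?_⟩
    rw [huniq ⟨dH C j, dH_mem C j⟩ (ψ gH) (Subgroup.subset_closure (by simp)) (by rw [hπ, ev_gH]),
      huniq ⟨dH C (j ^ q)⁻¹, dH_mem C _⟩ ((ψ gH) ^ q)⁻¹ (inv_mem (pow_mem (Subgroup.subset_closure (by simp)) q))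
        (by simp [hπ, ev_gH])]
    refine eq_inv_of_mul_eq_one_left ?_
    rw [← map_pow, ← map_mul, ← map_mul, ← map_mul]
    exact hψL _ (by simp [L])
  have hexact : ∀ {a b : F} (h : b + C.σ b + a * C.σ a = 0) (hb : b ≠ 0), ψ (ex h hb) = 1 → K.Exact h hb := by
    intro a b h hb hr
    show _ = _
    simp only [ex, map_mul, map_inv, mul_inv_eq_one] at hr
    simpa only [hιp] using hr
  have hgen : Subgroup.closure (Set.range ι ∪ {ψ gW}) = ⊤ := by
    rw [eq_top_iff, ← PresentedGroup.closure_range_of, Subgroup.closure_le]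
    rintro _ ⟨i, rfl⟩
    have hS' : ∀ u ∈ S, u ∈ Subgroup.closure (Set.range ι ∪ {ψ gW}) := fun u hu => by
      refine Subgroup.subset_closure (Or.inl ⟨⟨π u, hmap.le (Subgroup.mem_map_of_mem π hu)⟩, ?_⟩)
      exact huniq _ u hu rfl
    fin_cases i
    · exact hS' (ψ gX) (Subgroup.subset_closure (by simp))
    · exact hS' (ψ gH) (Subgroup.subset_closure (by simp))
    · exact Subgroup.subset_closure (Or.inr rfl)
  have hSp : ∀ {a b : F} (h : b + C.σ b + a * C.σ a = 0), (a ≠ 0 ∨ b ≠ 0) → K.Sp h := by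
    intro a b h hne
    by_cases ha : a = 0
    · subst ha
      have hb : b ≠ 0 := hne.resolve_left fun h => h rfl
      refine K.sp_of_exact hj (hexact h hb (hψ _ ?_))
      simp only [rels, X0, Finset.mem_union, Finset.mem_image]
      exact Or.inr ⟨⟨b, h, hb⟩, Finset.mem_univ _, rfl⟩
    · obtain ⟨l, hl⟩ : ∃ l : Fˣ, (l : F) = a ^ 5 := ⟨Units.mk0 _ (pow_ne_zero 5 ha), rfl⟩
      have hm : mu C (l : F) = a := by
        rw [mu_five C hq l.ne_zero, hl, ← pow_mul,
          show a ^ (5 * 5) = (a ^ 8) ^ 3 * a by ring, pow_eight C hq ha, one_pow, one_mul]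
      have hn : nu C (l : F) = a * C.σ a := by rw [← norm_mu C l.ne_zero, hm]
      have hnz : nu C (l : F) ≠ 0 := by rw [hn]; exact mul_ne_zero ha ((map_ne_zero C.σ).2 ha)
      have h' : b / nu C (l : F) + C.σ (b / nu C (l : F)) + 1 * C.σ (1 : F) = 0 := by
        rw [map_div₀, nu_fixed, map_one, mul_one, ← add_div, div_add_one hnz, div_eq_zero_iff, hn]
        exact Or.inl h
      have hs : K.Sp h' := K.sp_of_exact hj (hexact h' (hb1 h') (hψ _ (by
        simp only [rels, X1, Finset.mem_union, Finset.mem_image]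
        exact Or.inl (Or.inr ⟨⟨_, h'⟩, Finset.mem_univ _, rfl⟩))))
      exact K.sp_congr hj (by rw [hm, mul_one]) (mul_div_cancel₀ _ hnz) (K.sp_scale hj hs l)
  have hbp := K.bijective_of_gen hj hgen hSp
  exact ⟨MulEquiv.ofBijective π hbp⟩

end Cfsg.Agent.SUGlue
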