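import Cfsg.Agent.Lib.SUGlue.Main
import Cfsg.Agent.Lib.SUGlue.Three
import Cfsg.Agent.Lib.BoundedPres.Basic
import Cfsg.Agent.Lib.Classical.TwoGenUnit.Std

/-!
Presentations of `PSUₙ(q)` on two generators.
-/

set_option autoImplicit false
set_option linter.unusedSectionVars false
set_option linter.style.haveILetI false

namespace Cfsg.Agent.SUGlue

open Cfsg.Agent.AutPSU (exists_conj)
open Cfsg.Agent.BoundedPres (PresB of_presentation)

variable {F : Type*} [Field F] [Fintype F] {q : ℕ}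

theorem q_ge_two (hF : Fintype.card F = q ^ 2) : 2 ≤ q := by
  have := Fintype.one_lt_card (α := F)
  by_contra h
  interval_cases q <;> simp_all

/-- A bounded presentation of `PSUₙ(q)` gives one on two generators. -/
theorem two_of_psu {n r : ℕ} (hF : Fintype.card F = q ^ 2) (hn : 3 ≤ n) (h32 : n = 3 → q ≠ 2)
    (h : PresB (Cfsg.PSU n F q) r) (hr : r ≤ 78) :
    ∃ rels : Finset (FreeGroup (Fin 2)), rels.card ≤ 80 ∧
      Nonempty (PresentedGroup (↑rels : Set (FreeGroup (Fin 2))) ≃* Cfsg.PSU n F q) := by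
  obtain ⟨a, b, hab⟩ := TwoGenUnit.psu_two hF n hn h32
  obtain ⟨S, hS, he⟩ := h.two a b hab
  exact ⟨S, hS.trans (by omega), he⟩

/-- A bounded presentation of `SUₙ(q)` gives one of `PSUₙ(q)`. -/
theorem psu_of_su {n r : ℕ} (hF : Fintype.card F = q ^ 2) (hn : 2 ≤ n)
    (h : PresB ↥(Cfsg.SU n F q) r) : PresB (Cfsg.PSU n F q) (r + 1) := by
  obtain ⟨C⟩ := exists_conj hF
  obtain ⟨z, hz, hgen⟩ := exists_center_gen hF C (n := n) hn
  exact h.quotient _ z hz hgen

/-- `SU₃(q)` has a bounded presentation. -/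
theorem su3_presB (hF : Fintype.card F = q ^ 2) (h4 : 4 ≤ q) : PresB ↥(Cfsg.SU 3 F q) 23 := by
  obtain ⟨C⟩ := PSU3Index.exists_ctx hF
  obtain ⟨j, hj⟩ := IsCyclic.exists_generator (α := Fˣ)
  obtain ⟨R3, hR3, hev, hsurj, hker⟩ := SU3Pres.exists_pres C h4 hj
  obtain ⟨e⟩ := SU3Pres.pres_iso (SU3Pres.ev C j) hsurj hev hker
  exact of_presentation R3 (hR3.trans (by split_ifs <;> omega)) e

/-- Two generators for `q ≥ 4`. -/
theorem two_gen_ge4 {n : ℕ} (hF : Fintype.card F = q ^ 2) (hq : 4 ≤ q) (hn : 3 ≤ n) :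
    ∃ rels : Finset (FreeGroup (Fin 2)), rels.card ≤ 80 ∧
      Nonempty (PresentedGroup (↑rels : Set (FreeGroup (Fin 2))) ≃* Cfsg.PSU n F q) := by
  rcases eq_or_lt_of_le hn with rfl | h4
  · exact two_of_psu hF le_rfl (fun _ => by omega) (psu_of_su hF (by omega) (su3_presB hF hq)) (by norm_num)
  · obtain ⟨R, hR, ⟨e⟩⟩ := psu_short hF hq (n := n) h4
    exact two_of_psu hF hn (fun _ => by omega) (of_presentation R le_rfl e)
      (hR.trans (by split_ifs <;> omega))

/-- Two generators for `PSU₃(3)`. -/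
theorem two_gen_three (hF : Fintype.card F = q ^ 2) (hq : q = 3) :
    ∃ rels : Finset (FreeGroup (Fin 2)), rels.card ≤ 80 ∧
      Nonempty (PresentedGroup (↑rels : Set (FreeGroup (Fin 2))) ≃* Cfsg.PSU 3 F q) := by
  obtain ⟨C⟩ := PSU3Index.exists_ctx hF
  obtain ⟨j, hj⟩ := IsCyclic.exists_generator (α := Fˣ)
  obtain ⟨R, hR, ⟨e⟩⟩ := exists_pres_three C hj hq
  exact two_of_psu hF le_rfl (fun _ => by omega) (psu_of_su hF (by omega) (of_presentation R hR e))
    (by norm_num)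

end Cfsg.Agent.SUGlue
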